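import Cfsg.Agent.Bender43.Cores
import Cfsg.Agent.Lib.Solvable.Basic

/-!
Fixed points of elements of prime order in transitive groups of odd order (PLAN of S1221, open core):
such an element never fixes exactly two points, and a consequence for orbits of odd normal
subgroups.
-/

set_option autoImplicit false

namespace Cfsg.Agent.Bender85.OddTrans

open MulAction
open scoped Pointwise

universe u v

/-- A permutation of prime period fixes a point in an invariant set of size prime to the period. -/
theorem exists_fixed_of_invariant {X : Type v} [Finite X] {p : ℕ} [Fact p.Prime] {f : Equiv.Perm X}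
    (hf : f ^ p = 1) {s : Set X} (hs : ∀ x, f x ∈ s ↔ x ∈ s) (hcard : ¬ p ∣ s.ncard) :
    ∃ x ∈ s, f x = x := by
  classical
  haveI := Fintype.ofFinite X
  set σ : Equiv.Perm s := f.subtypePerm (p := fun x => x ∈ s) fun x => hs x with hσ
  have hσp : σ ^ p ^ 1 = 1 := by
    rw [pow_one, hσ, Equiv.Perm.subtypePerm_pow]
    ext x
    simp [hf]
  obtain ⟨x, hx⟩ := Equiv.Perm.exists_fixed_point_of_prime (p := p)
    (by rwa [← Nat.card_eq_fintype_card, Nat.card_coe_set_eq]) hσp
  exact ⟨x.1, x.2, congrArg Subtype.val hx⟩

/-- If an element of an odd transitive permutation group has prime period, it does not fix exactly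
two points. -/
theorem perm_fixed_ne_two : ∀ (n : ℕ) (X : Type v) [Finite X] (L : Subgroup (Equiv.Perm X)),
    Nat.card L = n → Odd n → IsPretransitive L X → ∀ (p : ℕ), p.Prime → ∀ f ∈ L, f ^ p = 1 →
      {x : X | f x = x}.ncard ≠ 2 := by
  intro n
  induction n using Nat.strong_induction_on with
  | _ n ih =>
    intro X _ L hn hodd htrans p hp f hfL hfp h2
    haveI := Fact.mk hp
    obtain ⟨x, y, hxy, hfix⟩ := Set.ncard_eq_two.1 h2
    have hfx : f x = x := by
      have : x ∈ {z : X | f z = z} := by rw [hfix]; simp
      exact this
    have hfy : f y = y := by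
      have : y ∈ {z : X | f z = z} := by rw [hfix]; simp
      exact this
    have honly : ∀ z, f z = z → z = x ∨ z = y := fun z hz => by
      have : z ∈ ({x, y} : Set X) := hfix ▸ hz
      simpa using this
    haveI : Nontrivial L := by
      obtain ⟨g, hg⟩ := exists_smul_eq L x y
      exact ⟨⟨g, 1, fun h => hxy (by rw [← hg, h, one_smul])⟩⟩
    haveI : Group.IsSolvable L := Bender43.solvable_of_odd (hn.symm ▸ hodd)
    obtain ⟨V, l, hVn, hV1, -, hl, hVl, hVc, -, -⟩ :=
      Cfsg.Agent.Solvable.exists_minimal_normal_elementary L
    haveI := hVn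
    haveI := Fact.mk hl
    have hVodd : Odd (Nat.card V) := (hn.symm ▸ hodd).of_dvd_nat V.card_subgroup_dvd_card
    set fL : L := ⟨f, hfL⟩ with hfLdef
    -- `x` and `y` lie in different orbits of `V`
    have hsep : orbit V x ≠ orbit V y := by
      intro hxyo
      obtain ⟨v, hv⟩ : y ∈ orbit V x := hxyo ▸ mem_orbit_self y
      have hvy : ((v : L) : Equiv.Perm X) x = y := hv
      have hcomm : ∀ a b : V, a * b = b * a := fun a b => hVc.is_comm.comm a b
      set w : V := ⟨fL * (v : L) * fL⁻¹, hVn.conj_mem _ v.2 fL⟩ with hw
      have hwx : w • x = v • x := by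
        show f (((v : L) : Equiv.Perm X) (f⁻¹ x)) = ((v : L) : Equiv.Perm X) x
        rw [Equiv.Perm.inv_eq_iff_eq.2 hfx.symm, hvy, hfy]
      have hz : f ((v⁻¹ : V) • x) = (v⁻¹ : V) • x := by
        have e : v⁻¹ • x = w⁻¹ • x := by
          have h1 : v⁻¹ • w • x = x := by rw [hwx, inv_smul_smul]
          rw [← mul_smul, hcomm, mul_smul] at h1
          exact (eq_inv_smul_iff.2 h1)
        conv_rhs => rw [e]
        show f ((((v : L) : Equiv.Perm X))⁻¹ x) =
          ((fL * (v : L) * fL⁻¹ : L) : Equiv.Perm X)⁻¹ x
        show f ((((v : L) : Equiv.Perm X))⁻¹ x) = (f * ((v : L) : Equiv.Perm X) * f⁻¹)⁻¹ x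
        rw [mul_inv_rev, mul_inv_rev, inv_inv, Equiv.Perm.mul_apply, Equiv.Perm.mul_apply,
          Equiv.Perm.inv_eq_iff_eq.2 hfx.symm]
      have hodd2 : ∀ k : V, (k * k) • x = x → k • x = x := by
        intro k hk
        obtain ⟨i, hi⟩ := hVodd.of_dvd_nat (orderOf_dvd_natCard k)
        have hki : ∀ j : ℕ, (k * k) ^ j • x = x := by
          intro j
          induction j with
          | zero => rw [pow_zero, one_smul]
          | succ j hj => rw [pow_succ, mul_smul, hk, hj]
        have : (k * k) ^ (i + 1) = k := by
          rw [← pow_two, ← pow_mul, show 2 * (i + 1) = orderOf k + 1 by omega, pow_succ,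
            pow_orderOf_eq_one, one_mul]
        rw [← this]
        exact hki _
      rcases honly _ hz with h | h
      · exact hxy (by rw [← hv]; exact (inv_smul_eq_iff.1 h))
      · refine hxy ?_
        have : (v * v) • x = x := by
          rw [mul_smul]
          show v • v • x = x
          rw [show v • x = v⁻¹ • x from hv.trans h.symm, smul_inv_smul]
        rw [← hv]
        exact (hodd2 v this).symm
    -- the action on the orbits of `V`
    let B := orbitRel.Quotient V X
    have hwell : ∀ (g : L) (a b : X), orbitRel V X a b → orbitRel V X (g • a) (g • b) := by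
      intro g a b hab
      obtain ⟨v, rfl⟩ := orbitRel_apply.1 hab
      refine orbitRel_apply.2 ⟨⟨g * (v : L) * g⁻¹, hVn.conj_mem _ v.2 g⟩, ?_⟩
      show (g * (v : L) * g⁻¹ : L) • g • b = g • (v : L) • b
      rw [← mul_smul, inv_mul_cancel_right, mul_smul]
    letI actB : MulAction L B :=
      { smul := fun g => Quotient.map' (fun a => g • a) (hwell g)
        one_smul := fun q => Quotient.inductionOn' q fun a => congrArg _ (one_smul L a)
        mul_smul := fun g h q => Quotient.inductionOn' q fun a => congrArg _ (mul_smul g h a) }
    have hsmul : ∀ (g : L) (a : X), g • (Quotient.mk'' a : B) = Quotient.mk'' (g • a) :=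
      fun _ _ => rfl
    haveI : Finite B := Finite.of_surjective _ Quotient.mk''_surjective
    set M := (MulAction.toPermHom L B).range with hM
    have hMlt : Nat.card M < n := by
      rw [← hn, ← Subgroup.index_ker, ← (MulAction.toPermHom L B).ker.card_mul_index]
      refine lt_mul_of_one_lt_left (Nat.pos_of_ne_zero Subgroup.index_ne_zero_of_finite) ?_
      have hle : V ≤ (MulAction.toPermHom L B).ker := fun v hv => by
        refine MonoidHom.mem_ker.2 (Equiv.ext fun q => Quotient.inductionOn' q fun a => ?_)
        exact Quotient.sound' (orbitRel_apply.2 ⟨⟨v, hv⟩, rfl⟩)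
      refine lt_of_lt_of_le ?_ (Subgroup.card_le_of_le hle)
      rwa [Finite.one_lt_card_iff_nontrivial, Subgroup.nontrivial_iff_ne_bot]
    refine ih _ hMlt B M rfl ((hn.symm ▸ hodd).of_dvd_nat (Subgroup.card_range_dvd _)) ⟨?_⟩ p hp
      (MulAction.toPermHom L B fL) ⟨fL, rfl⟩ ?_ ?_
    · intro q q'
      induction q using Quotient.inductionOn' with
      | h a =>
        induction q' using Quotient.inductionOn' with
        | h b =>
          obtain ⟨g, hg⟩ := exists_smul_eq L a b
          exact ⟨⟨_, g, rfl⟩, by rw [← hg]; rfl⟩
    · rw [← map_pow, show fL ^ p = 1 from Subtype.ext hfp, map_one]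
    · -- exactly two orbits are fixed
      refine Set.ncard_eq_two.2 ⟨Quotient.mk'' x, Quotient.mk'' y, fun h => hsep ?_, ?_⟩
      · exact orbit_eq_iff.2 (orbitRel_apply.1 (Quotient.eq''.1 h))
      ext q
      induction q using Quotient.inductionOn' with
      | h a =>
        constructor
        · intro hq
          have hq' : orbitRel V X (f a) a := Quotient.eq''.1 hq
          have hinv : ∀ b, f b ∈ orbit V a ↔ b ∈ orbit V a := by
            have himg : ∀ b, b ∈ orbit V a → f b ∈ orbit V a := fun b hb =>
              orbitRel_apply.1 ((orbitRel V X).trans' (hwell fL b a (orbitRel_apply.2 hb)) hq')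
            refine fun b => ⟨fun hb => ?_, himg b⟩
            have hit : ∀ j : ℕ, (f ^ j) (f b) ∈ orbit V a := by
              intro j
              induction j with
              | zero => exact hb
              | succ j hj => rw [pow_succ', Equiv.Perm.mul_apply]; exact himg _ hj
            have := hit (p - 1)
            rwa [← Equiv.Perm.mul_apply, ← pow_succ, Nat.sub_add_cancel hp.one_le, hfp,
              Equiv.Perm.one_apply] at this
          obtain ⟨c, hc, hfc⟩ : ∃ c ∈ orbit V a, f c = c := by
            by_cases hpl : p ∣ (orbit V a).ncard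
            · -- then `p = l` and the orbits through fixed points are singletons
              exfalso
              have hone : ∀ b, f b = b → (orbit V b).ncard = 1 := by
                intro b hb
                have hbinv : ∀ c, f c ∈ orbit V b ↔ c ∈ orbit V b := by
                  intro c
                  have e : ∀ c, c ∈ orbit V b → f c ∈ orbit V b := fun c hc => by
                    have := orbitRel_apply.1 (hwell fL c b (orbitRel_apply.2 hc))
                    have hb' : fL • b = b := hb
                    rwa [hb'] at this
                  refine ⟨fun hc => ?_, e c⟩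
                  have hit : ∀ j : ℕ, (f ^ j) (f c) ∈ orbit V b := by
                    intro j
                    induction j with
                    | zero => exact hc
                    | succ j hj => rw [pow_succ', Equiv.Perm.mul_apply]; exact e _ hj
                  have := hit (p - 1)
                  rwa [← Equiv.Perm.mul_apply, ← pow_succ, Nat.sub_add_cancel hp.one_le, hfp,
                    Equiv.Perm.one_apply] at this
                obtain ⟨i, hi⟩ := hVl.card_orbit b
                rw [Nat.card_coe_set_eq] at hi
                by_contra hne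
                have hli : l ∣ (orbit V b).ncard := by
                  rw [hi]
                  refine dvd_pow_self l fun h0 => hne ?_
                  rw [hi, h0, pow_zero]
                obtain ⟨i', hi'⟩ := hVl.card_orbit a
                rw [Nat.card_coe_set_eq] at hi'
                have hpl' : p = l := by
                  rw [hi'] at hpl
                  exact (Nat.prime_dvd_prime_iff_eq hp hl).1 (hp.dvd_of_dvd_pow hpl)
                -- a fixed point in an orbit of size divisible by `p` forces a second one
                classical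
                haveI := Fintype.ofFinite X
                set σ : Equiv.Perm (orbit V b) :=
                  f.subtypePerm (p := fun c => c ∈ orbit V b) hbinv with hσ
                have hσp : σ ^ p ^ 1 = 1 := by
                  rw [pow_one, hσ, Equiv.Perm.subtypePerm_pow]
                  ext c
                  simp [hfp]
                obtain ⟨c, hc1, hc2⟩ := Equiv.Perm.exists_fixed_point_of_prime' (p := p)
                  (by rw [← Nat.card_eq_fintype_card, Nat.card_coe_set_eq, hpl']; exact hli) hσp
                  (a := ⟨b, mem_orbit_self b⟩) (Subtype.ext hb)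
                have hfc : f c.1 = c.1 := congrArg Subtype.val hc1
                have hcb : c.1 ≠ b := fun e => hc2 (Subtype.ext e)
                refine hsep ?_
                rcases honly b hb with rfl | rfl <;> rcases honly c.1 hfc with h | h
                · exact absurd h hcb
                · exact (orbit_eq_iff.2 (h ▸ c.2)).symm
                · exact orbit_eq_iff.2 (h ▸ c.2)
                · exact absurd h hcb
              obtain ⟨e, he⟩ := Set.ncard_eq_one.1 (hone x hfx)
              have htriv : ∀ (v : V) (z : X), v • z = z := by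
                intro v z
                obtain ⟨g, hg⟩ := exists_smul_eq L x z
                set v' : V := ⟨g⁻¹ * (v : L) * g, by
                  simpa using hVn.conj_mem _ v.2 g⁻¹⟩ with hv'
                have h1 : v' • x = x := by
                  have h2 : x ∈ orbit V x := mem_orbit_self x
                  have h3 := mem_orbit x v'
                  rw [he] at h2 h3
                  exact h3.trans h2.symm
                rw [← hg]
                show (v : L) • g • x = g • x
                conv_rhs => rw [← h1]
                show (v : L) • g • x = g • (g⁻¹ * (v : L) * g) • x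
                rw [← mul_smul, ← mul_smul]
                congr 1
                group
              have hsing : (orbit V a).ncard = 1 := Set.ncard_eq_one.2 ⟨a, by
                ext z
                refine ⟨fun ⟨v, hv⟩ => hv ▸ htriv v a, fun hz => ?_⟩
                rw [Set.mem_singleton_iff.1 hz]
                exact mem_orbit_self a⟩
              rw [hsing] at hpl
              exact hp.one_lt.ne' (Nat.dvd_one.1 hpl)
            · exact exists_fixed_of_invariant hfp hinv hpl
          have hca : (Quotient.mk'' a : B) = Quotient.mk'' c :=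
            (Quotient.sound' (orbitRel_apply.2 hc)).symm
          rcases honly c hfc with rfl | rfl
          · exact Or.inl hca
          · exact Or.inr hca
        · rintro (h | h) <;> rw [h]
          · exact congrArg Quotient.mk'' hfx
          · exact congrArg Quotient.mk'' hfy

/-- An element of prime period of a transitive group of odd order does not fix exactly two
points. -/
theorem ncard_fixed_ne_two {L : Type u} {X : Type v} [Group L] [Finite L] [MulAction L X]
    [Finite X] (hodd : Odd (Nat.card L)) [IsPretransitive L X] {p : ℕ} (hp : p.Prime) {f : L}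
    (hfp : f ^ p = 1) : (fixedBy X f).ncard ≠ 2 := by
  refine perm_fixed_ne_two _ X (MulAction.toPermHom L X).range rfl
    (hodd.of_dvd_nat (Subgroup.card_range_dvd _)) ⟨fun a b => ?_⟩ p hp _ ⟨f, rfl⟩
    (by rw [← map_pow, hfp, map_one])
  obtain ⟨g, hg⟩ := exists_smul_eq L a b
  exact ⟨⟨_, g, rfl⟩, hg⟩

/-- An element of odd prime period with exactly two fixed points cannot commute, modulo an odd
normal subgroup, with an involution fixing exactly one of them. -/
theorem not_exact_pair {C : Type u} {X : Type v} [Group C] [Finite C] [MulAction C X] [Finite X]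
    (O : Subgroup C) [O.Normal] (hO : Odd (Nat.card O)) {a b : X} (hab : a ≠ b) {y f : C}
    (hyy : y * y = 1) (hya : ∀ z : X, y • z = z ↔ z = a) {p : ℕ} (hp : p.Prime) (hp2 : p ≠ 2)
    (hfp : f ^ p = 1) (hfix : fixedBy X f = {a, b}) (hcomm : y * f * y⁻¹ * f⁻¹ ∈ O) : False := by
  haveI := Fact.mk hp
  have hfa : f • a = a := by
    have : a ∈ fixedBy X f := by rw [hfix]; simp
    exact this
  have hfb : f • b = b := by
    have : b ∈ fixedBy X f := by rw [hfix]; simp
    exact this
  have hya' : y • a = a := (hya a).2 rfl
  have hinvar : ∀ (g : C) (z w : X), z ∈ orbit O w → g • z ∈ orbit O (g • w) := by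
    rintro g z w ⟨o, rfl⟩
    refine ⟨⟨g * (o : C) * g⁻¹, Subgroup.Normal.conj_mem ‹_› _ o.2 g⟩, ?_⟩
    show (g * (o : C) * g⁻¹) • g • w = g • (o : C) • w
    rw [← mul_smul, inv_mul_cancel_right, mul_smul]
  by_cases hsame : y • b ∈ orbit O b
  · -- `y` fixes a point of the odd orbit of `b`, which can only be `a`
    have hinvy : ∀ z, (MulAction.toPerm y : Equiv.Perm X) z ∈ orbit O b ↔ z ∈ orbit O b := by
      have e : ∀ z, z ∈ orbit O b → y • z ∈ orbit O b := fun z hz => by
        have := hinvar y z b hz
        rwa [orbit_eq_iff.2 hsame] at this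
      refine fun z => ⟨fun hz => ?_, e z⟩
      have h : y • y • z ∈ orbit O b := e _ hz
      rwa [← mul_smul, hyy, one_smul] at h
    haveI : Fact (Nat.Prime 2) := ⟨Nat.prime_two⟩
    have hyp : (MulAction.toPerm y : Equiv.Perm X) ^ 2 = 1 := by
      rw [pow_two]
      ext z
      show y • y • z = z
      rw [← mul_smul, hyy, one_smul]
    have hodd : ¬ 2 ∣ (orbit O b).ncard := by
      rw [← Nat.card_coe_set_eq, ← even_iff_two_dvd, Nat.not_even_iff_odd]
      refine hO.of_dvd_nat ?_
      rw [Nat.card_congr (orbitEquivQuotientStabilizer O b)]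
      exact Subgroup.index_dvd_card _
    obtain ⟨d, hd, hyd⟩ := exists_fixed_of_invariant hyp hinvy hodd
    obtain rfl : d = a := (hya d).1 hyd
    -- `O⟨f⟩` is transitive of odd order on the orbit
    set K := O ⊔ Subgroup.zpowers f with hK
    have hKodd : Odd (Nat.card K) := by
      have h1 : Nat.card K ∣ Nat.card O * Nat.card (Subgroup.zpowers f) := by
        have h2 := Subgroup.relIndex_mul_relIndex ⊥ O K bot_le le_sup_left
        rw [Subgroup.relIndex_bot_left, Subgroup.relIndex_bot_left] at h2
        rw [← h2, hK, Subgroup.relIndex_sup_left]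
        exact mul_dvd_mul_left _ (Subgroup.index_dvd_card _)
      refine Odd.of_dvd_nat (hO.mul ?_) h1
      rw [Nat.card_zpowers]
      exact (Nat.Prime.odd_of_ne_two hp hp2).of_dvd_nat (orderOf_dvd_of_pow_eq_one hfp)
    have horb : ∀ g ∈ K, ∀ z ∈ orbit O b, g • z ∈ orbit O b := by
      have hle : K ≤ stabilizer C (orbit O b) := by
        refine sup_le (fun o ho => ?_) (Subgroup.zpowers_le.2 ?_)
        · exact mem_stabilizer_iff.2 (smul_orbit (⟨o, ho⟩ : O) b)
        · refine mem_stabilizer_iff.2 (Set.ext fun z => ⟨?_, fun hz => ?_⟩)
          · rintro ⟨w, hw, rfl⟩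
            have := hinvar f w b hw
            rwa [hfb] at this
          · refine ⟨f⁻¹ • z, ?_, smul_inv_smul f z⟩
            have := hinvar f⁻¹ z b hz
            rwa [inv_smul_eq_iff.2 hfb.symm] at this
      intro g hg z hz
      rw [← mem_stabilizer_iff.1 (hle hg)]
      exact Set.smul_mem_smul_set hz
    letI act : MulAction K (orbit O b) :=
      { smul := fun g z => ⟨(g : C) • z.1, horb g g.2 z.1 z.2⟩
        one_smul := fun z => Subtype.ext (one_smul C z.1)
        mul_smul := fun g h z => Subtype.ext (mul_smul (g : C) (h : C) z.1) }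
    haveI : IsPretransitive K (orbit O b) := ⟨by
      rintro ⟨z, oz, rfl⟩ ⟨w, ow, rfl⟩
      refine ⟨⟨(ow * oz⁻¹ : O), Subgroup.mem_sup_left (ow * oz⁻¹).2⟩, Subtype.ext ?_⟩
      show ((ow * oz⁻¹ : O)) • oz • b = ow • b
      rw [← mul_smul, inv_mul_cancel_right]⟩
    refine ncard_fixed_ne_two (X := orbit O b) hKodd hp
      (f := (⟨f, Subgroup.mem_sup_right (Subgroup.mem_zpowers f)⟩ : K)) (Subtype.ext hfp) ?_
    refine Set.ncard_eq_two.2 ⟨⟨d, hd⟩, ⟨b, mem_orbit_self b⟩,
      fun h => hab (congrArg Subtype.val h), ?_⟩
    ext ⟨z, hz⟩
    constructor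
    · intro h
      have hzf : z ∈ fixedBy X f := congrArg Subtype.val h
      rw [hfix] at hzf
      rcases hzf with rfl | h'
      · exact Or.inl rfl
      · exact Or.inr (Subtype.ext (Set.mem_singleton_iff.1 h'))
    · rintro (h | h) <;> rw [h]
      · exact Subtype.ext hfa
      · exact Subtype.ext hfb
  · -- two orbits of one size, congruent to `1` and to `0` modulo `p`
    set b' := y • b with hb'
    have hfb' : f • b' ∈ orbit O b' := by
      have h : (y * f * y⁻¹ * f⁻¹)⁻¹ ∈ O := inv_mem hcomm
      refine ⟨⟨_, h⟩, ?_⟩
      show (y * f * y⁻¹ * f⁻¹)⁻¹ • y • b = f • y • b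
      have e : (y * f * y⁻¹ * f⁻¹)⁻¹ * y = f * y * f⁻¹ := by group
      rw [← mul_smul, e, mul_smul, inv_smul_eq_iff.2 hfb.symm, mul_smul]
    have hsize : (orbit O b').ncard = (orbit O b).ncard := by
      have e : orbit O b' = (fun z => y • z) '' orbit O b := by
        ext z
        refine ⟨fun hz => ⟨y • z, ?_, by show y • y • z = z; rw [← mul_smul, hyy, one_smul]⟩,
          fun ⟨w, hw, h⟩ => h ▸ hinvar y w b hw⟩
        have := hinvar y z b' hz
        rwa [hb', ← mul_smul, hyy, one_smul] at this
      rw [e, Set.ncard_image_of_injective _ (MulAction.injective y)]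
    have hfp' : (MulAction.toPerm f : Equiv.Perm X) ^ p = 1 := by
      have h : MulAction.toPermHom C X (f ^ p) = 1 := by rw [hfp, map_one]
      rwa [map_pow] at h
    have hinv : ∀ w, f • w ∈ orbit O w →
        ∀ z, (MulAction.toPerm f : Equiv.Perm X) z ∈ orbit O w ↔ z ∈ orbit O w := by
      intro w hw
      have e : ∀ z, z ∈ orbit O w → f • z ∈ orbit O w := fun z hz => by
        have := hinvar f z w hz
        rwa [orbit_eq_iff.2 hw] at this
      refine fun z => ⟨fun hz => ?_, e z⟩
      have hit : ∀ j : ℕ, f ^ j • f • z ∈ orbit O w := by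
        intro j
        induction j with
        | zero => rw [pow_zero, one_smul]; exact hz
        | succ j hj => rw [pow_succ', mul_smul]; exact e _ hj
      have := hit (p - 1)
      rwa [← mul_smul, ← pow_succ, Nat.sub_add_cancel hp.one_le, hfp, one_smul] at this
    have hnota : a ∉ orbit O b' := fun h => by
      have := hinvar y a b' h
      rw [hya', hb', ← mul_smul, hyy, one_smul] at this
      exact hsame (by
        rw [← orbit_eq_iff.2 this]
        have h' := orbit_eq_iff.2 h
        rw [h']
        exact mem_orbit_self _)
    have hdiv : p ∣ (orbit O b').ncard := by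
      by_contra hno
      obtain ⟨z, hz, hfz⟩ := exists_fixed_of_invariant hfp' (hinv b' hfb') hno
      have hzf : z ∈ fixedBy X f := hfz
      rw [hfix] at hzf
      rcases hzf with rfl | rfl
      · exact hnota hz
      · exact hsame (by rw [orbit_eq_iff.2 hz]; exact mem_orbit_self _)
    rw [hsize] at hdiv
    classical
    haveI := Fintype.ofFinite X
    set σ : Equiv.Perm (orbit O b) := (MulAction.toPerm f : Equiv.Perm X).subtypePerm
      (p := fun z => z ∈ orbit O b) (hinv b (by rw [hfb]; exact mem_orbit_self b)) with hσ
    have hσp : σ ^ p ^ 1 = 1 := by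
      rw [pow_one, hσ, Equiv.Perm.subtypePerm_pow]
      ext z
      simp [hfp']
    obtain ⟨z, hz1, hz2⟩ := Equiv.Perm.exists_fixed_point_of_prime' (p := p)
      (by rwa [← Nat.card_eq_fintype_card, Nat.card_coe_set_eq]) hσp
      (a := ⟨b, mem_orbit_self b⟩) (Subtype.ext hfb)
    have hzf : z.1 ∈ fixedBy X f := congrArg Subtype.val hz1
    rw [hfix] at hzf
    rcases hzf with h | h
    · -- `a` in the orbit of `b` puts `y • b` there as well
      have ha : a ∈ orbit O b := h ▸ z.2
      have := hinvar y a b ha
      rw [hya'] at this
      exact hsame (by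
        rw [← orbit_eq_iff.2 ha, orbit_eq_iff.2 this]
        exact mem_orbit_self _)
    · exact hz2 (Subtype.ext (Set.mem_singleton_iff.1 h))

end Cfsg.Agent.Bender85.OddTrans
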