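import Cfsg.Agent.Bender85.Defs
import Cfsg.Agent.Bender85.OddTrans
import Cfsg.Agent.BenderCons37.Pairs

/-!
A maximal subgroup among the `r`-groups fixing three points, when the Sylow `r`-subgroups of
two-point stabilisers are exact: its normaliser is doubly transitive on its fixed points, contains
two commuting involutions, and every fixed point is the centre of one of its involutions.
-/

set_option autoImplicit false
set_option linter.style.haveILetI false
set_option linter.unusedSectionVars false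

namespace Cfsg.Agent.Bender85

open Subgroup MulAction Bender43 Bender43.Fixed

universe u

variable {G : Type u} [Group G] [Finite G] {H : Subgroup G} {r : ℕ}

omit [Finite G] in
/-- A group of prime power order has elements just above any proper subgroup. -/
theorem exists_pow_mem_not_mem [Fact r.Prime] {W X : Subgroup G} (hW : IsPGroup r W) (h : X < W) :
    ∃ w ∈ W, w ∉ X ∧ w ^ r ∈ X := by
  classical
  obtain ⟨w, hw, hwX⟩ := SetLike.exists_of_lt h
  obtain ⟨k, hk⟩ := hW ⟨w, hw⟩
  have hex : ∃ m, w ^ r ^ m ∈ X :=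
    ⟨k, by rw [show w ^ r ^ k = 1 from congrArg Subtype.val hk]; exact one_mem X⟩
  obtain ⟨m, hm⟩ : ∃ m, Nat.find hex = m + 1 := by
    cases hfind : Nat.find hex with
    | zero =>
      refine absurd ?_ hwX
      have := Nat.find_spec hex
      rwa [hfind, pow_zero, pow_one] at this
    | succ m => exact ⟨m, rfl⟩
  refine ⟨w ^ r ^ m, pow_mem hw _, Nat.find_min hex (by omega), ?_⟩
  rw [← pow_mul, ← pow_succ, ← hm]
  exact Nat.find_spec hex

/-- In a subgroup without two commuting involutions every involution is central modulo an odd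
normal subgroup. -/
theorem exists_core_of_no_four {N : Subgroup G}
    (hno : ¬ BenderCons37.RankTwo N) {v : N} (hv : orderOf v = 2) :
    ∃ O : Subgroup N, O.Normal ∧ Odd (Nat.card O) ∧ ∀ g : N, v * g * v⁻¹ * g⁻¹ ∈ O := by
  refine ZStar.zStar hv fun g => ?_
  have hc : orderOf (g * v * g⁻¹) = 2 := by rw [TwoFusionB.orderOf_conj_eq, hv]
  have hvv := TwoFusionB.sq_eq_one_of_inv hv
  have hcc := TwoFusionB.sq_eq_one_of_inv hc
  rw [show v * g * v⁻¹ * g⁻¹ = v * (g * v * g⁻¹) by
    rw [TwoFusionB.inv_eq_of_inv hv]; group]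
  by_contra hev
  rw [Nat.not_odd_iff_even] at hev
  set z := (v * (g * v * g⁻¹)) ^ (orderOf (v * (g * v * g⁻¹)) / 2) with hz
  have hz2 : orderOf z = 2 := Involution.orderOf_pow_half hev (orderOf_pos _).ne'
  have e1 := BenderCons37.no_four_of_not_rankTwo hno hz2 hv
    (Involution.commute_pow_half_left hvv hcc hev)
  have e2 := BenderCons37.no_four_of_not_rankTwo hno hz2 hc
    (Involution.commute_pow_half_right hvv hcc hev)
  rw [← e2, e1, hvv, orderOf_one] at hev
  exact Nat.not_even_one hev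

omit [Finite G] in
/-- An `r`-group fixing two points and properly containing a maximal one fixes just those. -/
theorem fixSet_eq_pair {X : Subgroup G}
    (hmax : ∀ X' : Subgroup G, IsPGroup r X' → X < X' → ¬ ThreeFix H X') {a b : G ⧸ H} (hab : a ≠ b)
    {W : Subgroup G} (hW : IsPGroup r W) (hWD : W ≤ stab2 a b) (hXW : X < W) :
    fixSet H W = {a, b} := by
  have ha : a ∈ fixSet H W := fun t ht => mem_stabilizer_iff.1 (mem_inf.1 (hWD ht)).1
  have hb : b ∈ fixSet H W := fun t ht => mem_stabilizer_iff.1 (mem_inf.1 (hWD ht)).2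
  refine Set.Subset.antisymm (fun c hc => ?_) ?_
  · by_contra hcn
    simp only [Set.mem_insert_iff, Set.mem_singleton_iff, not_or] at hcn
    exact hmax W hW hXW ⟨a, ha, b, hb, c, hc, hab, Ne.symm hcn.1, Ne.symm hcn.2⟩
  · rintro c (rfl | rfl)
    · exact ha
    · exact hb

omit [Finite G] in
theorem ncard_two_lt_of_threeFix [Finite G] {X : Subgroup G} (h3 : ThreeFix H X) :
    2 < (fixSet H X).ncard := by
  obtain ⟨a, ha, b, hb, c, hc, hab, hac, hbc⟩ := h3
  exact (Set.two_lt_ncard_iff (Set.toFinite _)).2 ⟨a, b, c, ha, hb, hc, hab, hac, hbc⟩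

variable (hC : Ctx H)
include hC

omit hC in
/-- Each pair of fixed points has a larger `r`-group in the normaliser. -/
theorem exists_larger [Fact r.Prime] (hE : ExactPrime H r) {X : Subgroup G} (hX : IsPGroup r X)
    (h3 : ThreeFix H X) {a b : G ⧸ H} (ha : a ∈ fixSet H X) (hb : b ∈ fixSet H X) (hab : a ≠ b) :
    ∃ W : Subgroup G, IsPGroup r W ∧ W ≤ normalizer (X : Set G) ⊓ stab2 a b ∧ X < W := by
  have hXD : X ≤ stab2 a b := fun t ht =>
    mem_inf.2 ⟨mem_stabilizer_iff.2 (ha t ht), mem_stabilizer_iff.2 (hb t ht)⟩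
  obtain ⟨T, hT⟩ := (hX.comap_subtype (K := stab2 a b)).exists_le_sylow
  set P := (T : Subgroup (stab2 a b : Subgroup G)).map (stab2 a b).subtype with hP
  have hXP : X ≤ P := fun t ht => ⟨⟨t, hXD ht⟩, hT (mem_subgroupOf.2 ht), rfl⟩
  have hlt : X < P := by
    refine lt_of_le_of_ne hXP fun e => ?_
    have h2 := ncard_two_lt_of_threeFix h3
    rw [e, hP, hE a b hab T, Set.ncard_pair hab] at h2
    exact lt_irrefl _ h2
  obtain ⟨w, hw, hwN, hwX⟩ := exists_normalizer_gt (T.isPGroup'.map _) hlt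
  refine ⟨P ⊓ normalizer (X : Set G), (T.isPGroup'.map _).to_le inf_le_left,
    le_inf inf_le_right (inf_le_left.trans (map_subtype_le _)),
    lt_of_le_of_ne (le_inf hXP le_normalizer) fun e => hwX ?_⟩
  rw [e]
  exact mem_inf.2 ⟨hw, hwN⟩

/-- The normaliser is transitive on ordered pairs of fixed points. -/
theorem two_transitive_normalizer [Fact r.Prime] (hE : ExactPrime H r) {X : Subgroup G}
    (hX : IsPGroup r X) (h3 : ThreeFix H X)
    (hmax : ∀ X' : Subgroup G, IsPGroup r X' → X < X' → ¬ ThreeFix H X') {x y x' y' : G ⧸ H}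
    (hx : x ∈ fixSet H X) (hy : y ∈ fixSet H X) (hx' : x' ∈ fixSet H X) (hy' : y' ∈ fixSet H X)
    (hne : x ≠ y) (hne' : x' ≠ y') :
    ∃ g ∈ normalizer (X : Set G), g • x = x' ∧ g • y = y' := by
  refine BenderCons37.two_transitive_of_exact_pairs (p := r) (fun g hg c hc => smul_mem_fixSet hg hc)
    (ncard_two_lt_of_threeFix h3) (fun a ha b hb hba => ?_) hx hy hx' hy' hne hne'
  obtain ⟨W, hW, hWN, hXW⟩ := exists_larger hE hX h3 ha hb hba.symm
  have hfix := fixSet_eq_pair hmax hba.symm hW (hWN.trans inf_le_right) hXW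
  refine ⟨W, hWN.trans inf_le_left, hW, fun t ht => ?_, fun c _ => ?_⟩
  · have : a ∈ fixSet H W := by rw [hfix]; exact Set.mem_insert a _
    exact this t ht
  · show c ∈ fixSet H W ↔ _
    rw [hfix, Set.mem_insert_iff, Set.mem_singleton_iff]

/-- Any two fixed points are exchanged by an involution of the normaliser. -/
theorem exists_swap_normalizer [Fact r.Prime] (hE : ExactPrime H r) {X : Subgroup G}
    (hX : IsPGroup r X) (h3 : ThreeFix H X)
    (hmax : ∀ X' : Subgroup G, IsPGroup r X' → X < X' → ¬ ThreeFix H X') {a b : G ⧸ H}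
    (ha : a ∈ fixSet H X) (hb : b ∈ fixSet H X) (hab : a ≠ b) :
    ∃ v ∈ normalizer (X : Set G), orderOf v = 2 ∧ v • a = b := by
  haveI : Fact (Nat.Prime 2) := ⟨Nat.prime_two⟩
  obtain ⟨g, hg, hga, hgb⟩ := two_transitive_normalizer hC hE hX h3 hmax ha hb hb ha hab hab.symm
  have hmem : g * g ∈ stab2 a b := by
    refine mem_inf.2 ⟨?_, ?_⟩ <;> rw [mem_stabilizer_iff, mul_smul]
    · rw [hga, hgb]
    · rw [hgb, hga]
  have hodd : Odd (orderOf (g * g)) := RankOne.odd_orderOf_of_mem (odd_stab2 hC.se hab) hmem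
  obtain ⟨i, hi⟩ := hodd
  have hmove : ∀ j : ℕ, (g * g) ^ j • a = a := fun j =>
    mem_stabilizer_iff.1 (mem_inf.1 (pow_mem hmem j)).1
  have hva : g ^ (2 * i + 1) • a = b := by
    rw [pow_succ', mul_smul, pow_mul, pow_two, hmove, hga]
  refine ⟨g ^ (2 * i + 1), pow_mem hg _, orderOf_eq_prime ?_ fun e => hab ?_, hva⟩
  · rw [← pow_mul, mul_comm, pow_mul, pow_two, ← hi, pow_orderOf_eq_one]
  · rw [e, one_smul] at hva
    exact hva

/-- The fixed points are odd in number, so each is the centre of an involution of the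
normaliser. -/
theorem exists_centred_normalizer [Fact r.Prime] (hr2 : r ≠ 2) (hE : ExactPrime H r)
    {X : Subgroup G} (hX : IsPGroup r X) (h3 : ThreeFix H X)
    (hmax : ∀ X' : Subgroup G, IsPGroup r X' → X < X' → ¬ ThreeFix H X') {c : G ⧸ H}
    (hc : c ∈ fixSet H X) :
    ∃ v ∈ normalizer (X : Set G), orderOf v = 2 ∧ v • c = c := by
  classical
  haveI : Fact (Nat.Prime 2) := ⟨Nat.prime_two⟩
  set N := normalizer (X : Set G) with hN
  -- it suffices that some involution has its centre among the fixed points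
  suffices key : ∃ v ∈ N, orderOf v = 2 ∧ ∃ p ∈ fixSet H X, v • p = p by
    obtain ⟨v, hv, hv2, p, hp, hvp⟩ := key
    obtain ⟨g, hg, hgp⟩ : ∃ g ∈ N, g • p = c := by
      by_cases h : p = c
      · exact ⟨1, one_mem _, by rw [one_smul, h]⟩
      · obtain ⟨g, hg, -, e⟩ := exists_swap_normalizer hC hE hX h3 hmax hp hc h
        exact ⟨g, hg, e⟩
    refine ⟨g * v * g⁻¹, mul_mem (mul_mem hg hv) (inv_mem hg),
      by rw [TwoFusionB.orderOf_conj_eq, hv2], ?_⟩
    rw [mul_smul, mul_smul, inv_smul_eq_iff.2 hgp.symm, hvp, hgp]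
  by_contra hnone
  push Not at hnone
  obtain ⟨a, ha, b, hb, d, hd, hab, had, hbd⟩ := h3
  have h3 : ThreeFix H X := ⟨a, ha, b, hb, d, hd, hab, had, hbd⟩
  obtain ⟨v, hv, hv2, hva⟩ := exists_swap_normalizer hC hE hX h3 hmax ha hb hab
  have hXodd : Odd (Nat.card X) := by
    obtain ⟨i, hi⟩ := IsPGroup.iff_card.1 hX
    rw [hi]
    exact ((Fact.out : r.Prime).odd_of_ne_two hr2).pow
  -- no two commuting involutions
  have hno : ¬ BenderCons37.RankTwo N := by
    rintro ⟨x, y, hx1, hy1, hne, hxx, hyy, hxy⟩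
    have hx2 : orderOf (x : G) = 2 := by
      rw [Subgroup.orderOf_coe, BenderCons37.orderOf_eq_two hx1 hxx]
    have hy2 : orderOf (y : G) = 2 := by
      rw [Subgroup.orderOf_coe, BenderCons37.orderOf_eq_two hy1 hyy]
    have hxy' : (x : G) * y = y * x := congrArg Subtype.val hxy
    obtain ⟨p, hp⟩ := TwoFusionB.exists_fix hC.se hx2
    have hyp : (y : G) • p = p :=
      TwoFusionB.fix_unique hC.se hx2 (by rw [smul_smul, hxy', mul_smul, hp]) hp
    refine hnone x x.2 hx2 p (fun t ht => ?_) hp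
    refine (RankOne.le_of_four_group (H := stabilizer G p) hXodd
      (congrArg Subtype.val hxx) (congrArg Subtype.val hyy) hxy'
      (fun n hn => (mem_normalizer_iff.1 x.2 n).1 hn) (fun n hn => (mem_normalizer_iff.1 y.2 n).1 hn)
      (fun n _ h => ?_) (fun n _ h => ?_) (fun n _ h => ?_)) ht <;> rw [mem_stabilizer_iff]
    · exact TwoFusionB.fix_unique hC.se hx2 (by rw [smul_smul, h, mul_smul, hp]) hp
    · exact TwoFusionB.fix_unique hC.se hy2 (by rw [smul_smul, h, mul_smul, hyp]) hyp
    · have h3 : orderOf ((x : G) * y) = 2 := by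
        refine orderOf_eq_prime ?_ fun h1 => hne (Subtype.ext ?_)
        · rw [pow_two, mul_assoc, ← mul_assoc (y : G), ← hxy', mul_assoc (x : G) y y,
            TwoFusionB.sq_eq_one_of_inv hy2, mul_one, TwoFusionB.sq_eq_one_of_inv hx2]
        · rw [← TwoFusionB.inv_eq_of_inv hy2]
          exact eq_inv_of_mul_eq_one_left h1
      have h4 : ((x : G) * y) • p = p := by rw [mul_smul, hyp, hp]
      exact TwoFusionB.fix_unique hC.se h3 (by rw [smul_smul, h, mul_smul, h4]) h4
  obtain ⟨O, hOn, hOodd, hcomm⟩ :=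
    exists_core_of_no_four hno (v := ⟨v, hv⟩) (by rw [Subgroup.orderOf_mk, hv2])
  have hstab : ∀ o : O, ((o : N) : G) • a = a := by
    intro o
    by_contra ho
    -- otherwise the orbit of `a` is the whole fixed point set, of odd size
    have hmemF : ∀ o : O, ((o : N) : G) • a ∈ fixSet H X := fun o => smul_mem_fixSet (o : N).2 ha
    have horb : orbit O a = fixSet H X := by
      refine Set.Subset.antisymm ?_ fun e he => ?_
      · rintro _ ⟨o', rfl⟩
        exact hmemF o'
      · by_cases hea : e = a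
        · exact ⟨1, by rw [hea]; exact one_smul O a⟩
        obtain ⟨g, hg, hga, hge⟩ :=
          two_transitive_normalizer hC hE hX h3 hmax ha (hmemF o) ha he (Ne.symm ho) (Ne.symm hea)
        refine ⟨⟨⟨g, hg⟩ * (o : N) * ⟨g, hg⟩⁻¹, hOn.conj_mem _ o.2 _⟩, ?_⟩
        show (g * ((o : N) : G) * g⁻¹) • a = e
        rw [mul_smul, mul_smul, inv_smul_eq_iff.2 hga.symm, hge]
    have hFodd : ¬ 2 ∣ (fixSet H X).ncard := by
      rw [← horb, ← Nat.card_coe_set_eq, ← even_iff_two_dvd, Nat.not_even_iff_odd]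
      refine hOodd.of_dvd_nat ?_
      rw [Nat.card_congr (orbitEquivQuotientStabilizer O a)]
      exact Subgroup.index_dvd_card _
    have hvp : (MulAction.toPerm v : Equiv.Perm (G ⧸ H)) ^ 2 = 1 := by
      rw [pow_two]
      ext e
      show v • v • e = e
      rw [← mul_smul, TwoFusionB.sq_eq_one_of_inv hv2, one_smul]
    obtain ⟨p, hp, hvfix⟩ := OddTrans.exists_fixed_of_invariant hvp (s := fixSet H X)
      (fun e => ⟨fun he => by
          have h : v • (v • e) ∈ fixSet H X := smul_mem_fixSet hv he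
          rwa [← mul_smul, TwoFusionB.sq_eq_one_of_inv hv2, one_smul] at h,
        fun he => smul_mem_fixSet hv he⟩) hFodd
    exact hnone v hv hv2 p hp hvfix
  -- so the involution commutes with the action, and the third point is the image of `a` as well
  obtain ⟨g, hg, hga, hgb⟩ := two_transitive_normalizer hC hE hX h3 hmax ha hb ha hd hab had
  have ho := hcomm ⟨g, hg⟩
  have e1 := hstab ⟨_, ho⟩
  push_cast at e1
  rw [mul_smul, mul_smul, mul_smul, inv_smul_eq_iff.2 hga.symm] at e1
  have e2 : v⁻¹ • a = b := by rw [TwoFusionB.inv_eq_of_inv hv2, hva]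
  rw [e2, hgb] at e1
  exact hbd (hva.symm.trans (by rw [← e1, smul_smul, TwoFusionB.sq_eq_one_of_inv hv2, one_smul]))

/-- A maximal `r`-group fixing three points: centres, rank, and exact pairs in the normaliser. -/
theorem maximal_case (hr : r.Prime) (hr2 : r ≠ 2) (hE : ExactPrime H r) {X : Subgroup G}
    (hX : IsPGroup r X) (h3 : ThreeFix H X)
    (hmax : ∀ X' : Subgroup G, IsPGroup r X' → X < X' → ¬ ThreeFix H X') :
    (∀ c ∈ fixSet H X, ∃ v ∈ normalizer (X : Set G), orderOf v = 2 ∧ v • c = c) ∧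
      BenderCons37.RankTwo (normalizer (X : Set G) : Subgroup G) ∧
      ∀ a b : G ⧸ H, a ≠ b → ∀ W : Subgroup G, IsPGroup r W →
        W ≤ normalizer (X : Set G) ⊓ stab2 a b → X < W → fixSet H W = {a, b} := by
  classical
  haveI := Fact.mk hr
  set N := normalizer (X : Set G) with hN
  refine ⟨fun c hc => exists_centred_normalizer hC hr2 hE hX h3 hmax hc, ?_,
    fun a b hab W hW hWle hlt => fixSet_eq_pair hmax hab hW (hWle.trans inf_le_right) hlt⟩
  by_contra hno
  obtain ⟨a, ha, b, hb, d, hd, hab, had, hbd⟩ := h3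
  have h3 : ThreeFix H X := ⟨a, ha, b, hb, d, hd, hab, had, hbd⟩
  obtain ⟨v, hv, hv2, hva⟩ := exists_centred_normalizer hC hr2 hE hX h3 hmax ha
  obtain ⟨O, hOn, hOodd, hcomm⟩ :=
    exists_core_of_no_four hno (v := ⟨v, hv⟩) (by rw [Subgroup.orderOf_mk, hv2])
  obtain ⟨W, hW, hWle, hlt⟩ := exists_larger hE hX h3 ha hb hab
  obtain ⟨w, hw, hwX, hwr⟩ := exists_pow_mem_not_mem hW hlt
  -- the action on the fixed points
  let F := fixSet H X
  letI act : MulAction N F :=
    { smul := fun g c => ⟨(g : G) • c.1, smul_mem_fixSet g.2 c.2⟩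
      one_smul := fun c => Subtype.ext (one_smul G c.1)
      mul_smul := fun g g' c => Subtype.ext (mul_smul (g : G) (g' : G) c.1) }
  set φ := (MulAction.toPermHom N F).rangeRestrict with hφ
  have hφs : Function.Surjective φ := MonoidHom.rangeRestrict_surjective _
  haveI : (O.map φ).Normal := hOn.map φ hφs
  have hwN : w ∈ N := (hWle hw |> mem_inf.1).1
  have hval : ∀ (g : N) (c : F), ((φ g • c : F) : G ⧸ H) = (g : G) • (c : G ⧸ H) := fun _ _ => rfl
  refine OddTrans.not_exact_pair (C := (MulAction.toPermHom N F).range) (X := F) (O.map φ)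
    (hOodd.of_dvd_nat (card_map_dvd _ φ)) (a := ⟨a, ha⟩) (b := ⟨b, hb⟩)
    (fun e => hab (congrArg Subtype.val e)) (y := φ ⟨v, hv⟩) (f := φ ⟨w, hwN⟩) ?_ (fun c => ?_)
    hr hr2 ?_ ?_ ?_
  · rw [← map_mul, show (⟨v, hv⟩ : N) * ⟨v, hv⟩ = 1 from
      Subtype.ext (TwoFusionB.sq_eq_one_of_inv hv2), map_one]
  · constructor
    · intro h
      exact Subtype.ext (TwoFusionB.fix_unique hC.se hv2
        (by rw [← hval ⟨v, hv⟩ c, h]) hva)
    · rintro rfl
      exact Subtype.ext ((hval _ _).trans hva)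
  · rw [← map_pow]
    refine Subtype.ext (Equiv.ext fun c => Subtype.ext ?_)
    exact c.2 _ hwr
  · -- fixed points of `w` are fixed by the larger group `X⟨w⟩`
    have hle : X ⊔ zpowers w ≤ W := sup_le hlt.le (zpowers_le.2 hw)
    have hlt' : X < X ⊔ zpowers w := lt_of_le_of_ne le_sup_left fun e =>
      hwX (e.symm ▸ mem_sup_right (mem_zpowers w))
    have hfix := fixSet_eq_pair hmax hab (hW.to_le hle) (hle.trans (hWle.trans inf_le_right)) hlt'
    ext ⟨c, hc⟩
    constructor
    · intro h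
      have hwc : w • c = c := congrArg Subtype.val h
      have hsub : X ⊔ zpowers w ≤ stabilizer G c :=
        sup_le (fun t ht => mem_stabilizer_iff.2 (hc t ht))
          (zpowers_le.2 (mem_stabilizer_iff.2 hwc))
      have hcm : c ∈ fixSet H (X ⊔ zpowers w) := fun t ht => mem_stabilizer_iff.1 (hsub ht)
      rw [hfix] at hcm
      rcases hcm with rfl | h'
      · exact Or.inl rfl
      · exact Or.inr (Subtype.ext (Set.mem_singleton_iff.1 h'))
    · intro h
      have hwab : ∀ e : G ⧸ H, e = a ∨ e = b → w • e = e := by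
        intro e he
        have hem : e ∈ fixSet H (X ⊔ zpowers w) := by
          rw [hfix]
          exact he
        exact hem w (mem_sup_right (mem_zpowers w))
      rcases h with h | h
      · exact Subtype.ext (hwab c (Or.inl (congrArg Subtype.val h)))
      · exact Subtype.ext (hwab c (Or.inr (congrArg Subtype.val (Set.mem_singleton_iff.1 h))))
  · rw [← map_inv, ← map_inv, ← map_mul, ← map_mul, ← map_mul]
    exact mem_map_of_mem φ (hcomm _)

end Cfsg.Agent.Bender85
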