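import Cfsg.Agent.Bender85.Local

set_option autoImplicit false
set_option linter.style.haveILetI false
set_option linter.unusedSectionVars false

/-!
Bender's Lemma Z and the criterion for commuting involutions: if a proper subgroup contains all
involutions at a point and a further involution, those involutions commute.
-/

namespace Cfsg.Agent.Bender85

open Subgroup MulAction Bender43 Bender43.Fixed
open scoped Pointwise

universe u

variable {G : Type u} [Group G] [Finite G] {H : Subgroup G}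

/-- The centres of the involutions of `N`. -/
def centresOf (H N : Subgroup G) : Set (G ⧸ H) := {d | ∃ v ∈ N, orderOf v = 2 ∧ v • d = d}

omit [Finite G] in
theorem rankTwo_mono {N L : Subgroup G} (h : N ≤ L) (hR : BenderCons37.RankTwo N) :
    BenderCons37.RankTwo L := by
  obtain ⟨x, y, hx, hy, hne, hxx, hyy, hxy⟩ := hR
  have hi := Subgroup.inclusion_injective h
  refine ⟨inclusion h x, inclusion h y, ?_, ?_, fun e => hne (hi e), ?_, ?_, ?_⟩
  · exact fun e => hx (hi (e.trans (map_one _).symm))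
  · exact fun e => hy (hi (e.trans (map_one _).symm))
  · rw [← map_mul, hxx, map_one]
  · rw [← map_mul, hyy, map_one]
  · rw [← map_mul, ← map_mul, hxy]

theorem exists_centre_ne (hC : Ctx H) {w : G} (hw : orderOf w = 2) {c : G ⧸ H} (hwc : w • c ≠ c) :
    ∃ a : G ⧸ H, w • a = a ∧ c ≠ a := by
  obtain ⟨a, ha⟩ := TwoFusionB.exists_fix hC.se hw
  exact ⟨a, ha, fun e => hwc (e.symm ▸ ha)⟩

theorem ne_top_normalizer (hC : Ctx H) {X : Subgroup G} (hX : X ≠ ⊥) (hodd : Odd (Nat.card X)) :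
    normalizer (X : Set G) ≠ ⊤ := by
  intro h
  refine hX (le_bot_iff.1 ?_)
  rw [← hC.core]
  exact Thompson.le_pPrimeCore (normalizer_eq_top_iff.1 h) (Nat.coprime_two_right.2 hodd)

/-- A subgroup of a point stabiliser normalised by it, fixing another point, is trivial. -/
theorem eq_bot_of_fix (hC : Ctx H) {U : Subgroup G} {c a : G ⧸ H} (hca : c ≠ a)
    (hn : stabilizer G c ≤ normalizer (U : Set G)) (hc : U ≤ stabilizer G c)
    (ha : U ≤ stabilizer G a) : U = ⊥ := by
  have hall : ∀ x ∈ U, ∀ p : G ⧸ H, x • p = p := by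
    intro x hx p
    by_cases hpc : p = c
    · rw [hpc]; exact hc hx
    obtain ⟨g, hg⟩ := QuotientGroup.mk_surjective (s := H) c
    obtain ⟨g₁, hg₁⟩ := QuotientGroup.mk_surjective (s := H) (g⁻¹ • a)
    obtain ⟨g₂, hg₂⟩ := QuotientGroup.mk_surjective (s := H) (g⁻¹ • p)
    have hbase : g • (QuotientGroup.mk 1 : G ⧸ H) = c := by
      rw [Quotient.smul_mk, smul_eq_mul, mul_one, hg]
    have key : ∀ {q : G ⧸ H}, q ≠ c → ∀ {k : G},
        (QuotientGroup.mk k : G ⧸ H) = g⁻¹ • q → k ∉ H := by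
      intro q hq k hk hkH
      refine hq ?_
      rw [← hbase, ← inv_smul_eq_iff, ← hk, QuotientGroup.eq]
      simpa using hkH
    obtain ⟨h, hh, hh'⟩ : ∃ h ∈ H, g₂⁻¹ * (h * g₁) ∈ H := by
      rcases Bender43.dichotomy hC.se with h | ⟨-, h⟩
      · exact h g₁ g₂ (key hca.symm hg₁) (key hpc hg₂)
      · rw [hC.core, bot_sup_eq] at h
        exact absurd h hC.se.1
    -- `k` fixes `c` and sends `a` to `p`
    set k := g * h * g⁻¹ with hk
    have hkc : k ∈ stabilizer G c := by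
      rw [mem_stabilizer_iff, ← hbase, smul_smul, hk, mul_assoc, inv_mul_cancel, mul_one, mul_smul,
        TwoFusionB.smul_one_eq_iff.2 hh]
    have hkp : k • a = p := by
      rw [hk, mul_smul, mul_smul, ← hg₁, ← eq_inv_smul_iff, ← hg₂, Quotient.smul_mk, smul_eq_mul,
        eq_comm, QuotientGroup.eq]
      exact hh'
    have hx' : k⁻¹ * x * k ∈ U := (mem_normalizer_iff''.1 (hn hkc) x).1 hx
    have := mem_stabilizer_iff.1 (ha hx')
    rw [mul_smul, mul_smul, hkp, inv_smul_eq_iff, hkp] at this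
    exact this
  refine le_bot_iff.1 ?_
  rw [← BenderCons37.normalCore_eq_bot hC.se hC.core]
  intro x hx g
  have := hall x hx (QuotientGroup.mk g⁻¹)
  rw [TwoFusionB.smul_mk_eq_iff, inv_inv] at this
  exact this

/-- Lemma Z: an element of `O_q(G_c)` fixing all centres of a proper subgroup is trivial. -/
theorem lemmaZ (hC : Ctx H) {N : Subgroup G} {v w : G}
    (hv : v ∈ N) (hv2 : orderOf v = 2) (hw : w ∈ N) (hw2 : orderOf w = 2) {c : G ⧸ H}
    (hvc : v • c = c) (hwc : w • c ≠ c) (hR : BenderCons37.RankTwo N) {q : ℕ} (hq : q.Prime)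
    (hq2 : q ≠ 2) :
    op q (stabilizer G c) ⊓ fixingSubgroup G (centresOf H N) = ⊥ := by
  haveI : Fact q.Prime := ⟨hq⟩
  set S := fixingSubgroup G (centresOf H N) with hS
  set U := op q (stabilizer G c) with hU
  obtain ⟨a, hwa, hca⟩ := exists_centre_ne hC hw2 hwc
  have hc : c ∈ centresOf H N := ⟨v, hv, hv2, hvc⟩
  have hSle : ∀ d ∈ centresOf H N, S ≤ stabilizer G d := fun d hd s hs =>
    (mem_fixingSubgroup_iff G).1 hs d hd
  have hmove : ∀ n ∈ N, ∀ d ∈ centresOf H N, n • d ∈ centresOf H N := by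
    rintro n hn d ⟨z, hz, hz2, hzd⟩
    exact ⟨n * z * n⁻¹, mul_mem (mul_mem hn hz) (inv_mem hn),
      by rw [TwoFusionB.orderOf_conj_eq, hz2], by rw [mul_smul, mul_smul, inv_smul_smul, hzd]⟩
  have hNS : N ≤ normalizer (S : Set G) := by
    refine Coprime.le_normalizer_of_conj_mem fun n hn x hx => ?_
    rw [hS, mem_fixingSubgroup_iff]
    intro d hd
    rw [mul_smul, mul_smul, (mem_fixingSubgroup_iff G).1 hx _ (hmove _ (inv_mem hn) d hd),
      smul_inv_smul]
  -- the join of the intersections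
  set Ws : Set G := {x | x ∈ S ∧ ∃ d ∈ centresOf H N, x ∈ op q (stabilizer G d)} with hWs
  set W := closure Ws with hW
  have hWop : W ≤ op q S := by
    rw [hW, closure_le]
    rintro x ⟨hxS, d, hd, hxd⟩
    refine le_op (N := op q (stabilizer G d) ⊓ S) inf_le_right ?_
      ((op_isPGroup q _).to_le inf_le_left) (mem_inf.2 ⟨hxd, hxS⟩)
    refine Coprime.le_normalizer_of_conj_mem fun s hs y hy => mem_inf.2 ⟨?_, ?_⟩
    · exact (mem_normalizer_iff.1 (le_normalizer_op q _ (hSle d hd hs)) y).1 (mem_inf.1 hy).1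
    · exact mul_mem (mul_mem hs (mem_inf.1 hy).2) (inv_mem hs)
  have hWS : W ≤ S := hWop.trans (op_le q S)
  have hWp : IsPGroup q W := (op_isPGroup q S).to_le hWop
  have hUW : U ⊓ S ≤ W := fun x hx =>
    subset_closure ⟨(mem_inf.1 hx).2, c, hc, (mem_inf.1 hx).1⟩
  have hWN : N ≤ normalizer (W : Set G) := by
    refine le_normalizer_closure ?_
    rintro n hn x ⟨hxS, d, hd, hxd⟩
    refine ⟨(mem_normalizer_iff.1 (hNS hn) x).1 hxS, n • d, hmove n hn d hd, ?_⟩
    rw [stabilizer_smul_eq_stabilizer_map_conj, op_map_equiv]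
    exact ⟨x, hxd, rfl⟩
  by_cases hW0 : W = ⊥
  · exact le_bot_iff.1 (hW0 ▸ hUW)
  have hWodd : Odd (Nat.card W) := by
    obtain ⟨n, hn⟩ := IsPGroup.iff_card.1 hWp
    rw [hn]; exact (hq.odd_of_ne_two hq2).pow
  have hUodd : Odd (Nat.card U) := by
    obtain ⟨n, hn⟩ := IsPGroup.iff_card.1 (op_isPGroup q (stabilizer G c))
    rw [hn]; exact (hq.odd_of_ne_two hq2).pow
  set L := normalizer (W : Set G) with hLdef
  have hLtop : L ≠ ⊤ := ne_top_normalizer hC hW0 hWodd
  have hvL := hWN hv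
  have hwL := hWN hw
  have hRL := rankTwo_mono hWN hR
  -- `N_U(W)` lies in the core of `L`, so in `W`
  have hNU : U ⊓ L ≤ W := by
    have hM : U ⊓ L ≤ (Cfsg.oddCore L).map L.subtype := by
      refine odd_le_core hC hLtop hvL hv2 hwL hw2 hvc hwa hca hRL hvL hv2 hvc
        (hUodd.of_dvd_nat (card_dvd_of_le inf_le_left))
        (le_inf inf_le_right (inf_le_left.trans (op_le q _))) ?_
      refine Coprime.le_normalizer_of_conj_mem fun g hg y hy => mem_inf.2 ⟨?_, ?_⟩
      · exact (mem_normalizer_iff.1 (le_normalizer_op q _ (mem_inf.1 hg).2) y).1 (mem_inf.1 hy).1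
      · exact mul_mem (mul_mem (mem_inf.1 hg).1 (mem_inf.1 hy).2) (inv_mem (mem_inf.1 hg).1)
    refine fun x hx => hUW (mem_inf.2 ⟨(mem_inf.1 hx).1, (mem_fixingSubgroup_iff G).2 ?_⟩)
    rintro d ⟨z, hz, hz2, hzd⟩
    exact core_fix hC hLtop hvL hv2 hwL hw2 hvc hwa hca hRL (hWN hz) hz2 hzd (hM hx)
  -- so `U ≤ W`
  have hWU : W ≤ normalizer (U : Set G) :=
    (hWS.trans (hSle c hc)).trans (le_normalizer_op q _)
  have hP : IsPGroup q ↥(W ⊔ U) := hWp.to_sup_of_normal_right' (op_isPGroup q _) hWU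
  have hUleW : U ≤ W := by
    by_contra hne
    have hlt : W.subgroupOf (W ⊔ U) < ⊤ := by
      rw [lt_top_iff_ne_top, Ne, subgroupOf_eq_top]
      exact fun h => hne (le_sup_right.trans h)
    haveI : Group.IsNilpotent ↥(W ⊔ U) := hP.isNilpotent
    obtain ⟨s, hs, hsn⟩ := SetLike.exists_of_lt (Group.normalizerCondition_of_isNilpotent _ hlt)
    have hsW : (s : G) ∈ L := by
      rw [hLdef, mem_normalizer_iff]
      intro x
      constructor
      · intro hx
        exact (mem_normalizer_iff.1 hs ⟨x, mem_sup_left hx⟩).1 hx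
      · intro hx
        have hxP : x ∈ W ⊔ U := by
          have := mul_mem (mul_mem (inv_mem s.2) (mem_sup_left (T := U) hx)) s.2
          simpa [mul_assoc] using this
        exact (mem_normalizer_iff.1 hs ⟨x, hxP⟩).2 hx
    have hs' : (s : G) ∈ ((W ⊔ U : Subgroup G) : Set G) := s.2
    rw [coe_mul_of_left_le_normalizer_right _ _ hWU] at hs'
    obtain ⟨y, hy, u, hu, hyu⟩ := hs'
    refine hsn (mem_subgroupOf.2 ?_)
    rw [← hyu]
    refine mul_mem hy (hNU (mem_inf.2 ⟨hu, ?_⟩))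
    have : u = y⁻¹ * s := by rw [← hyu]; group
    rw [this]
    exact mul_mem (inv_mem (le_normalizer hy)) hsW
  have h0 : U = ⊥ := eq_bot_of_fix hC hca (le_normalizer_op q _) (op_le q _)
    ((hUleW.trans hWS).trans (hSle a ⟨w, hw, hw2, hwa⟩))
  rw [h0, bot_inf_eq]

/-- A finite solvable group with all `O_q` trivial is trivial, for subgroups. -/
theorem eq_bot_of_op_eq_bot {M : Subgroup G} [Group.IsSolvable M]
    (h : ∀ q : ℕ, q.Prime → op q M = ⊥) : M = ⊥ := by
  have hF : Cfsg.fittingSubgroup M = ⊥ := by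
    rw [Fitting.fitting_eq_iSup_pCore, eq_bot_iff, iSup_le_iff]
    rintro ⟨q, hq⟩
    have := h q hq
    rw [op, map_eq_bot_iff_of_injective _ (subtype_injective M)] at this
    exact le_of_eq this
  rw [eq_bot_iff]
  intro x hx
  have hmem : (⟨x, hx⟩ : M) ∈ Cfsg.fittingSubgroup M :=
    Fitting.centralizer_fitting_le (by rw [mem_centralizer_iff, hF]; simp)
  rw [hF, mem_bot] at hmem
  exact mem_bot.2 (congrArg Subtype.val hmem)

theorem exists_pair_invAt (hC : Ctx H) (c : G ⧸ H) :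
    ∃ x ∈ invAt H c, ∃ y ∈ invAt H c, x ≠ y ∧ Commute x y := by
  obtain ⟨x, hx, y, hy, hx2, hy2, hne, hxy⟩ := BenderCons37.exists_four_mem hC.se hC.rank
  obtain ⟨g, rfl⟩ := QuotientGroup.mk_surjective c
  refine ⟨g * x * g⁻¹, ⟨by rw [TwoFusionB.orderOf_conj_eq, hx2], ?_⟩, g * y * g⁻¹,
    ⟨by rw [TwoFusionB.orderOf_conj_eq, hy2], ?_⟩, fun e => hne (by simpa using e), ?_⟩
  · rw [TwoFusionB.smul_mk_eq_iff]; simpa [mul_assoc] using hx
  · rw [TwoFusionB.smul_mk_eq_iff]; simpa [mul_assoc] using hy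
  · exact hxy.map (MulAut.conj g).toMonoidHom

/-- If a proper subgroup contains all involutions at `c` and one moving `c`, involutions of `H`
commute. -/
theorem comm_of_contains (hC : Ctx H) {N : Subgroup G} (hN : N ≠ ⊤) {c : G ⧸ H}
    (hI : invAt H c ⊆ (N : Set G)) {w : G} (hw : w ∈ N) (hw2 : orderOf w = 2) (hwc : w • c ≠ c) :
    Comm H := by
  obtain ⟨x₀, hx₀, y₀, hy₀, hne₀, hxy₀⟩ := exists_pair_invAt hC c
  have hv := hI hx₀
  have hR : BenderCons37.RankTwo N :=
    ⟨⟨x₀, hI hx₀⟩, ⟨y₀, hI hy₀⟩,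
      fun e => TwoFusionB.ne_one_of_inv hx₀.1 (congrArg Subtype.val e),
      fun e => TwoFusionB.ne_one_of_inv hy₀.1 (congrArg Subtype.val e),
      fun e => hne₀ (congrArg Subtype.val e), Subtype.ext (TwoFusionB.sq_eq_one_of_inv hx₀.1),
      Subtype.ext (TwoFusionB.sq_eq_one_of_inv hy₀.1), Subtype.ext hxy₀.eq⟩
  obtain ⟨a, hwa, hca⟩ := exists_centre_ne hC hw2 hwc
  set L := closure (invAt H c) with hLdef
  set K := (Cfsg.oddCore N).map N.subtype with hK
  have hLN : L ≤ N := (closure_le N).2 hI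
  have hLc : L ≤ stabilizer G c := (closure_le _).2 fun z hz => hz.2
  have hcL : stabilizer G c ≤ normalizer (L : Set G) := by
    refine le_normalizer_closure fun d hd z hz => ⟨by rw [TwoFusionB.orderOf_conj_eq, hz.1], ?_⟩
    rw [mul_smul, mul_smul, inv_smul_eq_iff.2 (mem_stabilizer_iff.1 hd).symm, hz.2,
      mem_stabilizer_iff.1 hd]
  have hKN : N ≤ normalizer (K : Set G) := le_normalizer_map_subtype _
  have hKfix : K ≤ fixingSubgroup G (centresOf H N) := by
    refine fun x hx => (mem_fixingSubgroup_iff G).2 ?_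
    rintro d ⟨z, hz, hz2, hzd⟩
    exact core_fix hC hN hv hx₀.1 hw hw2 hx₀.2 hwa hca hR hz hz2 hzd hx
  have hKM : L ⊓ K = ⊥ := by
    have hodd : Odd (Nat.card ↥(L ⊓ K)) := by
      refine Odd.of_dvd_nat ?_ (card_dvd_of_le inf_le_right)
      rw [hK, card_map_of_injective (subtype_injective N)]
      exact BenderCons37.oddCore_card_odd
    haveI : Group.IsSolvable ↥(L ⊓ K) := solvable_of_odd hodd
    refine eq_bot_of_op_eq_bot fun q hq => ?_
    by_cases hq2 : q = 2
    · subst hq2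
      haveI : Fact (Nat.Prime 2) := ⟨hq⟩
      obtain ⟨n, hn⟩ := IsPGroup.iff_card.1 (op_isPGroup 2 (L ⊓ K))
      have hd := hodd.of_dvd_nat (card_dvd_of_le (op_le 2 (L ⊓ K)))
      rw [hn] at hd
      refine card_eq_one.1 ?_
      rw [hn]
      rcases n with _ | n
      · rfl
      · exact absurd hd (by simp [parity_simps])
    -- `O_q(L ⊓ K)` is in `O_q(L)`, so in `O_q(G_c)`
    have h1 : op q (L ⊓ K) ≤ op q L :=
      op_mono_of_normal inf_le_left
        (Coprime.le_normalizer_of_conj_mem fun g hg y hy => mem_inf.2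
          ⟨mul_mem (mul_mem hg (mem_inf.1 hy).1) (inv_mem hg),
            (mem_normalizer_iff.1 (hKN (hLN hg)) y).1 (mem_inf.1 hy).2⟩)
    have h2 : op q L ≤ op q (stabilizer G c) := op_mono_of_normal hLc hcL
    refine le_bot_iff.1 ?_
    rw [← lemmaZ hC hv hx₀.1 hw hw2 hx₀.2 hwc hR hq hq2]
    exact le_inf (h1.trans h2) (((op_le q _).trans inf_le_right).trans hKfix)
  intro x hx y hy hx2 hy2
  obtain ⟨g, hg⟩ := MulAction.exists_smul_eq G ((1 : G) : G ⧸ H) c
  have hconj : ∀ z ∈ H, orderOf z = 2 → g * z * g⁻¹ ∈ invAt H c := fun z hz hz2 =>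
    ⟨by rw [TwoFusionB.orderOf_conj_eq, hz2],
      by rw [← hg, mul_smul, mul_smul, inv_smul_smul, TwoFusionB.smul_one_eq_iff.2 hz]⟩
  have hx' := hconj x hx hx2
  have hy' := hconj y hy hy2
  set x' := g * x * g⁻¹ with hx'def
  set y' := g * y * g⁻¹ with hy'def
  have hmem : x' * y' * x'⁻¹ * y'⁻¹ ∈ L ⊓ K := mem_inf.2
    ⟨mul_mem (mul_mem (mul_mem (subset_closure hx') (subset_closure hy'))
      (inv_mem (subset_closure hx'))) (inv_mem (subset_closure hy')),
      commutator_mem hC hN hv hx₀.1 hw hw2 hx₀.2 hwa hca hR (hI hx') hx'.1 (hI hy') hy'.1 hx'.2 hy'.2⟩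
  rw [hKM, mem_bot, ← commutatorElement_def, commutatorElement_eq_one_iff_mul_comm] at hmem
  have := congrArg (fun z => g⁻¹ * z * g) hmem
  simpa [hx'def, hy'def, mul_assoc, Commute, SemiconjBy] using this

/-- If a subgroup normalised by `G_ab`, by a swapper and by an involution at `a` is non-trivial,
involutions of `H` commute. -/
theorem comm_of_normal (hC : Ctx H) {u : G} {a b c : G ⧸ H}
    (hu : Swap H u a b c) {X : Subgroup G} (hX : X ≠ ⊥) (hXD : X ≤ stab2 a b)
    (hDX : stab2 a b ≤ normalizer (X : Set G)) (huX : u ∈ normalizer (X : Set G)) {t : G}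
    (ht : t ∈ invAt H a) (htX : t ∈ normalizer (X : Set G)) : Comm H := by
  have hN : normalizer (X : Set G) ≠ ⊤ :=
    ne_top_normalizer hC hX ((odd_stab2 hC.se hu.ne).of_dvd_nat (card_dvd_of_le hXD))
  refine comm_of_contains hC hN (c := b) ?_ huX hu.inv ?_
  · rintro z ⟨hz2, hzb⟩
    obtain ⟨s, hs2, hsa, hst⟩ := TwoFusionB.exists_swap_conj hC.se ht.1 hz2 ht.2 hzb hu.ne
    have hsD : s * u ∈ stab2 a b := by
      refine mem_inf.2 ⟨?_, ?_⟩ <;> rw [mem_stabilizer_iff, mul_smul]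
      · rw [hu.swap, TwoFusionB.smul_swap hs2 hsa]
      · rw [TwoFusionB.smul_swap hu.inv hu.swap, hsa]
    have hsN : s ∈ normalizer (X : Set G) := by
      have := mul_mem (hDX hsD) huX
      rwa [mul_assoc, TwoFusionB.sq_eq_one_of_inv hu.inv, mul_one] at this
    rw [← hst]
    exact mul_mem (mul_mem hsN htX) hsN
  · rw [TwoFusionB.smul_swap hu.inv hu.swap]
    exact hu.ne

end Cfsg.Agent.Bender85
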