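import Cfsg.Agent.Bender85.Defs

/-!
Bender's theorem, local facts: odd groups normalised by four-groups, and proper subgroups `N`
containing involutions with different centres, through `Below` applied to `N / O(N)`.
-/

set_option autoImplicit false
set_option linter.unusedSectionVars false
set_option linter.style.haveILetI false

namespace Cfsg.Agent.Bender85

open Subgroup MulAction Bender43 Bender43.Fixed

universe u

variable {G : Type u} [Group G] [Finite G] {H : Subgroup G}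

/-- Every point stabiliser is strongly embedded. -/
theorem stronglyEmbedded_stabilizer (hH : Cfsg.IsStronglyEmbedded H) (c : G ⧸ H) :
    Cfsg.IsStronglyEmbedded (stabilizer G c) := by
  rw [Involution.stronglyEmbedded_iff]
  refine ⟨fun e => ?_, ?_, fun g t ht ht2 hgt => ?_⟩
  · obtain ⟨d, hd⟩ := TwoFusionB.exists_ne_coset hH c
    obtain ⟨g, hg⟩ := exists_smul_eq G c d
    exact hd ((mem_stabilizer_iff.1 (e ▸ mem_top g)).symm.trans hg)
  · obtain ⟨⟨a, ha, hac⟩⟩ := (Nat.card_pos_iff.1 (TwoFusionB.fixInv_card_pos hH c)).1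
    exact Involution.even_card_of_involution (mem_stabilizer_iff.2 hac) ha
  · rw [mem_stabilizer_iff] at ht hgt ⊢
    rw [mul_smul, mul_smul, ← eq_inv_smul_iff] at hgt
    exact (inv_smul_eq_iff.1 (TwoFusionB.fix_unique hH ht2 hgt ht)).symm

/-- An odd group normalised by a four-group fixes the centre of the four-group. -/
theorem le_stabilizer_of_four (hC : Ctx H) {x y : G} {c : G ⧸ H} (hx : x ∈ invAt H c)
    (hy : y ∈ invAt H c) (hne : x ≠ y) (hxy : Commute x y) {K : Subgroup G}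
    (hK : Odd (Nat.card K)) (hxK : x ∈ normalizer (K : Set G))
    (hyK : y ∈ normalizer (K : Set G)) : K ≤ stabilizer G c := by
  obtain ⟨hx2, hxc⟩ := hx
  obtain ⟨hy2, hyc⟩ := hy
  have key : ∀ z : G, orderOf z = 2 → z • c = c → ∀ n : G, z * n = n * z → n ∈ stabilizer G c :=
    fun z hz hzc n h => mem_stabilizer_iff.2
      (TwoFusionB.fix_unique hC.se hz (by rw [smul_smul, h, mul_smul, hzc]) hzc)
  have h3 : orderOf (x * y) = 2 := by
    refine orderOf_eq_prime ?_ fun h1 => hne ?_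
    · rw [pow_two, mul_assoc, ← mul_assoc y, ← hxy.eq, mul_assoc x y y,
        TwoFusionB.sq_eq_one_of_inv hy2, mul_one, TwoFusionB.sq_eq_one_of_inv hx2]
    · rw [← TwoFusionB.inv_eq_of_inv hy2]
      exact eq_inv_of_mul_eq_one_left h1
  exact RankOne.le_of_four_group hK (TwoFusionB.sq_eq_one_of_inv hx2)
    (TwoFusionB.sq_eq_one_of_inv hy2) hxy.eq (fun n hn => (mem_normalizer_iff.1 hxK n).1 hn)
    (fun n hn => (mem_normalizer_iff.1 hyK n).1 hn) (fun n _ => key x hx2 hxc n)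
    (fun n _ => key y hy2 hyc n) (fun n _ => key _ h3 (by rw [mul_smul, hyc, hxc]) n)

section Proper

variable (hC : Ctx H) {N : Subgroup G} (hN : N ≠ ⊤) {v w : G} (hv : v ∈ N) (hv2 : orderOf v = 2)
  (hw : w ∈ N) (hw2 : orderOf w = 2) {cv cw : G ⧸ H} (hvc : v • cv = cv) (hwc : w • cw = cw)
  (hne : cv ≠ cw)
include hC hN hv hv2 hw hw2 hvc hwc hne

omit hN in
/-- The stabiliser in `N` of a centre of an involution of `N` is strongly embedded in `N`. -/
theorem stronglyEmbedded_in {z : G} (hz : z ∈ N) (hz2 : orderOf z = 2) {c : G ⧸ H}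
    (hzc : z • c = c) : Cfsg.IsStronglyEmbedded ((stabilizer G c).subgroupOf N) :=
  BenderCons37.stronglyEmbedded_subgroupOf (stronglyEmbedded_stabilizer hC.se c)
    (fun hle => hne ((TwoFusionB.fix_unique hC.se hv2 hvc (hle hv)).trans
      (TwoFusionB.fix_unique hC.se hw2 (hle hw) hwc)))
    hz (mem_stabilizer_iff.2 hzc) hz2

omit hN in
/-- Any two involutions of `N` are conjugate in `N`. -/
theorem isConj_in {x y : G} (hx : x ∈ N) (hx2 : orderOf x = 2) (hy : y ∈ N)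
    (hy2 : orderOf y = 2) : ∃ g ∈ N, g * x * g⁻¹ = y := by
  obtain ⟨g, hg⟩ := isConj_iff.1 (TwoFusionB.isConj_involutions
    (stronglyEmbedded_in hC hv hv2 hw hw2 hvc hwc hne hv hv2 hvc)
    (a := (⟨x, hx⟩ : N)) (b := ⟨y, hy⟩) (by rw [orderOf_mk, hx2]) (by rw [orderOf_mk, hy2]))
  exact ⟨g, g.2, congrArg Subtype.val hg⟩

omit hN in
/-- An element of `N` carrying one centre of an involution of `N` to another. -/
theorem exists_move_in {x y : G} (hx : x ∈ N) (hx2 : orderOf x = 2) (hy : y ∈ N)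
    (hy2 : orderOf y = 2) {a b : G ⧸ H} (hxa : x • a = a) (hyb : y • b = b) :
    ∃ g ∈ N, g • a = b := by
  obtain ⟨g, hg, he⟩ := isConj_in hC hv hv2 hw hw2 hvc hwc hne hx hx2 hy hy2
  exact ⟨g, hg, TwoFusionB.fix_unique hC.se hy2
    (by rw [← he, mul_smul, mul_smul, inv_smul_smul, hxa]) hyb⟩

omit hN in
/-- Two centres of involutions of `N` are exchanged by an involution of `N`. -/
theorem exists_swap_in {x y : G} (hx : x ∈ N) (hx2 : orderOf x = 2) (hy : y ∈ N)
    (hy2 : orderOf y = 2) {a b : G ⧸ H} (hxa : x • a = a) (hyb : y • b = b) (hab : a ≠ b) :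
    ∃ t ∈ N, orderOf t = 2 ∧ t • a = b ∧ t • b = a := by
  obtain ⟨g, hg, hga⟩ := exists_move_in hC hv hv2 hw hw2 hvc hwc hne hx hx2 hy hy2 hxa hyb
  have hne' : (QuotientGroup.mk 1 : N ⧸ (stabilizer G a).subgroupOf N) ≠
      QuotientGroup.mk ⟨g, hg⟩ := by
    rw [Ne, QuotientGroup.eq, inv_one, one_mul, mem_subgroupOf]
    exact fun h => hab ((mem_stabilizer_iff.1 h).symm.trans hga)
  obtain ⟨t, ht, hta⟩ := TwoFusionB.exists_moveInv
    (stronglyEmbedded_in hC hv hv2 hw hw2 hvc hwc hne hx hx2 hxa) hne'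
  have ht2 : orderOf (t : G) = 2 := by rw [orderOf_coe, ht]
  rw [MulAction.Quotient.smul_mk, smul_eq_mul, mul_one, QuotientGroup.eq, mem_subgroupOf,
    mem_stabilizer_iff] at hta
  have htab : (t : G) • a = b := by
    push_cast at hta
    rw [mul_smul, inv_smul_eq_iff, hga] at hta
    exact hta.symm
  exact ⟨t, t.2, ht2, htab, TwoFusionB.smul_swap ht2 htab⟩

variable (hR : BenderCons37.RankTwo N)
include hR

/-- Every centre of an involution of `N` is fixed by the odd core of `N`. -/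
theorem core_fix {z : G} (hz : z ∈ N) (hz2 : orderOf z = 2) {c : G ⧸ H} (hzc : z • c = c) :
    (Cfsg.oddCore N).map N.subtype ≤ stabilizer G c :=
  map_le_iff_le_comap.2 (BenderCons37.oddCore_le
    (stronglyEmbedded_in hC hv hv2 hw hw2 hvc hwc hne hz hz2 hzc) hR)

/-- The conclusion holds for `N / O(N)`. -/
theorem conc_quotient {z : G} (hz : z ∈ N) (hz2 : orderOf z = 2) {c : G ⧸ H} (hzc : z • c = c) :
    Conc (((stabilizer G c).subgroupOf N).map (QuotientGroup.mk' (Cfsg.oddCore N))) :=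
  hC.below (↥N ⧸ Cfsg.oddCore N)
    ((Nat.card_le_card_of_surjective _ (QuotientGroup.mk'_surjective (Cfsg.oddCore N))).trans_lt
      (lt_of_le_of_ne (card_le_card_group N) fun e => hN (eq_top_of_card_eq N e)))
    _ (BenderCons37.stronglyEmbedded_map
      (stronglyEmbedded_in hC hv hv2 hw hw2 hvc hwc hne hz hz2 hzc) hR)
    (BenderCons37.rankTwo_quotient hR) BenderCons37.oddCore_quotient

/-- Involutions of `N` with equal centre commute modulo the odd core. -/
theorem commutator_mem {x y : G} (hx : x ∈ N) (hx2 : orderOf x = 2) (hy : y ∈ N)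
    (hy2 : orderOf y = 2) {c : G ⧸ H} (hxc : x • c = c) (hyc : y • c = c) :
    x * y * x⁻¹ * y⁻¹ ∈ (Cfsg.oddCore N).map N.subtype := by
  set π := QuotientGroup.mk' (Cfsg.oddCore N)
  have hord : ∀ (u : G) (hu : u ∈ N), orderOf u = 2 → orderOf (π ⟨u, hu⟩) = 2 := fun u hu h2 =>
    image_involution Thompson.card_pPrimeCore_coprime (by rw [orderOf_mk, h2])
  have hcom := (conc_quotient hC hN hv hv2 hw hw2 hvc hwc hne hR hx hx2 hxc).comm
    (π ⟨x, hx⟩) ⟨⟨x, hx⟩, hxc, rfl⟩ (π ⟨y, hy⟩) ⟨⟨y, hy⟩, hyc, rfl⟩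
    (hord x hx hx2) (hord y hy hy2)
  refine ⟨⟨x, hx⟩ * ⟨y, hy⟩ * (⟨x, hx⟩)⁻¹ * (⟨y, hy⟩)⁻¹, (QuotientGroup.eq_one_iff _).1 ?_, rfl⟩
  show π _ = 1
  rw [map_mul, map_mul, map_mul, map_inv, map_inv, hcom.eq, mul_inv_cancel_right, mul_inv_cancel]

/-- An odd subgroup of `N ∩ G_c` normalised by it lies in the odd core of `N`. -/
theorem odd_le_core {z : G} (hz : z ∈ N) (hz2 : orderOf z = 2) {c : G ⧸ H} (hzc : z • c = c)
    {M : Subgroup G} (hM : Odd (Nat.card M)) (hMN : M ≤ N ⊓ stabilizer G c)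
    (hnorm : N ⊓ stabilizer G c ≤ normalizer (M : Set G)) :
    M ≤ (Cfsg.oddCore N).map N.subtype := by
  set π := QuotientGroup.mk' (Cfsg.oddCore N)
  set S := ((stabilizer G c).subgroupOf N).map π
  set I := (M.subgroupOf N).map π
  have hIS : I ≤ S := map_mono fun g hg => (hMN hg).2
  have hIn : (I.subgroupOf S).Normal := by
    refine ⟨?_⟩
    rintro ⟨_, -⟩ ⟨m, hm, rfl⟩ ⟨_, s, hs, rfl⟩
    exact ⟨s * m * s⁻¹, (mem_normalizer_iff.1 (hnorm ⟨s.2, hs⟩) (m : G)).1 hm,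
      by simp [π]⟩
  have hodd : Odd (Nat.card (I.subgroupOf S)) := by
    refine hM.of_dvd_nat ?_
    rw [Nat.card_congr (subgroupOfEquivOfLe hIS).toEquiv]
    refine (card_map_dvd _ _).trans ?_
    rw [Nat.card_congr (subgroupOfEquivOfLe (le_trans hMN inf_le_left)).toEquiv]
  have hle : I ≤ ⊥ := by
    rw [← (conc_quotient hC hN hv hv2 hw hw2 hvc hwc hne hR hz hz2 hzc).core,
      ← map_subgroupOf_eq_of_le hIS]
    exact map_mono (Thompson.le_pPrimeCore hIn (Nat.coprime_two_right.2 hodd))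
  intro m hm
  exact ⟨⟨m, (hMN hm).1⟩, (QuotientGroup.eq_one_iff _).1
    (mem_bot.1 (hle ⟨⟨m, (hMN hm).1⟩, hm, rfl⟩)), rfl⟩

omit hN in
/-- `N ∩ G_c` is transitive on the other centres of involutions of `N`. -/
theorem trans_centres {z : G} (hz : z ∈ N) (hz2 : orderOf z = 2) {c : G ⧸ H} (hzc : z • c = c)
    {x y : G} (hx : x ∈ N) (hx2 : orderOf x = 2) (hy : y ∈ N) (hy2 : orderOf y = 2)
    {a b : G ⧸ H} (hxa : x • a = a) (hyb : y • b = b) (hac : a ≠ c) (hbc : b ≠ c) :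
    ∃ g ∈ N ⊓ stabilizer G c, g • a = b := by
  have hS := stronglyEmbedded_in hC hv hv2 hw hw2 hvc hwc hne hz hz2 hzc
  obtain ⟨p, q, hp, hq, hpq, hpp, hqq, hcom⟩ := hR
  obtain ⟨c₀, hc₀⟩ := TwoFusionB.exists_ne_coset hS (QuotientGroup.mk 1)
  obtain ⟨r, hr, hr2, hB1, hB2⟩ := four_case hS (BenderCons37.orderOf_eq_two hp hpp)
    (BenderCons37.orderOf_eq_two hq hqq) hpq hcom c₀ (Ne.symm hc₀)
  haveI : Fact r.Prime := ⟨hr⟩
  obtain ⟨g, hg, hga⟩ := exists_move_in hC hv hv2 hw hw2 hvc hwc hne hz hz2 hx hx2 hzc hxa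
  obtain ⟨k, hk, hkb⟩ := exists_move_in hC hv hv2 hw hw2 hvc hwc hne hz hz2 hy hy2 hzc hyb
  obtain ⟨h, hh, hkh⟩ := Fixed.transitive_of_orbital hS hr2 c₀ (Ne.symm hc₀) hB1 hB2
    ⟨g, hg⟩ ⟨k, hk⟩ (fun e => hac (hga.symm.trans e)) (fun e => hbc (hkb.symm.trans e))
  refine ⟨h, ⟨h.2, hh⟩, ?_⟩
  rw [mem_subgroupOf, mem_stabilizer_iff] at hkh
  push_cast at hkh
  rw [mul_smul, mul_smul, inv_smul_eq_iff, hga, hkb] at hkh
  exact hkh

end Proper

end Cfsg.Agent.Bender85
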