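import Cfsg.Agent.LocalEven61.QdStability
import Cfsg.Agent.Lib.Thompson.Cores
import Cfsg.Agent.Lib.Fitting

/-!
An element acting quadratically on an `r`-group and freely on an abelian 2-group modulo an odd
normal subgroup: the 2-group centralises the `r`-group.
-/

set_option autoImplicit false
set_option linter.style.haveILetI false

namespace Cfsg.Agent.Bender85

open Subgroup

section

variable {G : Type*} [Group G] [Finite G]

theorem card_sup_dvd_of_normalizes {A B : Subgroup G} (h : A ≤ normalizer (B : Set G)) :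
    Nat.card ↥(A ⊔ B) ∣ Nat.card A * Nat.card B := by
  haveI : (B.subgroupOf (A ⊔ B)).Normal :=
    normal_subgroupOf_of_le_normalizer (sup_le h le_normalizer)
  have h1 := Thompson.card_sup_dvd_mul (A.subgroupOf (A ⊔ B)) (B.subgroupOf (A ⊔ B))
  rwa [← subgroupOf_sup le_sup_left le_sup_right, subgroupOf_self, Subgroup.card_top,
    Nat.card_congr (subgroupOfEquivOfLe (le_sup_left : A ≤ A ⊔ B)).toEquiv,
    Nat.card_congr (subgroupOfEquivOfLe (le_sup_right : B ≤ A ⊔ B)).toEquiv] at h1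

theorem odd_card_sup {A B : Subgroup G} (h : A ≤ normalizer (B : Set G)) (hA : Odd (Nat.card A))
    (hB : Odd (Nat.card B)) : Odd (Nat.card ↥(A ⊔ B)) :=
  (hA.mul hB).of_dvd_nat (card_sup_dvd_of_normalizes h)

end

/-- A group with abelian Sylow 2-subgroups has no section `Qd(r)`, `r` odd. -/
theorem not_involves_qd_of_abelian {G : Type*} [Group G] [Finite G] {r : ℕ} [Fact r.Prime]
    (hr : r ≠ 2) (hab : ∀ T : Sylow 2 G, ∀ s ∈ T, ∀ t ∈ T, Commute s t) :
    ¬ Cfsg.Involves ↥(Cfsg.qd r) G := by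
  haveI : Fact (Nat.Prime 2) := ⟨Nat.prime_two⟩
  intro hinv
  obtain ⟨K, f, hf⟩ := LocalEven61.exists_surjective_of_involves hinv
  let g : ↥K →* Matrix.SpecialLinearGroup (Fin 2) (ZMod r) :=
    (LocalEven61.qdLin (F := ZMod r)).comp f
  have hg : Function.Surjective g := LocalEven61.qdLin_surjective.comp hf
  obtain ⟨a, b, hab'⟩ := ZMod.sq_add_sq r (-1)
  let i : Matrix.SpecialLinearGroup (Fin 2) (ZMod r) :=
    ⟨!![0, 1; -1, 0], by rw [Matrix.det_fin_two_of]; ring⟩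
  let j : Matrix.SpecialLinearGroup (Fin 2) (ZMod r) :=
    ⟨!![a, b; b, -a], by rw [Matrix.det_fin_two_of]; linear_combination -hab'⟩
  have hi4 : i ^ 4 = 1 := by
    apply Subtype.ext
    show (!![0, 1; -1, 0] : Matrix (Fin 2) (Fin 2) (ZMod r)) ^ 4 = 1
    rw [pow_succ, pow_succ, pow_succ, pow_one, Matrix.mul_fin_two, Matrix.mul_fin_two,
      Matrix.mul_fin_two]
    ext u v; fin_cases u <;> fin_cases v <;> simp
  have hj4 : j ^ 4 = 1 := by
    apply Subtype.ext
    show (!![a, b; b, -a] : Matrix (Fin 2) (Fin 2) (ZMod r)) ^ 4 = 1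
    have h2 : (!![a, b; b, -a] : Matrix (Fin 2) (Fin 2) (ZMod r)) * !![a, b; b, -a] =
        !![-1, 0; 0, -1] := by
      rw [Matrix.mul_fin_two]
      ext u v; fin_cases u <;> fin_cases v <;> simp <;> first | linear_combination hab' | ring
    rw [show (4 : ℕ) = 2 + 2 from rfl, pow_add, pow_two, h2, Matrix.mul_fin_two]
    ext u v; fin_cases u <;> fin_cases v <;> simp
  have hji : j * i = i⁻¹ * j := by
    rw [eq_inv_mul_iff_mul_eq]
    apply Subtype.ext
    show (!![0, 1; -1, 0] : Matrix (Fin 2) (Fin 2) (ZMod r)) *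
        (!![a, b; b, -a] * !![0, 1; -1, 0]) = !![a, b; b, -a]
    rw [Matrix.mul_fin_two, Matrix.mul_fin_two]
    simp
  have hnorm : zpowers j ≤ normalizer (zpowers i : Set _) := by
    refine zpowers_le.2 ?_
    rw [mem_normalizer_iff_map_conj_eq, MonoidHom.map_zpowers]
    have : MulAut.conj j i = i⁻¹ := by
      simp [hji]
    simp [this]
  have h2z : ∀ z : Matrix.SpecialLinearGroup (Fin 2) (ZMod r), z ^ 4 = 1 →
      IsPGroup 2 (zpowers z) := fun z hz => by
    rintro ⟨w, hw⟩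
    obtain ⟨k, rfl⟩ := mem_zpowers_iff.1 hw
    exact ⟨2, Subtype.ext (show (z ^ k) ^ (4 : ℕ) = 1 by
      rw [← zpow_natCast, ← zpow_mul, mul_comm, zpow_mul, zpow_natCast, hz, one_zpow])⟩
  have hQ : IsPGroup 2 ↥(zpowers j ⊔ zpowers i) :=
    (h2z j hj4).to_sup_of_normal_right' (h2z i hi4) hnorm
  obtain ⟨S, hS⟩ := hQ.exists_le_sylow
  obtain ⟨T⟩ : Nonempty (Sylow 2 K) := inferInstance
  obtain ⟨c, hc⟩ := MulAction.exists_smul_eq (Matrix.SpecialLinearGroup (Fin 2) (ZMod r)) (T.mapSurjective hg) S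
  have hcomm : Commute i j := by
    have hmem : ∀ z ∈ (zpowers j ⊔ zpowers i : Subgroup _), c⁻¹ * z * c ∈ (T : Subgroup K).map g := by
      intro z hz
      have h1 : z ∈ ((c • T.mapSurjective hg : Sylow 2 _) : Subgroup _) := hc ▸ hS hz
      rw [Sylow.coe_subgroup_smul, mem_pointwise_smul_iff_inv_smul_mem] at h1
      simpa using h1
    obtain ⟨s, hs, hsi⟩ := hmem i (mem_sup_right (mem_zpowers i))
    obtain ⟨t, ht, htj⟩ := hmem j (mem_sup_left (mem_zpowers j))
    obtain ⟨U, hU⟩ := (T.isPGroup'.map K.subtype).exists_le_sylow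
    have hst : Commute s t := Subtype.ext
      (hab U s (hU ⟨s, hs, rfl⟩) t (hU ⟨t, ht, rfl⟩))
    have h2 := hst.map g
    rw [hsi, htj] at h2
    simpa [mul_assoc] using h2.map (MulAut.conj c).toMonoidHom
  have h3 : (!![0, 1; -1, 0] : Matrix (Fin 2) (Fin 2) (ZMod r)) * !![a, b; b, -a] =
      !![a, b; b, -a] * !![0, 1; -1, 0] := congrArg Subtype.val hcomm.eq
  rw [Matrix.mul_fin_two, Matrix.mul_fin_two] at h3
  have ha2 : (2 : ZMod r) * a = 0 := by
    have h4 := congrFun (congrFun h3 0) 1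
    simp at h4
    linear_combination -h4
  have hb2 : (2 : ZMod r) * b = 0 := by
    have h4 := congrFun (congrFun h3 0) 0
    simp at h4
    linear_combination h4
  have h22 : (2 : ZMod r) ≠ 0 := by
    intro h0
    have h0' : ((2 : ℕ) : ZMod r) = 0 := by exact_mod_cast h0
    rw [ZMod.natCast_eq_zero_iff] at h0'
    exact hr ((Nat.prime_dvd_prime_iff_eq Fact.out Nat.prime_two).mp h0')
  have ha := (mul_eq_zero.1 ha2).resolve_left h22
  have hb := (mul_eq_zero.1 hb2).resolve_left h22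
  rw [ha, hb] at hab'
  simp at hab'

open scoped commutatorElement in
/-- An element acting quadratically on the `r`-group `X`, and freely on the abelian 2-group `E`
modulo the odd group `K`, forces `E` to centralise `X`. -/
theorem le_centralizer_of_quadratic {G : Type*} [Group G] [Finite G] {r : ℕ} [Fact r.Prime]
    (hr : r ≠ 2) {X K E : Subgroup G} {x : G}
    (hX : IsPGroup r X) (hK : Odd (Nat.card K)) (hE2 : IsPGroup 2 E) (hEab : IsMulCommutative E)
    (hx : ∃ i : ℕ, x ^ r ^ i = 1)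
    (hKX : K ≤ normalizer (X : Set G)) (hEX : E ≤ normalizer (X : Set G))
    (hxX : x ∈ normalizer (X : Set G))
    (hEK : E ≤ normalizer (K : Set G)) (hxK : x ∈ normalizer (K : Set G))
    (hxE : ∀ e ∈ E, x * e * x⁻¹ ∈ E ⊔ K)
    (hfree : ∀ e ∈ E, x * e * x⁻¹ * e⁻¹ ∈ K → e = 1)
    (hq : ∀ v ∈ X, ⁅⁅v, x⁆, x⁆ = 1) : E ≤ centralizer (X : Set G) := by
  haveI : Fact (Nat.Prime 2) := ⟨Nat.prime_two⟩
  obtain ⟨m, hm⟩ := hx
  have hr' : Nat.Prime r := Fact.out
  have hrodd : ∀ k : ℕ, Odd (r ^ k) := fun k => (hr'.odd_of_ne_two hr).pow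
  -- everything takes place in `M`
  set O := K ⊔ X with hOdef
  set M := zpowers x ⊔ (E ⊔ O) with hM
  have hXodd : Odd (Nat.card X) := by
    obtain ⟨k, hk⟩ := IsPGroup.iff_card.mp hX
    rw [hk]; exact hrodd k
  have hOodd : Odd (Nat.card O) := odd_card_sup hKX hK hXodd
  have hxM : x ∈ M := mem_sup_left (mem_zpowers x)
  have hEM : E ≤ M := le_sup_left.trans le_sup_right
  have hKM : K ≤ M := (le_sup_left.trans le_sup_right : K ≤ E ⊔ O).trans le_sup_right
  have hXM : X ≤ M := (le_sup_right.trans le_sup_right : X ≤ E ⊔ O).trans le_sup_right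
  have hMX : M ≤ normalizer (X : Set G) :=
    sup_le (zpowers_le.2 hxX) (sup_le hEX (sup_le hKX le_normalizer))
  have hEO : E ≤ normalizer (O : Set G) := by
    intro e he
    rw [mem_normalizer_iff_map_conj_eq, hOdef, Subgroup.map_sup,
      (mem_normalizer_iff_map_conj_eq.1 (hEK he)), (mem_normalizer_iff_map_conj_eq.1 (hEX he))]
  have hxEO : x ∈ normalizer ((E ⊔ O : Subgroup G) : Set G) := by
    rw [mem_normalizer_iff_map_conj_eq]
    refine eq_of_le_of_card_ge ?_ (le_of_eq (card_map_of_injective (MulAut.conj x).injective).symm)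
    rw [Subgroup.map_sup, hOdef, Subgroup.map_sup, mem_normalizer_iff_map_conj_eq.1 hxX,
      mem_normalizer_iff_map_conj_eq.1 hxK]
    refine sup_le ?_ le_sup_right
    rintro _ ⟨e, he, rfl⟩
    exact (sup_le_sup_left le_sup_left E : E ⊔ K ≤ E ⊔ (K ⊔ X)) (hxE e he)
  -- the Sylow 2-subgroups of `M` are abelian
  have habM : ∀ T : Sylow 2 M, ∀ s ∈ T, ∀ t ∈ T, Commute s t := by
    have hd : Nat.card M ∣ Nat.card E * (Nat.card (zpowers x) * Nat.card O) := by
      refine (card_sup_dvd_of_normalizes (zpowers_le.2 hxEO)).trans ?_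
      calc Nat.card (zpowers x) * Nat.card ↥(E ⊔ O)
          ∣ Nat.card (zpowers x) * (Nat.card E * Nat.card O) :=
            Nat.mul_dvd_mul_left _ (card_sup_dvd_of_normalizes hEO)
        _ = Nat.card E * (Nat.card (zpowers x) * Nat.card O) := by ring
    have hodd : Odd (Nat.card (zpowers x) * Nat.card O) := by
      refine Odd.mul ?_ hOodd
      rw [Nat.card_zpowers]
      exact (hrodd m).of_dvd_nat (orderOf_dvd_of_pow_eq_one hm)
    have hEp : IsPGroup 2 (E.subgroupOf M) := hE2.of_equiv (subgroupOfEquivOfLe hEM).symm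
    obtain ⟨T₀, hT₀⟩ := hEp.exists_le_sylow
    intro T
    have hT₀eq : (T₀ : Subgroup M) = E.subgroupOf M := by
      refine (eq_of_le_of_card_ge hT₀ (Nat.le_of_dvd Nat.card_pos ?_)).symm
      obtain ⟨k, hk⟩ := IsPGroup.iff_card.mp T₀.isPGroup'
      have h1 : 2 ^ k ∣ Nat.card E * (Nat.card (zpowers x) * Nat.card O) :=
        hk ▸ (card_subgroup_dvd_card _).trans hd
      rw [Nat.card_congr (subgroupOfEquivOfLe hEM).toEquiv, hk]
      exact (Nat.Coprime.pow_left k (Nat.coprime_two_left.2 hodd)).dvd_of_dvd_mul_right h1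
    obtain ⟨c, hc⟩ := MulAction.exists_smul_eq (↥M) T₀ T
    intro s hs t ht
    have hmem : ∀ z : M, z ∈ T → c⁻¹ * z * c ∈ E.subgroupOf M := fun z hz => by
      have h1 : z ∈ ((c • T₀ : Sylow 2 M) : Subgroup M) := hc ▸ hz
      rw [Sylow.coe_subgroup_smul, mem_pointwise_smul_iff_inv_smul_mem, hT₀eq] at h1
      simpa using h1
    have h2 : Commute (c⁻¹ * s * c) (c⁻¹ * t * c) := by
      have h3 := congrArg Subtype.val (hEab.is_comm.comm (⟨_, mem_subgroupOf.1 (hmem s hs)⟩ : E)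
        ⟨_, mem_subgroupOf.1 (hmem t ht)⟩)
      exact Subtype.ext (by simpa only [MulMemClass.coe_mul] using h3)
    simpa [mul_assoc] using h2.map (MulAut.conj c).toMonoidHom
  -- `r`-stability in `M`
  have hstab := LocalEven61.isNormalizerPStable_of_not_involves hr
    (not_involves_qd_of_abelian hr habM)
  set x₁ : M := ⟨x, hxM⟩ with hx₁
  set X₁ := X.subgroupOf M with hX₁
  have hX₁n : ∀ g : M, g ∈ normalizer (X₁ : Set M) := fun g => by
    haveI : X₁.Normal := normal_subgroupOf_of_le_normalizer hMX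
    rw [normalizer_eq_top]; exact mem_top g
  have hquad : ⁅⁅X₁, zpowers x₁⁆, zpowers x₁⁆ = ⊥ := by
    rw [commutator_eq_bot_iff_le_centralizer, commutator_le]
    intro v hv y hy
    obtain ⟨k, rfl⟩ := mem_zpowers_iff.1 hy
    have hvc : ⁅⁅v, x₁⁆, x₁⁆ = 1 := Subtype.ext (by
      simpa [commutatorElement_def] using hq v hv)
    have hc : Commute ⁅v, x₁⁆ x₁ := commutatorElement_eq_one_iff_commute.1 hvc
    have hconj : v * x₁ * v⁻¹ = ⁅v, x₁⁆ * x₁ := by
      rw [commutatorElement_def, inv_mul_cancel_right]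
    have hk : ⁅v, x₁ ^ k⁆ = ⁅v, x₁⁆ ^ k := by
      rw [commutatorElement_def v (x₁ ^ k), ← conj_zpow, hconj, hc.mul_zpow, mul_inv_cancel_right]
    refine mem_centralizer_iff.2 fun z hz => ?_
    obtain ⟨j, rfl⟩ := mem_zpowers_iff.1 hz
    rw [hk]
    exact ((hc.zpow_left k).zpow_right j).symm.eq
  have hcore := hstab X₁ (hX.of_equiv (subgroupOfEquivOfLe hXM).symm) x₁ (hX₁n x₁) hquad
  set C := (centralizer (X₁ : Set M)).subgroupOf (normalizer (X₁ : Set M)) with hC
  haveI : C.Normal := by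
    rw [hC, ← PLocalB.centralizer_subgroupOf X₁ _ le_normalizer]; infer_instance
  set Q := ↥(normalizer (X₁ : Set M)) ⧸ C
  set π : ↥(normalizer (X₁ : Set M)) →* Q := QuotientGroup.mk' C
  set φ : M →* Q := π.comp ((MonoidHom.id M).codRestrict _ hX₁n) with hφ
  have hker : ∀ g : M, φ g = 1 → (g : G) ∈ centralizer (X : Set G) := fun g hg => by
    have h1 : (g : M) ∈ centralizer (X₁ : Set M) :=
      (QuotientGroup.eq_one_iff (N := C) ((⟨g, hX₁n g⟩ : ↥(normalizer (X₁ : Set M))))).1 hg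
    refine mem_centralizer_iff.2 fun v hv => ?_
    exact congrArg Subtype.val (mem_centralizer_iff.1 h1 ⟨v, hXM hv⟩ hv)
  set R := Cfsg.pCore r Q
  have hxR : φ x₁ ∈ R := hcore
  -- every element of `E` is a `2`-part of some `[x, e]`
  have hsplit : ∀ e ∈ E, ∃ f ∈ E, ∃ k ∈ K, x * e * x⁻¹ * e⁻¹ = f * k := by
    intro e he
    have h1 : x * e * x⁻¹ * e⁻¹ ∈ ((E ⊔ K : Subgroup G) : Set G) :=
      mul_mem (hxE e he) (mem_sup_left (inv_mem he))
    rw [coe_mul_of_left_le_normalizer_right E K hEK] at h1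
    obtain ⟨f, hf, k, hk, h⟩ := h1
    exact ⟨f, hf, k, hk, h.symm⟩
  choose f hf k hk hfk using hsplit
  have hfC : ∀ e (he : e ∈ E), f e he ∈ centralizer (X : Set G) := by
    intro e he
    set e₁ : M := ⟨e, hEM he⟩
    set f₁ : M := ⟨f e he, hEM (hf e he)⟩
    set k₁ : M := ⟨k e he, hKM (hk e he)⟩
    have heq : x₁ * e₁ * x₁⁻¹ * e₁⁻¹ = f₁ * k₁ := Subtype.ext (hfk e he)
    have h1 : φ (f₁ * k₁) ∈ R := by
      rw [← heq]
      have h2 : φ (x₁ * e₁ * x₁⁻¹ * e₁⁻¹) = φ x₁ * (φ e₁ * (φ x₁)⁻¹ * (φ e₁)⁻¹) := by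
        simp [mul_assoc]
      rw [h2]
      exact mul_mem hxR ((inferInstance : R.Normal).conj_mem _ (inv_mem hxR) _)
    have h3 : φ f₁ ∈ R ⊔ (K.subgroupOf M).map φ := by
      have h4 : φ f₁ = φ (f₁ * k₁) * (φ k₁)⁻¹ := by simp
      rw [h4]
      exact mul_mem (mem_sup_left h1)
        (inv_mem (mem_sup_right (mem_map_of_mem φ (mem_subgroupOf.2 (hk e he)))))
    have hodd : Odd (Nat.card ↥(R ⊔ (K.subgroupOf M).map φ)) := by
      rw [sup_comm]
      refine odd_card_sup ?_ ?_ ?_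
      · exact le_normalizer_of_normal
      · refine hK.of_dvd_nat ((card_map_dvd _ _).trans ?_)
        exact (Nat.card_congr (subgroupOfEquivOfLe hKM).toEquiv).dvd
      · obtain ⟨j, hj⟩ := IsPGroup.iff_card.mp (Fitting.pCore_isPGroup r : IsPGroup r R)
        rw [hj]; exact hrodd j
    obtain ⟨n, hn⟩ := hE2 ⟨f e he, hf e he⟩
    have hpow : (φ f₁) ^ 2 ^ n = 1 := by
      rw [← map_pow, show f₁ ^ 2 ^ n = 1 from Subtype.ext (by
        simpa using congrArg Subtype.val hn), map_one]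
    have hone : φ f₁ = 1 := orderOf_eq_one_iff.1 (Nat.eq_one_of_dvd_coprimes
      (Nat.Coprime.pow_left n (Nat.coprime_two_left.2 hodd))
      (orderOf_dvd_of_pow_eq_one hpow) (Subgroup.orderOf_dvd_natCard _ h3))
    exact hker f₁ hone
  -- injectivity
  let ψ : E → E := fun e => ⟨f e e.2, hf e e.2⟩
  have hinj : Function.Injective ψ := by
    intro e₁ e₂ h
    have hf12 : f (e₁ : G) e₁.2 = f (e₂ : G) e₂.2 := congrArg Subtype.val h
    have he : ((e₂ : G)⁻¹ * e₁) ∈ E := mul_mem (inv_mem e₂.2) e₁.2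
    have hkk : (k (e₂ : G) e₂.2)⁻¹ * k (e₁ : G) e₁.2 ∈ K := mul_mem (inv_mem (hk _ _)) (hk _ _)
    have hcalc : x * ((e₂ : G)⁻¹ * e₁) * x⁻¹ * ((e₂ : G)⁻¹ * e₁)⁻¹ =
        (e₂ : G)⁻¹ * ((k (e₂ : G) e₂.2)⁻¹ * k (e₁ : G) e₁.2) * e₂ := by
      have h1 := hfk (e₁ : G) e₁.2
      have h2 := hfk (e₂ : G) e₂.2
      calc _ = (e₂ : G)⁻¹ * ((x * e₂ * x⁻¹ * (e₂ : G)⁻¹)⁻¹ * (x * e₁ * x⁻¹ * (e₁ : G)⁻¹)) * e₂ := by
            group
        _ = _ := by rw [h1, h2, hf12]; group
    have hmem : x * ((e₂ : G)⁻¹ * e₁) * x⁻¹ * ((e₂ : G)⁻¹ * e₁)⁻¹ ∈ K := by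
      rw [hcalc]
      have := (mem_normalizer_iff.1 (hEK (inv_mem e₂.2)) _).1 hkk
      simpa using this
    exact Subtype.ext (inv_mul_eq_one.1 (hfree _ he hmem)).symm
  intro e he
  obtain ⟨e', he'⟩ := (Finite.injective_iff_surjective.1 hinj) ⟨e, he⟩
  have h5 : f (e' : G) e'.2 = e := congrArg Subtype.val he'
  rw [← h5]
  exact hfC e' e'.2

end Cfsg.Agent.Bender85
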