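import Cfsg.Agent.Bender85.Defs
import Cfsg.Agent.Bender85.Pairs
import Cfsg.Agent.Bender85.Local
import Cfsg.Agent.Bender85.Quad
import Cfsg.Agent.Lib.Coprime.SchurZassenhaus
import Cfsg.Agent.Lib.RankOne.OddOrder
import Cfsg.Agent.TwoFusionB.StronglyEmbedded

/-!
Good primes and centred primes (PLAN, Tee): if an abelian normal `r`-subgroup of the two-point
stabilisers fixes just two points, then every fixed point of an `r`-group with at least three fixed
points is the centre of an involution centralising it.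
-/

set_option autoImplicit false
set_option linter.style.haveILetI false

namespace Cfsg.Agent.Bender85

open Subgroup MulAction Bender43 Bender43.Fixed
open scoped commutatorElement
open Cfsg.Agent.TwoFusionB (fix_unique exists_fix exists_moveInv smul_swap orderOf_conj_eq
  sq_eq_one_of_inv inv_eq_of_inv ne_one_of_inv)

universe u

variable {G : Type u} [Group G] {H : Subgroup G}

section Basic

variable [Finite G] (hH : Cfsg.IsStronglyEmbedded H)
include hH

/-- The centre of an involution centralising `X` is fixed by `X`. -/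
theorem mem_fixSet_of_centralizer {X : Subgroup G} {v : G} {p : G ⧸ H} (hv : orderOf v = 2)
    (hvp : v • p = p) (hvC : v ∈ centralizer (X : Set G)) : p ∈ fixSet H X := by
  intro x hx
  refine fix_unique hH hv ?_ hvp
  rw [smul_smul, ← mem_centralizer_iff.1 hvC x hx, mul_smul, hvp]

/-- In a group with two centres any two involutions are conjugate. -/
theorem exists_conj_in {N : Subgroup G} {v0 w0 : G} {p0 q0 : G ⧸ H} (hpq : p0 ≠ q0)
    (hv0N : v0 ∈ N) (hv0 : orderOf v0 = 2) (hv0p : v0 • p0 = p0) (hw0N : w0 ∈ N)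
    (hw0 : orderOf w0 = 2) (hw0q : w0 • q0 = q0) {v w : G} (hvN : v ∈ N) (hv : orderOf v = 2)
    (hwN : w ∈ N) (hw : orderOf w = 2) : ∃ g ∈ N, g * v * g⁻¹ = w := by
  have step : ∀ {a b : G} {p q : G ⧸ H}, a ∈ N → b ∈ N → orderOf a = 2 → orderOf b = 2 →
      a • p = p → b • q = q → p ≠ q → ∃ g ∈ N, g * a * g⁻¹ = b := by
    intro a b p q haN hbN ha hb hap hbq hne
    obtain ⟨g, hg, hgab⟩ := RankOne.dihedral_conj (sq_eq_one_of_inv ha) (sq_eq_one_of_inv hb)
      (TwoFusionB.odd_orderOf_mul hH ha hb hap hbq hne)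
    exact ⟨g, zpowers_le.2 (mul_mem haN hbN) hg, hgab⟩
  obtain ⟨p, hp⟩ := exists_fix hH hv
  obtain ⟨q, hq⟩ := exists_fix hH hw
  by_cases hne : p = q
  · subst hne
    -- a third involution with another centre
    obtain ⟨t, htN, ht, s, hts, hsp⟩ : ∃ t ∈ N, orderOf t = 2 ∧ ∃ s, t • s = s ∧ s ≠ p := by
      by_cases h0 : p0 = p
      · exact ⟨w0, hw0N, hw0, q0, hw0q, fun e => hpq (h0.trans e.symm)⟩
      · exact ⟨v0, hv0N, hv0, p0, hv0p, h0⟩
    obtain ⟨g₁, hg₁, e₁⟩ := step hvN htN hv ht hp hts hsp.symm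
    obtain ⟨g₂, hg₂, e₂⟩ := step htN hwN ht hw hts hq hsp
    refine ⟨g₂ * g₁, mul_mem hg₂ hg₁, ?_⟩
    rw [← e₂, ← e₁]
    group
  · exact step hvN hwN hv hw hp hq hne

/-- A nontrivial subgroup of odd order is not normal. -/
theorem normalizer_ne_top (hC : Cfsg.oddCore G = ⊥) {X : Subgroup G} (hX : X ≠ ⊥)
    (hodd : Odd (Nat.card X)) : normalizer (X : Set G) ≠ ⊤ := by
  intro htop
  have := hH
  haveI : X.Normal := normalizer_eq_top_iff.1 htop
  refine hX (le_bot_iff.1 (hC ▸ ?_))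
  exact Thompson.le_pPrimeCore inferInstance (Nat.coprime_two_right.2 hodd)

end Basic

theorem odd_card_of_isPGroup [Finite G] {r : ℕ} (hr : r.Prime) (hr2 : r ≠ 2) {X : Subgroup G}
    (hX : IsPGroup r X) : Odd (Nat.card X) := by
  haveI : Fact r.Prime := ⟨hr⟩
  obtain ⟨n, hn⟩ := IsPGroup.iff_card.1 hX
  rw [hn]
  exact (hr.odd_of_ne_two hr2).pow

theorem fixSet_pair_of_not_threeFix {W : Subgroup G} {p q : G ⧸ H}
    (hp : p ∈ fixSet H W) (hq : q ∈ fixSet H W) (hpq : p ≠ q) (h : ¬ ThreeFix H W) :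
    fixSet H W = {p, q} := by
  refine Set.Subset.antisymm (fun z hz => ?_) ?_
  · by_contra hzn
    simp only [Set.mem_insert_iff, Set.mem_singleton_iff, not_or] at hzn
    exact h ⟨p, hp, q, hq, z, hz, hpq, Ne.symm hzn.1, Ne.symm hzn.2⟩
  · rintro z (rfl | rfl) <;> assumption

theorem exists_ne_of_threeFix {X : Subgroup G} (h3 : ThreeFix H X) (c : G ⧸ H) :
    ∃ q ∈ fixSet H X, q ≠ c := by
  obtain ⟨a, ha, b, hb, -, -, hab, -, -⟩ := h3
  by_cases h : a = c
  · exact ⟨b, hb, fun e => hab (h.trans e.symm)⟩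
  · exact ⟨a, ha, h⟩

theorem not_threeFix_pair {X : Subgroup G} (h3 : ThreeFix H X) {p q : G ⧸ H}
    (h : fixSet H X ⊆ {p, q}) : False := by
  obtain ⟨a, ha, b, hb, c, hc, hab, hac, hbc⟩ := h3
  rcases h ha with rfl | rfl <;> rcases h hb with rfl | rfl <;> rcases h hc with rfl | rfl <;>
    simp at hab hac hbc

/-- If an abelian normal `r`-subgroup fixes only two points, so does a Sylow `r`-subgroup. -/
theorem exactPrime_of_exactAbelian (hC : Ctx H) {r : ℕ} (hr : r.Prime)
    (hA : ExactAbelian H r) : ExactPrime H r := by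
  haveI := hC.fin
  haveI : Fact r.Prime := ⟨hr⟩
  intro a b hab T
  obtain ⟨A, hAD, hAp, -, hDA, hfix⟩ := hA a b hab
  haveI hn : (A.subgroupOf (stab2 a b)).Normal := ⟨fun n hn g => by
    rw [mem_subgroupOf] at hn ⊢
    simpa using (mem_normalizer_iff.1 (hDA g.2) _).1 hn⟩
  obtain ⟨R, hR⟩ := (hAp.comap_subtype (K := stab2 a b)).exists_le_sylow
  obtain ⟨g, hg⟩ := MulAction.exists_smul_eq (stab2 a b : Subgroup G) R T
  have hAT : A ≤ (T : Subgroup (stab2 a b : Subgroup G)).map (stab2 a b).subtype := by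
    intro x hx
    refine ⟨⟨x, hAD hx⟩, ?_, rfl⟩
    rw [← hg, Sylow.smul_def]
    refine ⟨g⁻¹ * ⟨x, hAD hx⟩ * g, hR ?_, by simp [mul_assoc]⟩
    have := hn.conj_mem (⟨x, hAD hx⟩ : (stab2 a b : Subgroup G)) (mem_subgroupOf.2 hx) g⁻¹
    simpa using this
  refine Set.Subset.antisymm (fun z hz => hfix ▸ fixSet_anti hAT hz) ?_
  rintro z (rfl | rfl) t ht
  · exact (mem_inf.1 (map_subtype_le _ ht)).1
  · exact (mem_inf.1 (map_subtype_le _ ht)).2

/-- An `r`-group with three fixed points is properly contained in its normaliser in a larger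
`r`-subgroup of the stabiliser of two of them. -/
theorem exists_grow (hC : Ctx H) {r : ℕ} (hr : r.Prime) (hE : ExactPrime H r) {X : Subgroup G}
    (hX : IsPGroup r X) (h3 : ThreeFix H X) {p q : G ⧸ H} (hp : p ∈ fixSet H X)
    (hq : q ∈ fixSet H X) (hpq : p ≠ q) :
    ∃ W : Subgroup G, X < W ∧ IsPGroup r W ∧ W ≤ normalizer (X : Set G) ∧ W ≤ stab2 p q := by
  haveI := hC.fin
  haveI : Fact r.Prime := ⟨hr⟩
  set D := stab2 p q
  have hXD : X ≤ D := fun x hx => mem_inf.2 ⟨hp x hx, hq x hx⟩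
  obtain ⟨T, hT⟩ := (hX.comap_subtype (K := D)).exists_le_sylow
  set P := (T : Subgroup D).map D.subtype with hP
  have hXP : X ≤ P := fun x hx => ⟨⟨x, hXD hx⟩, hT (mem_subgroupOf.2 hx), rfl⟩
  have hlt : X < P := lt_of_le_of_ne hXP fun e =>
    not_threeFix_pair h3 (p := p) (q := q) (by rw [e, hP, hE p q hpq T])
  obtain ⟨b, hbP, hbN, hbX⟩ := exists_normalizer_gt (T.isPGroup'.map D.subtype) hlt
  refine ⟨P ⊓ normalizer (X : Set G), lt_of_le_of_ne (le_inf hXP le_normalizer) fun e => hbX ?_,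
    (T.isPGroup'.map D.subtype).to_le inf_le_left, inf_le_right,
    inf_le_left.trans (map_subtype_le _)⟩
  rw [e]
  exact mem_inf.2 ⟨hbP, hbN⟩

/-- Centred primes are good. -/
theorem goodAt_of_centredAt (hC : Ctx H) {r : ℕ} (hr : r.Prime) (hr2 : r ≠ 2)
    (hG : CentredAt H r) : GoodAt H r := by
  haveI := hC.fin
  intro X hX h3 v hv hvN ⟨c, hc, hvc⟩
  obtain ⟨q, hq, hqc⟩ := exists_ne_of_threeFix h3 c
  obtain ⟨w, hw, hwq, hwC⟩ := hG X hX h3 q hq
  have hwN : w ∈ normalizer (X : Set G) := centralizer_le_normalizer _ hwC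
  obtain ⟨g, hgN, hg⟩ := exists_conj_in hC.se hqc hwN hw hwq hvN hv hvc hwN hw hvN hv
  rw [← hg]
  exact ((centralizer_normal_of_normal (X := X) g hgN w hwC))
where
  centralizer_normal_of_normal {X : Subgroup G} (g : G) (hg : g ∈ normalizer (X : Set G)) (w : G)
      (hw : w ∈ centralizer (X : Set G)) : g * w * g⁻¹ ∈ centralizer (X : Set G) := by
    rw [mem_centralizer_iff] at hw ⊢
    intro x hx
    have h1 : g⁻¹ * x * g ∈ X := (mem_normalizer_iff''.1 hg x).1 hx
    calc x * (g * w * g⁻¹) = g * (g⁻¹ * x * g * w) * g⁻¹ := by group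
      _ = g * (w * (g⁻¹ * x * g)) * g⁻¹ := by rw [hw _ h1]
      _ = g * w * g⁻¹ * x := by group

/-- The centres of the involutions centralising `X`. -/
def centres (H : Subgroup G) (X : Subgroup G) : Set (G ⧸ H) :=
  {p | ∃ v : G, orderOf v = 2 ∧ v • p = p ∧ v ∈ centralizer (X : Set G)}

theorem smul_mem_centres {X : Subgroup G} {g : G} (hg : g ∈ normalizer (X : Set G)) {p : G ⧸ H}
    (hp : p ∈ centres H X) : g • p ∈ centres H X := by
  obtain ⟨v, hv, hvp, hvC⟩ := hp
  refine ⟨g * v * g⁻¹, by rw [orderOf_conj_eq, hv], ?_,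
    goodAt_of_centredAt.centralizer_normal_of_normal g hg v hvC⟩
  rw [smul_smul, inv_mul_cancel_right, mul_smul, hvp]

/-- An `r`-group normalising `X` fixes, among the centres, as many points as there are centres,
modulo `r`. -/
theorem ncard_centres_modEq [Finite G] {r : ℕ} [Fact r.Prime] {X W : Subgroup G}
    (hW : IsPGroup r W) (hWN : W ≤ normalizer (X : Set G)) :
    (centres H X).ncard ≡ (centres H X ∩ fixSet H W).ncard [MOD r] := by
  let S : SubMulAction W (G ⧸ H) :=
    { carrier := centres H X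
      smul_mem' := fun w _ hp => smul_mem_centres (hWN w.2) hp }
  have h := hW.card_modEq_card_fixedPoints (G := W) S
  have e1 : Nat.card S = (centres H X).ncard := Nat.card_coe_set_eq _
  have e2 : Nat.card (fixedPoints W S) = (centres H X ∩ fixSet H W).ncard := by
    rw [← Nat.card_coe_set_eq]
    exact Nat.card_congr
      { toFun := fun z => ⟨z.1.1, z.1.2, fun t ht =>
          congrArg Subtype.val (z.2 (⟨t, ht⟩ : W))⟩
        invFun := fun z => ⟨⟨z.1, z.2.1⟩, fun t => Subtype.ext (z.2.2 t t.2)⟩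
        left_inv := fun z => rfl
        right_inv := fun z => rfl }
  rw [← e1, ← e2]
  exact h

/-- The step of the downward induction below a subgroup with centres. -/
theorem centred_step (hC : Ctx H) {r : ℕ} (hr : r.Prime) (hE : ExactPrime H r) {X : Subgroup G}
    (hX : IsPGroup r X) (h3 : ThreeFix H X)
    (ih : ∀ X' : Subgroup G, IsPGroup r X' → X < X' → ThreeFix H X' → fixSet H X' ⊆ centres H X')
    (hbig : ∃ X' : Subgroup G, IsPGroup r X' ∧ X < X' ∧ ThreeFix H X') :
    fixSet H X ⊆ centres H X := by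
  haveI := hC.fin
  haveI : Fact r.Prime := ⟨hr⟩
  have hup : ∀ X' : Subgroup G, IsPGroup r X' → X < X' → ThreeFix H X' → fixSet H X' ⊆ centres H X :=
    fun X' h1 h2 h3' p hp => by
      obtain ⟨v, hv, hvp, hvC⟩ := ih X' h1 h2 h3' hp
      exact ⟨v, hv, hvp, centralizer_le h2.le hvC⟩
  obtain ⟨X', hX', hlt, h3'⟩ := hbig
  obtain ⟨q, hq, -⟩ := id h3'
  have hqc : q ∈ centres H X := hup X' hX' hlt h3' hq
  obtain ⟨v, hv, hvq, hvC⟩ := id hqc
  have hvN : v ∈ normalizer (X : Set G) := centralizer_le_normalizer _ hvC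
  have hqX : q ∈ fixSet H X := fixSet_anti hlt.le hq
  intro c hc
  by_contra hcn
  have hcq : c ≠ q := fun e => hcn (e ▸ hqc)
  set d := v • c with hd
  have hcd : c ≠ d := fun e => hcq (fix_unique hC.se hv e.symm hvq)
  have hdn : d ∉ centres H X := fun h => hcn (by
    have := smul_mem_centres hvN h
    rwa [hd, smul_smul, sq_eq_one_of_inv hv, one_smul] at this)
  have key : ∀ y ∈ fixSet H X, c ≠ y → ∃ W : Subgroup G, IsPGroup r W ∧
      W ≤ normalizer (X : Set G) ∧ fixSet H W = {c, y} := by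
    intro y hy hcy
    obtain ⟨W, hXW, hW, hWN, hWD⟩ := exists_grow hC hr hE hX h3 hc hy hcy
    have hcW : c ∈ fixSet H W := fun t ht => (mem_inf.1 (hWD ht)).1
    refine ⟨W, hW, hWN, fixSet_pair_of_not_threeFix hcW (fun t ht => (mem_inf.1 (hWD ht)).2) hcy
      fun h => hcn (hup W hW hXW h hcW)⟩
  obtain ⟨W₁, hW₁, hW₁N, hF₁⟩ := key q hqX hcq
  obtain ⟨W₂, hW₂, hW₂N, hF₂⟩ := key d (smul_mem_fixSet hvN hc) hcd
  have h1 := ncard_centres_modEq (H := H) hW₁ hW₁N
  have h2 := ncard_centres_modEq (H := H) hW₂ hW₂N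
  have e1 : centres H X ∩ fixSet H W₁ = {q} := by
    rw [hF₁]
    ext z
    simp only [Set.mem_inter_iff, Set.mem_insert_iff, Set.mem_singleton_iff]
    constructor
    · rintro ⟨hz, rfl | rfl⟩
      · exact absurd hz hcn
      · rfl
    · rintro rfl
      exact ⟨hqc, Or.inr rfl⟩
  have e2 : centres H X ∩ fixSet H W₂ = ∅ := by
    rw [hF₂, Set.eq_empty_iff_forall_notMem]
    rintro z ⟨hz, rfl | rfl⟩
    · exact hcn hz
    · exact hdn hz
  rw [e1, Set.ncard_singleton] at h1
  rw [e2, Set.ncard_empty] at h2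
  have h10 : 1 ≡ 0 [MOD r] := h1.symm.trans h2
  exact hr.one_lt.ne' (Nat.dvd_one.1 ((Nat.modEq_zero_iff_dvd).1 h10))

/-- The downward induction. -/
theorem centred_induction (hC : Ctx H) {r : ℕ} (hr : r.Prime) (hE : ExactPrime H r)
    (hmax : ∀ X : Subgroup G, X ≠ ⊥ → IsPGroup r X → ThreeFix H X →
      (∀ X' : Subgroup G, IsPGroup r X' → X < X' → ¬ ThreeFix H X') → fixSet H X ⊆ centres H X) :
    CentredAt H r := by
  haveI := hC.fin
  intro X hX h3 c hc
  suffices h : fixSet H X ⊆ centres H X from h hc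
  clear hc c
  induction hn : Nat.card G - Nat.card X using Nat.strong_induction_on generalizing X with
  | _ n IH =>
  by_cases h0 : X = ⊥
  · subst h0
    intro p _
    obtain ⟨⟨v, hv, hvp⟩⟩ := (Nat.card_pos_iff.mp (TwoFusionB.fixInv_card_pos hC.se p)).1
    exact ⟨v, hv, hvp, mem_centralizer_iff.2 fun x hx => by simp [mem_bot.1 hx]⟩
  by_cases hbig : ∃ X' : Subgroup G, IsPGroup r X' ∧ X < X' ∧ ThreeFix H X'
  · refine centred_step hC hr hE hX h3 (fun X' h1 h2 h3' => IH _ ?_ X' h1 h3' rfl) hbig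
    have h4 : Nat.card X' ≤ Nat.card G := card_le_card_group _
    have h5 : Nat.card X < Nat.card X' := by
      by_contra hle
      exact h2.ne (eq_of_le_of_card_ge h2.le (not_lt.1 hle))
    omega
  · exact hmax X h0 hX h3 fun X' h1 h2 h3' => hbig ⟨X', h1, h2, h3'⟩

/-- A good prime with exact Sylow subgroups is centred. -/
theorem centredAt_of_goodAt (hC : Ctx H) {r : ℕ} (hr : r.Prime) (hr2 : r ≠ 2)
    (hE : ExactPrime H r) (hG : GoodAt H r) : CentredAt H r :=
  centred_induction hC hr hE fun X _ hX h3 hmax c hc => by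
    haveI := hC.fin
    obtain ⟨v, hvN, hv, hvc⟩ := (maximal_case hC hr hr2 hE hX h3 hmax).1 c hc
    exact ⟨v, hv, hvc, hG X hX h3 v hv hvN ⟨c, hc, hvc⟩⟩

section Maximal

variable [Finite G] (hH : Cfsg.IsStronglyEmbedded H)
include hH

/-- The involutions of `N` with centre `c` generate, modulo an odd normal subgroup, a group of
exponent two, covered by an abelian `2`-group. -/
theorem exists_elementary (N O : Subgroup G) (hO : Odd (Nat.card O))
    (hNO : N ≤ normalizer (O : Set G)) (hON : O ≤ N) (c : G ⧸ H) (hOc : O ≤ stabilizer G c)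
    (hcomm : ∀ v ∈ N, ∀ w ∈ N, orderOf v = 2 → v • c = c → orderOf w = 2 → w • c = c →
      v * w * v⁻¹ * w⁻¹ ∈ O)
    {v : G} (hvN : v ∈ N) (hv : orderOf v = 2) (hvc : v • c = c) :
    ∃ E : Subgroup G, v ∈ E ∧ IsPGroup 2 E ∧ IsMulCommutative E ∧ E ≤ N ∧
      E ≤ stabilizer G c ∧ (∀ e ∈ E, e ≠ 1 → orderOf e = 2) ∧
      ∀ g ∈ N, g • c = c → ∀ e ∈ E, g * e * g⁻¹ ∈ E ⊔ O := by
  classical
  have := hH
  set S : Set G := {w | w ∈ N ∧ orderOf w = 2 ∧ w • c = c} with hS
  set M : Subgroup G := closure S ⊔ O with hM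
  have hMN : M ≤ N := sup_le ((closure_le _).2 fun w hw => hw.1) hON
  have hMc : M ≤ stabilizer G c := sup_le ((closure_le _).2 fun w hw => hw.2.2) hOc
  have hOM : O ≤ M := le_sup_right
  haveI hn : (O.subgroupOf M).Normal := ⟨fun n hn g => by
    rw [mem_subgroupOf] at hn ⊢
    simpa using (mem_normalizer_iff.1 (hNO (hMN g.2)) _).1 hn⟩
  set π := QuotientGroup.mk' (O.subgroupOf M) with hπ
  have hker : ∀ m : M, π m = 1 ↔ (m : G) ∈ O := fun m => by
    rw [hπ, QuotientGroup.mk'_apply, QuotientGroup.eq_one_iff, mem_subgroupOf]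
  set T : Set (M ⧸ O.subgroupOf M) := π '' {m : M | (m : G) ∈ S} with hT
  have hTop : ∀ z, z ∈ closure T := by
    intro z
    obtain ⟨m, rfl⟩ := QuotientGroup.mk'_surjective _ z
    have h1 : M ≤ ((closure T).comap π).map M.subtype := by
      refine sup_le ((closure_le _).2 fun w hw => ?_) fun o ho => ?_
      · exact ⟨⟨w, mem_sup_left (subset_closure hw)⟩, subset_closure ⟨_, hw, rfl⟩, rfl⟩
      · refine ⟨⟨o, hOM ho⟩, ?_, rfl⟩
        show π _ ∈ closure T
        rw [(hker ⟨o, hOM ho⟩).2 ho]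
        exact one_mem _
    obtain ⟨m', hm', e⟩ := h1 m.2
    have : m' = m := Subtype.ext e
    subst this
    exact hm'
  have hTc : ∀ a ∈ T, ∀ b ∈ T, a * b = b * a := by
    rintro _ ⟨a, ha, rfl⟩ _ ⟨b, hb, rfl⟩
    rw [← commutatorElement_eq_one_iff_mul_comm, ← map_commutatorElement, hker]
    rw [commutatorElement_def]
    simpa using hcomm _ ha.1 _ hb.1 ha.2.1 ha.2.2 hb.2.1 hb.2.2
  have hab : ∀ a b : M ⧸ O.subgroupOf M, a * b = b * a := by
    have h1 : ∀ a ∈ T, ∀ b, a * b = b * a := fun a ha b => by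
      have : closure T ≤ centralizer ({a} : Set _) := (closure_le _).2 fun x hx =>
        mem_centralizer_singleton_iff.2 (hTc x hx a ha)
      exact (mem_centralizer_singleton_iff.1 (this (hTop b))).symm
    intro a b
    have : closure T ≤ centralizer ({b} : Set _) := (closure_le _).2 fun x hx =>
      mem_centralizer_singleton_iff.2 (h1 x hx b)
    exact mem_centralizer_singleton_iff.1 (this (hTop a))
  have hsq : ∀ z : M ⧸ O.subgroupOf M, z * z = 1 := fun z => by
    induction hTop z using closure_induction with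
    | mem x hx =>
      obtain ⟨m, hm, rfl⟩ := hx
      rw [← map_mul, hker]
      simp [sq_eq_one_of_inv hm.2.1]
    | one => simp
    | mul x y _ _ hx hy =>
      calc x * y * (x * y) = x * (y * x) * y := by group
        _ = x * (x * y) * y := by rw [hab y x]
        _ = (x * x) * (y * y) := by group
        _ = 1 := by rw [hx, hy, one_mul]
    | inv x _ hx => rw [← mul_inv_rev, hx, inv_one]
  haveI : Fact (Nat.Prime 2) := ⟨Nat.prime_two⟩
  have hvM : v ∈ M := mem_sup_left (subset_closure ⟨hvN, hv, hvc⟩)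
  obtain ⟨P, hP⟩ : ∃ P : Sylow 2 M, zpowers (⟨v, hvM⟩ : M) ≤ P := by
    refine IsPGroup.exists_le_sylow (IsPGroup.of_card (n := 1) ?_)
    rw [Nat.card_zpowers, orderOf_mk, hv, pow_one]
  -- the image of a Sylow subgroup is everything
  have hsurj : ∀ m : M, ∃ e ∈ (P : Subgroup M), π e = π m := by
    intro m
    set P' := P.mapSurjective (f := π) (QuotientGroup.mk'_surjective _) with hP'
    have hall : IsPGroup 2 (⊤ : Subgroup (M ⧸ O.subgroupOf M)) := fun z => ⟨1, Subtype.ext (by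
      simp [pow_two, hsq])⟩
    have htop : (⊤ : Subgroup (M ⧸ O.subgroupOf M)) = (P' : Subgroup _) :=
      P'.is_maximal' hall le_top
    have hm : π m ∈ (P' : Subgroup _) := htop ▸ mem_top _
    rw [hP', Sylow.coe_mapSurjective] at hm
    obtain ⟨e, he, hee⟩ := hm
    exact ⟨e, he, hee⟩
  set E : Subgroup G := (P : Subgroup M).map M.subtype with hE
  have hEp : IsPGroup 2 E := P.isPGroup'.map _
  have hEO : ∀ z ∈ E, z ∈ O → z = 1 := fun z hzE hzO => by
    have h1 : orderOf z ∣ Nat.gcd (Nat.card E) (Nat.card O) :=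
      Nat.dvd_gcd (Subgroup.orderOf_dvd_natCard _ hzE) (Subgroup.orderOf_dvd_natCard _ hzO)
    obtain ⟨n, hn⟩ := IsPGroup.iff_card.1 hEp
    rw [hn, Nat.Coprime.gcd_eq_one ((Nat.coprime_two_left.2 hO).pow_left n)] at h1
    exact orderOf_eq_one_iff.1 (Nat.dvd_one.1 h1)
  refine ⟨E, ⟨⟨v, hvM⟩, hP (mem_zpowers _), rfl⟩, hEp, ?_, (map_subtype_le _).trans hMN,
    (map_subtype_le _).trans hMc, ?_, ?_⟩
  · refine ⟨⟨fun a b => Subtype.ext ?_⟩⟩
    obtain ⟨a', ha', ea⟩ := a.2
    obtain ⟨b', hb', eb⟩ := b.2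
    have h1 : (a : G) * b * (a : G)⁻¹ * (b : G)⁻¹ ∈ O := by
      have h2 : π (a' * b' * a'⁻¹ * b'⁻¹) = 1 := by
        simp only [map_mul, map_inv]
        rw [hab (π a') (π b')]
        group
      have h3 := (hker _).1 h2
      rw [← ea, ← eb]
      simpa using h3
    have h2 := hEO _ (mul_mem (mul_mem (mul_mem a.2 b.2) (inv_mem a.2)) (inv_mem b.2)) h1
    show (a : G) * b = b * a
    calc (a : G) * b = ((a : G) * b * (a : G)⁻¹ * (b : G)⁻¹) * (b * a) := by group
      _ = b * a := by rw [h2, one_mul]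
  · intro e he hne
    obtain ⟨e', he', rfl⟩ := he
    refine orderOf_eq_prime ?_ hne
    refine hEO _ (pow_mem (show M.subtype e' ∈ E from ⟨e', he', rfl⟩) 2) ?_
    have h1 := (hker (e' * e')).1 (by rw [map_mul]; exact hsq _)
    simpa [pow_two] using h1
  · intro g hg hgc e he
    obtain ⟨e', he', rfl⟩ := he
    have hgM : g * e' * g⁻¹ ∈ M := by
      have hmap : M ≤ M.comap (MulAut.conj g).toMonoidHom := by
        refine sup_le ((closure_le _).2 fun w hw => mem_sup_left (subset_closure ?_)) fun o ho => ?_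
        · refine ⟨mul_mem (mul_mem hg hw.1) (inv_mem hg), ?_, ?_⟩
          · exact (orderOf_conj_eq g w).trans hw.2.1
          · show (g * w * g⁻¹) • c = c
            have hgi : g⁻¹ • c = c := by rw [inv_smul_eq_iff, hgc]
            rw [mul_smul, mul_smul, hgi, hw.2.2, hgc]
        · exact mem_sup_right ((mem_normalizer_iff.1 (hNO hg) o).1 ho)
      simpa using hmap e'.2
    obtain ⟨f, hf, hfm⟩ := hsurj ⟨_, hgM⟩
    have h1 : (f : G)⁻¹ * (g * e' * g⁻¹) ∈ O := by
      have h2 : π (f⁻¹ * ⟨_, hgM⟩) = 1 := by rw [map_mul, map_inv, hfm, inv_mul_cancel]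
      simpa using (hker _).1 h2
    have h3 := mul_mem (mem_sup_left (T := O) (show (f : G) ∈ E from ⟨f, hf, rfl⟩))
      (mem_sup_right h1)
    simpa [mul_assoc] using h3

end Maximal

/-- A maximal `r`-group with three fixed points is centralised by the involutions of its
normaliser at its fixed points, if an exact abelian `r`-group is present. -/
theorem maximal_centred (hC : Ctx H) {r : ℕ} (hr : r.Prime) (hr2 : r ≠ 2)
    (hA : ExactAbelian H r)
    {X : Subgroup G} (h0 : X ≠ ⊥) (hX : IsPGroup r X) (h3 : ThreeFix H X)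
    (hmax : ∀ X' : Subgroup G, IsPGroup r X' → X < X' → ¬ ThreeFix H X') :
    fixSet H X ⊆ centres H X := by
  haveI := hC.fin
  haveI : Fact r.Prime := ⟨hr⟩
  intro c hc
  set N := normalizer (X : Set G) with hN
  obtain ⟨hcen, hrank, -⟩ := maximal_case hC hr hr2 (exactPrime_of_exactAbelian hC hr hA) hX h3 hmax
  obtain ⟨v, hvN, hv, hvc⟩ := hcen c hc
  obtain ⟨q, hq, hqc⟩ := exists_ne_of_threeFix h3 c
  obtain ⟨w, hwN, hw, hwq⟩ := hcen q hq
  have hXodd := odd_card_of_isPGroup hr hr2 hX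
  have hNtop : N ≠ ⊤ := normalizer_ne_top hC.se hC.core h0 hXodd
  set O := (Cfsg.oddCore N).map N.subtype with hOdef
  have hON : O ≤ N := map_subtype_le _
  have hNO : N ≤ normalizer (O : Set G) := le_normalizer_map_subtype _
  have hOodd : Odd (Nat.card O) := by
    rw [hOdef, card_map_of_injective N.subtype_injective]
    exact BenderCons37.oddCore_card_odd
  have hXN : X ≤ N := le_normalizer
  have hXO : X ≤ O := by
    haveI : (X.subgroupOf N).Normal := normal_subgroupOf_of_le_normalizer le_rfl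
    have h1 : X.subgroupOf N ≤ Cfsg.oddCore N := Thompson.le_pPrimeCore inferInstance
      (Nat.coprime_two_right.2 (by rwa [Nat.card_congr (subgroupOfEquivOfLe hXN).toEquiv]))
    exact fun x hx => ⟨⟨x, hXN hx⟩, h1 (mem_subgroupOf.2 hx), rfl⟩
  -- the core fixes each centre
  have hOc : O ≤ stabilizer G c := core_fix hC hNtop hvN hv hwN hw hvc hwq hqc.symm hrank hvN hv hvc
  have hOq : O ≤ stabilizer G q := core_fix hC hNtop hvN hv hwN hw hvc hwq hqc.symm hrank hwN hw hwq
  -- the abelian group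
  obtain ⟨E, hvE, hE2, hEab, hEN, hEc, hEinv, hEconj⟩ := exists_elementary hC.se N O hOodd hNO hON
    c hOc (fun a ha b hb h1 h2 h3 h4 => commutator_mem hC hNtop hvN hv hwN hw hvc hwq hqc.symm hrank
      ha h1 hb h3 h2 h4) hvN hv hvc
  -- the quadratic element
  obtain ⟨A, hAD, hAp, hAab, hDA, hAfix⟩ := hA c q hqc.symm
  set D := stab2 c q with hD
  have hXD : X ≤ D := fun x hx => mem_inf.2 ⟨hc x hx, hq x hx⟩
  have hXA : X ≤ normalizer (A : Set G) := hXD.trans hDA
  have hAX : IsPGroup r (A ⊔ X : Subgroup G) := by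
    exact IsPGroup.to_sup_of_normal_left' hAp hX hXA
  have hltAX : X < A ⊔ X := lt_of_le_of_ne le_sup_right fun e =>
    not_threeFix_pair h3 (p := c) (q := q) (hAfix ▸ fixSet_anti (e ▸ le_sup_left))
  obtain ⟨b, hbAX, hbN, hbX⟩ := exists_normalizer_gt hAX hltAX
  obtain ⟨a, haA, x, hxX, rfl⟩ := Coprime.exists_mul_of_mem_sup hXA hbAX
  have haN : a ∈ N := by simpa using mul_mem hbN (inv_mem (hXN hxX))
  have haX : a ∉ X := fun h => hbX (mul_mem h hxX)
  have haD : a ∈ D := hAD haA
  have hac : a • c = c := (mem_inf.1 haD).1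
  have hquad : ∀ y ∈ X, ⁅⁅y, a⁆, a⁆ = 1 := by
    intro y hy
    have h1 : ⁅y, a⁆ ∈ A := by
      rw [commutatorElement_def]
      exact mul_mem ((mem_normalizer_iff.1 (hXA hy) a).1 haA) (inv_mem haA)
    rw [commutatorElement_eq_one_iff_mul_comm]
    exact congrArg Subtype.val (mul_comm' (⟨_, h1⟩ : A) ⟨a, haA⟩)
  refine ⟨v, hv, hvc, le_centralizer_of_quadratic hr2 (x := a) hX hOodd hE2 hEab ?_ hON hEN haN ((hEN).trans hNO) (hNO haN)
    (fun e he => hEconj a haN hac e he) ?_ hquad hvE⟩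
  · obtain ⟨i, hi⟩ := hAp ⟨a, haA⟩
    exact ⟨i, by simpa using congrArg Subtype.val hi⟩
  -- a fixed-point free action of `a` on `E` modulo the core
  intro e heE hae
  by_contra hne'
  have he : orderOf e = 2 := hEinv e heE hne'
  have heN : e ∈ N := hEN heE
  have hec : e • c = c := hEc heE
  set L := O ⊔ zpowers a with hLdef
  have hOD : O ≤ D := le_inf hOc hOq
  have hLD : L ≤ D := sup_le hOD (zpowers_le.2 haD)
  have hDodd : Odd (Nat.card D) := odd_stab2 hC.se hqc.symm
  have hLodd : Odd (Nat.card L) := hDodd.of_dvd_nat (card_dvd_of_le hLD)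
  have heL : e ∈ normalizer (L : Set G) := by
    refine mem_normalizer_of_conj he fun g hg => ?_
    have hle : L ≤ L.comap (MulAut.conj e).toMonoidHom := by
      refine sup_le (fun o ho => ?_) (zpowers_le.2 ?_)
      · exact mem_sup_left ((mem_normalizer_iff.1 (hNO heN) o).1 ho)
      · show e * a * e⁻¹ ∈ L
        have h1 : (a * e * a⁻¹ * e⁻¹)⁻¹ * a ∈ L :=
          mul_mem (mem_sup_left (inv_mem hae)) (mem_sup_right (mem_zpowers a))
        simpa [mul_assoc] using h1
    exact hle hg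
  have heX : zpowers e ≤ normalizer (X : Set G) := zpowers_le.2 heN
  obtain ⟨W', hXW, heW⟩ := Coprime.exists_invariant_sylow_ge (zpowers e) L (zpowers_le.2 heL)
    (coprime_zpowers hC.se he hLodd) (Or.inr (PF14.feitThompson _ hLodd)) r X
    (hXO.trans le_sup_left) hX heX
  set W := (W' : Subgroup L).map L.subtype with hWdef
  have hWD : W ≤ D := (map_subtype_le _).trans hLD
  have hXaX : X ⊔ zpowers a ≤ A ⊔ X := sup_le le_sup_right (zpowers_le.2 (mem_sup_left haA))
  have hXaL : X ⊔ zpowers a ≤ L := sup_le (hXO.trans le_sup_left) le_sup_right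
  have hltW : X < W := by
    refine lt_of_le_of_ne hXW fun e' => ?_
    obtain ⟨R, hR⟩ := ((hAX.to_le hXaX).comap_subtype (K := L)).exists_le_sylow
    have h1 : Nat.card (X ⊔ zpowers a : Subgroup G) ≤ Nat.card X := by
      have hXcard : Nat.card X = Nat.card W := by rw [← e']
      rw [hXcard, hWdef, card_map_of_injective L.subtype_injective, W'.card_eq_multiplicity,
        ← R.card_eq_multiplicity, ← Nat.card_congr (subgroupOfEquivOfLe hXaL).toEquiv]
      exact card_le_of_le hR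
    refine haX ?_
    rw [eq_of_le_of_card_ge (le_sup_left : X ≤ X ⊔ zpowers a) h1]
    exact mem_sup_right (mem_zpowers a)
  have hcW : c ∈ fixSet H W := fun t ht => (mem_inf.1 (hWD ht)).1
  have hqW : q ∈ fixSet H W := fun t ht => (mem_inf.1 (hWD ht)).2
  have hWF := fixSet_pair_of_not_threeFix hcW hqW hqc.symm
    (hmax W (W'.isPGroup'.map _) hltW)
  have hmem := smul_mem_fixSet (heW (mem_zpowers e)) hqW
  rw [hWF] at hmem
  rcases hmem with h | h
  · exact hqc (smul_left_cancel e (h.trans hec.symm))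
  · exact hqc (fix_unique hC.se he h hec)

/-- An exact abelian normal subgroup makes the prime centred. -/
theorem centredAt_of_exactAbelian (hC : Ctx H) {r : ℕ} (hr : r.Prime) (hr2 : r ≠ 2)
    (hA : ExactAbelian H r) :
    CentredAt H r :=
  centred_induction hC hr (exactPrime_of_exactAbelian hC hr hA) fun _ h0 hX h3 hmax =>
    maximal_centred hC hr hr2 hA h0 hX h3 hmax

/-- An exact abelian normal subgroup makes the prime good. -/
theorem goodAt_of_exactAbelian (hC : Ctx H) {r : ℕ} (hr : r.Prime) (hr2 : r ≠ 2)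
    (hA : ExactAbelian H r) :
    GoodAt H r :=
  goodAt_of_centredAt hC hr hr2 (centredAt_of_exactAbelian hC hr hr2 hA)

end Cfsg.Agent.Bender85
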