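import Cfsg.Agent.Bender85.BadTop.Root
import Cfsg.Agent.Bender85.Pairs
import Cfsg.Agent.BenderCons37.Glue

/-!
An exact prime `r` that is not good: the normaliser of `Z(J(Y))`, `Y` a Sylow `r`-subgroup of
`G_ab`, has rank two and involutions with centres `a` and `b` (NONCORE2, (B)).
-/

set_option autoImplicit false
set_option linter.style.haveILetI false
set_option linter.unusedSectionVars false

namespace Cfsg.Agent.Bender85

open Subgroup MulAction Bender43 Bender43.Fixed BadTop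
open scoped commutatorElement

universe u

variable {G : Type u} [Group G] [Finite G] {H : Subgroup G}

/-- `G` is transitive on ordered pairs of points. -/
theorem exists_smul_pair_badTop (hC : Ctx H) {a b c d : G ⧸ H} (hab : a ≠ b) (hcd : c ≠ d) :
    ∃ g : G, g • a = c ∧ g • b = d := by
  obtain ⟨g₁, rfl⟩ := exists_smul_eq G (QuotientGroup.mk 1 : G ⧸ H) a
  obtain ⟨g₂, rfl⟩ := exists_smul_eq G (QuotientGroup.mk 1 : G ⧸ H) c
  have key : ∀ (g : G) (x : G ⧸ H), g • (QuotientGroup.mk 1 : G ⧸ H) ≠ x →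
      ∃ y : G, y ∉ H ∧ g⁻¹ • x = (y : G ⧸ H) := by
    intro g x hx
    obtain ⟨y, hy⟩ := QuotientGroup.mk_surjective (g⁻¹ • x)
    refine ⟨y, fun hyH => hx ?_, hy.symm⟩
    have h1 : ((y : G) : G ⧸ H) = QuotientGroup.mk 1 := by
      rw [QuotientGroup.eq]
      simpa using hyH
    rw [← h1, hy, smul_inv_smul]
  obtain ⟨y₁, hy₁, e₁⟩ := key g₁ b hab
  obtain ⟨y₂, hy₂, e₂⟩ := key g₂ d hcd
  obtain ⟨h, hh, hk⟩ := BenderCons37.transitive_of_core hC.se hC.core hy₁ hy₂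
  refine ⟨g₂ * h * g₁⁻¹, ?_, ?_⟩
  · rw [mul_smul, mul_smul, inv_smul_smul, TwoFusionB.smul_one_eq_iff.2 hh]
  · rw [mul_smul, mul_smul, e₁, MulAction.Quotient.smul_mk, smul_eq_mul,
      (QuotientGroup.eq.2 hk).symm, ← e₂, smul_inv_smul]

namespace BadTop

variable {r : ℕ} [Fact r.Prime]

/-- A prime that is not good has a bad group in every two-point stabiliser. -/
theorem exists_bad (hC : Ctx H) (hr2 : r ≠ 2) (hE : ExactPrime H r) (hG : ¬ GoodAt H r)
    {a b : G ⧸ H} (hab : a ≠ b) : ∃ X : Subgroup G, Bad r a b X := by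
  classical
  haveI : Fintype (Subgroup G) := Fintype.ofFinite _
  unfold GoodAt at hG
  push Not at hG
  obtain ⟨X₀, hX₀, h3₀, v₀, hv₀, hv₀N, hc₀, hv₀C⟩ := hG
  set S : Finset (Subgroup G) := Finset.univ.filter fun X => IsPGroup r X ∧ ThreeFix H X ∧
    ∃ v : G, orderOf v = 2 ∧ v ∈ normalizer (X : Set G) ∧ (∃ c ∈ fixSet H X, v • c = c) ∧
      v ∉ centralizer (X : Set G) with hS
  obtain ⟨X, hXS, hmaxcard⟩ := S.exists_max_image (fun X => Nat.card X)
    ⟨X₀, by simp only [hS, Finset.mem_filter, Finset.mem_univ, true_and]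
            exact ⟨hX₀, h3₀, v₀, hv₀, hv₀N, hc₀, hv₀C⟩⟩
  simp only [hS, Finset.mem_filter, Finset.mem_univ, true_and] at hXS
  obtain ⟨hX, h3, v, hv, hvN, ⟨c, hc, hvc⟩, hvC⟩ := hXS
  obtain ⟨p, hp, q, hq, d, hd, hpq, hpd, hqd⟩ := h3
  have h3 : ThreeFix H X := ⟨p, hp, q, hq, d, hd, hpq, hpd, hqd⟩
  -- `X` is maximal
  have hmax : ∀ X' : Subgroup G, IsPGroup r X' → X < X' → ¬ ThreeFix H X' := by
    intro X' hX' hlt h3'
    set T : Finset (Subgroup G) :=
      Finset.univ.filter fun W => IsPGroup r W ∧ ThreeFix H W ∧ X' ≤ W with hT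
    obtain ⟨W, hWT, hWmax⟩ := T.exists_max_image (fun W => Nat.card W)
      ⟨X', by simp only [hT, Finset.mem_filter, Finset.mem_univ, true_and]
              exact ⟨hX', h3', le_rfl⟩⟩
    simp only [hT, Finset.mem_filter, Finset.mem_univ, true_and] at hWT
    obtain ⟨hW, h3W, hX'W⟩ := hWT
    have hWmax' : ∀ W' : Subgroup G, IsPGroup r W' → W < W' → ¬ ThreeFix H W' := by
      intro W' hW' hlt' h3W'
      have hle := hWmax W' (by
        simp only [hT, Finset.mem_filter, Finset.mem_univ, true_and]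
        exact ⟨hW', h3W', hX'W.trans hlt'.le⟩)
      exact hlt'.ne (eq_of_le_of_card_ge hlt'.le hle)
    have hXW : X < W := lt_of_lt_of_le hlt hX'W
    have hcen := (maximal_case hC Fact.out hr2 hE hW h3W hWmax').1
    have hcentral : ∀ d ∈ fixSet H W, ∀ t ∈ normalizer (W : Set G), orderOf t = 2 → t • d = d →
        t ∈ centralizer (X : Set G) := by
      intro d hd t ht ht2 htd
      by_contra htC
      have htW : t ∉ centralizer (W : Set G) := fun h => htC (centralizer_le hXW.le h)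
      have hle := hmaxcard W (by
        simp only [hS, Finset.mem_filter, Finset.mem_univ, true_and]
        exact ⟨hW, h3W, t, ht2, ht, ⟨d, hd, htd⟩, htW⟩)
      exact hXW.ne (eq_of_le_of_card_ge hXW.le hle)
    obtain ⟨d₁, hd₁, d₂, hd₂, -, -, hd12, -, -⟩ := h3W
    obtain ⟨t₁, ht₁, ht₁2, ht₁d⟩ := hcen d₁ hd₁
    obtain ⟨t₂, ht₂, ht₂2, ht₂d⟩ := hcen d₂ hd₂
    have h1 := hcentral d₁ hd₁ t₁ ht₁ ht₁2 ht₁d
    have h2 := hcentral d₂ hd₂ t₂ ht₂ ht₂2 ht₂d
    obtain ⟨g, hg, hgv⟩ := isConj_in hC (centralizer_le_normalizer _ h1) ht₁2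
      (centralizer_le_normalizer _ h2) ht₂2 ht₁d ht₂d hd12
      (centralizer_le_normalizer _ h1) ht₁2 hvN hv
    exact hvC (hgv ▸ (mem_normalizer_iff.1
      (Coprime.le_normalizer_centralizer (A := normalizer (X : Set G)) le_rfl hg) t₁).1 h1)
  obtain ⟨hcen, hR, -⟩ := maximal_case hC Fact.out hr2 hE hX h3 hmax
  obtain ⟨g, hga, hgb⟩ := exists_smul_pair_badTop hC hpq hab
  set φ := (MulAut.conj g).toMonoidHom with hφ
  have hnorm : ∀ t ∈ normalizer (X : Set G),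
      g * t * g⁻¹ ∈ normalizer ((X.map φ : Subgroup G) : Set G) := fun t ht =>
    le_normalizer_map (f := φ) ⟨t, ht, rfl⟩
  have hfix : ∀ (t : G) (d : G ⧸ H), t • d = d → (g * t * g⁻¹) • g • d = g • d := by
    intro t d h
    rw [mul_smul, mul_smul, inv_smul_smul, h]
  obtain ⟨e, he, he2, hep⟩ := hcen p hp
  obtain ⟨w, hw, hw2, hwq⟩ := hcen q hq
  obtain ⟨e₁, he₁, f₁, hf₁, he₁', hf₁', hne₁, hcom₁⟩ :=
    fourAt_conj hC he he2 hw hw2 hep hwq hpq hR he he2 hep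
  refine ⟨X.map φ, hX.map φ, ?_, ⟨g * e₁ * g⁻¹, hnorm _ he₁, g * f₁ * g⁻¹, hnorm _ hf₁,
      ⟨by rw [TwoFusionB.orderOf_conj_eq, he₁'.1], by rw [← hga]; exact hfix _ _ he₁'.2⟩,
      ⟨by rw [TwoFusionB.orderOf_conj_eq, hf₁'.1], by rw [← hga]; exact hfix _ _ hf₁'.2⟩,
      fun h => hne₁ (mul_left_cancel (mul_right_cancel h)), hcom₁.map φ⟩,
    ⟨g * w * g⁻¹, hnorm _ hw, by rw [TwoFusionB.orderOf_conj_eq, hw2],
      by rw [← hgb]; exact hfix _ _ hwq⟩,
    ⟨g * v * g⁻¹, hnorm _ hvN, by rw [TwoFusionB.orderOf_conj_eq, hv], fun h => hvC ?_⟩⟩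
  · rintro _ ⟨x, hx, rfl⟩
    refine mem_inf.2 ⟨?_, ?_⟩ <;> rw [mem_stabilizer_iff]
    · rw [← hga]; exact hfix _ _ (hp x hx)
    · rw [← hgb]; exact hfix _ _ (hq x hx)
  · refine mem_centralizer_iff.2 fun x hx => ?_
    have h1 := mem_centralizer_iff.1 h _ ⟨x, hx, rfl⟩
    simp [hφ] at h1
    exact h1

variable (hC : Ctx H) {a b : G ⧸ H} (hab : a ≠ b) {X P : Subgroup G} (hX : Bad r a b X)
  (hP : Max r P (stab2 a b ⊓ normalizer (X : Set G)))
include hC hab hX hP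

theorem le_max : X ≤ P := by
  have hXL : X ≤ stab2 a b ⊓ normalizer (X : Set G) := le_inf hX.le le_normalizer
  have hsup : IsPGroup r ↥(P ⊔ X) :=
    hP.pgroup.to_sup_of_normal_right' hX.pgroup (hP.le.trans inf_le_right)
  rw [← hP.eq_of_le hsup le_sup_left (sup_le hP.le hXL)]
  exact le_sup_right

/-- A group outside the kernel of the action on the involutions at `c`, quadratic on `X`, gives a
centralising involution. -/
theorem quad_case (hr2 : r ≠ 2) {x : G} (hxP : x ∈ P) (hq : ∀ y ∈ X, ⁅⁅y, x⁆, x⁆ = 1)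
    {c : G ⧸ H} (hxc : x • c = c) {i : G} (hi : i ∈ normalizer (X : Set G)) (hic : i ∈ invAt H c)
    (hxi : x * i * x⁻¹ * i⁻¹ ∉
      (Cfsg.oddCore ↥(normalizer (X : Set G))).map (normalizer (X : Set G)).subtype) :
    False := by
  haveI : Fact (Nat.Prime 2) := ⟨Nat.prime_two⟩
  set N := normalizer (X : Set G) with hN
  set O := Cfsg.oddCore N
  set K := O.map N.subtype with hK
  obtain ⟨e, he, f, hf, he', hf', hef, hcom⟩ := hX.four
  obtain ⟨w, hw, hw'⟩ := hX.other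
  obtain ⟨E, hE2, hEle, -, hsq, hab', hnorm, hinv⟩ := exists_root hC (hX.normalizer_ne_top hC hab)
    he he'.1 hw hw'.1 he'.2 hw'.2 hab (hX.fourAt_centre hC hab hi hic.1 hic.2)
  have hEN : E ≤ N := hEle.trans inf_le_left
  have hxN : x ∈ N := (mem_inf.1 (hP.le hxP)).2
  have hKN : N ≤ normalizer (K : Set G) := le_normalizer_map_subtype (Cfsg.oddCore N)
  have hKodd : Odd (Nat.card K) :=
    BenderCons37.oddCore_card_odd.of_dvd_nat (Subgroup.card_map_dvd _ _)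
  set π := QuotientGroup.mk' O with hπ
  have hker : ∀ y : N, π y = 1 ↔ (y : G) ∈ K := fun y =>
    ⟨fun h => ⟨y, (QuotientGroup.eq_one_iff _).1 h, rfl⟩, fun ⟨o, ho, hoy⟩ =>
      (QuotientGroup.eq_one_iff _).2 (Subtype.ext hoy ▸ ho)⟩
  set X' : N := ⟨x, hxN⟩ with hX'
  have hdec : ∀ y : N, (y : G) ∈ K ⊔ E → ∃ g : N, (g : G) ∈ E ∧ π g = π y := by
    intro y hy
    rw [sup_comm] at hy
    have h1 : (y : G) ∈ ((E ⊔ K : Subgroup G) : Set G) := hy
    rw [coe_mul_of_left_le_normalizer_right E K (hEN.trans hKN)] at h1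
    obtain ⟨g, hg, k, hk, h⟩ := h1
    refine ⟨⟨g, hEN hg⟩, hg, ?_⟩
    have hk1 : π ⟨k, map_subtype_le _ hk⟩ = 1 := (hker _).2 hk
    rw [show y = ⟨g, hEN hg⟩ * ⟨k, map_subtype_le _ hk⟩ from Subtype.ext h.symm, map_mul, hk1,
      mul_one]
  have hconjE : ∀ g : N, (g : G) ∈ E →
      ∃ g' : N, (g' : G) ∈ E ∧ π g' = π X' * π g * (π X')⁻¹ := by
    intro g hg
    obtain ⟨g', hg', h⟩ := hdec (X' * g * X'⁻¹)
      ((mem_normalizer_iff.1 (hnorm x (mem_inf.2 ⟨hxN, hxc⟩)) (g : G)).1 (mem_sup_right hg))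
    exact ⟨g', hg', by rw [h, map_mul, map_mul, map_inv]⟩
  have hcommE : ∀ g g' : N, (g : G) ∈ E → (g' : G) ∈ E → π g * π g' = π g' * π g :=
    fun g g' hg hg' => by
      rw [← map_mul, ← map_mul]
      exact congrArg π (Subtype.ext (hab' _ hg _ hg'))
  -- the commutators with `x` of elements of `E`
  let E' : Subgroup G :=
    { carrier := {g | ∃ hg : g ∈ E, ∃ d : N, (d : G) ∈ E ∧
        π X' * π d * (π X')⁻¹ = π ⟨g, hEN hg⟩ * π d}
      one_mem' := ⟨one_mem E, 1, one_mem E, by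
        rw [show (⟨1, hEN (one_mem E)⟩ : N) = 1 from rfl, map_one, mul_one, mul_inv_cancel,
          one_mul]⟩
      mul_mem' := by
        rintro g g' ⟨hg, d, hd, h⟩ ⟨hg', d', hd', h'⟩
        refine ⟨mul_mem hg hg', d * d', mul_mem hd hd', ?_⟩
        rw [show (⟨g * g', hEN (mul_mem hg hg')⟩ : N) = ⟨g, hEN hg⟩ * ⟨g', hEN hg'⟩ from rfl,
          map_mul, map_mul]
        calc π X' * (π d * π d') * (π X')⁻¹
            = (π X' * π d * (π X')⁻¹) * (π X' * π d' * (π X')⁻¹) := by group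
          _ = π ⟨g, hEN hg⟩ * (π d * π ⟨g', hEN hg'⟩) * π d' := by rw [h, h']; group
          _ = _ := by rw [hcommE d ⟨g', hEN hg'⟩ hd hg']; group
      inv_mem' := by
        rintro g ⟨hg, d, hd, h⟩
        refine ⟨inv_mem hg, d⁻¹, inv_mem hd, ?_⟩
        rw [show (⟨g⁻¹, hEN (inv_mem hg)⟩ : N) = (⟨g, hEN hg⟩ : N)⁻¹ from rfl, map_inv, map_inv,
          ← mul_inv_rev, ← hcommE ⟨g, hEN hg⟩ d hg hd, ← h]
        group }
  have hE'E : E' ≤ E := fun g hg => hg.1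
  -- a nontrivial element
  obtain ⟨d, hd, hdi⟩ := hdec ⟨i, hi⟩ (hinv i hi hic)
  obtain ⟨d', hd', hd'd⟩ := hconjE d hd
  have hne : (d' : G) * (d : G)⁻¹ ∈ E' := by
    refine ⟨mul_mem hd' (inv_mem hd), d, hd, ?_⟩
    rw [← hd'd, show (⟨(d' : G) * (d : G)⁻¹, hEN (mul_mem hd' (inv_mem hd))⟩ : N) = d' * d⁻¹
      from rfl, map_mul, map_inv, inv_mul_cancel_right]
  have hne1 : (d' : G) * (d : G)⁻¹ ≠ 1 := by
    intro h
    refine hxi ((hker (X' * ⟨i, hi⟩ * X'⁻¹ * (⟨i, hi⟩ : N)⁻¹)).1 ?_)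
    rw [map_mul, map_mul, map_mul, map_inv, map_inv, ← hdi, ← hd'd,
      Subtype.ext (mul_inv_eq_one.1 h), mul_inv_cancel]
  have hquad := le_centralizer_of_quadratic (r := r) hr2 (X := X) (K := K) (E := E') (x := x)
    hX.pgroup hKodd (hE2.to_le hE'E)
    ⟨⟨fun p q => Subtype.ext (hab' _ (hE'E p.2) _ (hE'E q.2))⟩⟩
    (by obtain ⟨n, hn⟩ := hP.pgroup ⟨x, hxP⟩; exact ⟨n, congrArg Subtype.val hn⟩)
    (map_subtype_le _) (hE'E.trans hEN) hxN ((hE'E.trans hEN).trans hKN) (hKN hxN) ?_ ?_ hq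
  · have h2 : (d' : G) * (d : G)⁻¹ ∈ normalizer (X : Set G) := hEN (hE'E hne)
    exact hX.not_mem_centralizer hC hab h2
      (BenderCons37.orderOf_eq_two hne1 (hsq _ (hE'E hne))) (hquad hne)
  · -- invariance
    rintro g ⟨hg, d, hd, h⟩
    obtain ⟨g', hg', hg'e⟩ := hconjE ⟨g, hEN hg⟩ hg
    obtain ⟨d₁, hd₁, hd₁e⟩ := hconjE d hd
    have hmem : (g' : G) ∈ E' := by
      refine ⟨hg', d₁, hd₁, ?_⟩
      show π X' * π d₁ * (π X')⁻¹ = π g' * π d₁
      rw [hg'e, hd₁e]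
      calc π X' * (π X' * π d * (π X')⁻¹) * (π X')⁻¹
          = π X' * (π ⟨g, hEN hg⟩ * π d) * (π X')⁻¹ := by rw [h]
        _ = _ := by group
    have hk : (g' : G)⁻¹ * (x * g * x⁻¹) ∈ K := (hker (g'⁻¹ * (X' * ⟨g, hEN hg⟩ * X'⁻¹))).1 (by
      rw [map_mul, map_mul, map_mul, map_inv, map_inv, hg'e, inv_mul_cancel])
    rw [show x * g * x⁻¹ = (g' : G) * ((g' : G)⁻¹ * (x * g * x⁻¹)) by group]
    exact mul_mem_sup hmem hk
  · -- no fixed points
    rintro g ⟨hg, d, hd, h⟩ hgK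
    have hfix : π X' * π ⟨g, hEN hg⟩ * (π X')⁻¹ = π ⟨g, hEN hg⟩ := by
      have h1 := (hker (X' * ⟨g, hEN hg⟩ * X'⁻¹ * (⟨g, hEN hg⟩ : N)⁻¹)).2 hgK
      rw [map_mul, map_mul, map_mul, map_inv, map_inv, mul_inv_eq_one] at h1
      exact h1
    set F := π ⟨g, hEN hg⟩
    have hiter : ∀ j : ℕ, π X' ^ j * π d * (π X' ^ j)⁻¹ = F ^ j * π d := by
      intro j
      induction j with
      | zero => simp
      | succ j hj =>
        have hFj : π X' * F ^ j * (π X')⁻¹ = F ^ j := by rw [← conj_pow, hfix]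
        calc π X' ^ (j + 1) * π d * (π X' ^ (j + 1))⁻¹
            = π X' * (π X' ^ j * π d * (π X' ^ j)⁻¹) * (π X')⁻¹ := by rw [pow_succ']; group
          _ = (π X' * F ^ j * (π X')⁻¹) * (π X' * π d * (π X')⁻¹) := by rw [hj]; group
          _ = _ := by rw [hFj, h, pow_succ, mul_assoc]
    obtain ⟨n, hn⟩ := hP.pgroup ⟨x, hxP⟩
    have hxn : π X' ^ r ^ n = 1 := by
      rw [← map_pow, ← map_one π]
      exact congrArg π (Subtype.ext (congrArg Subtype.val hn : x ^ r ^ n = 1))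
    have h1 := hiter (r ^ n)
    rw [hxn, one_mul, inv_one, mul_one, right_eq_mul] at h1
    have hF2 : F * F = 1 := by
      rw [← map_mul, ← map_one π]
      exact congrArg π (Subtype.ext (hsq g hg))
    obtain ⟨j, hj⟩ : Odd (r ^ n) := ((Fact.out : r.Prime).odd_of_ne_two hr2).pow
    rw [hj, pow_succ, pow_mul, pow_two, hF2, one_pow, one_mul] at h1
    have hgK' : g ∈ E ⊓ K := ⟨hg, (hker _).1 h1⟩
    rwa [Thompson.inf_eq_bot_of_isPGroup_of_coprime hE2 (Nat.coprime_two_right.2 hKodd),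
      mem_bot] at hgK'

/-- A four-group at `c` normalising `X` may be chosen to normalise `Z(J(P))`. -/
theorem zj_four (hr2 : r ≠ 2)
    (hPK : ¬ r ∣ X.relIndex
      ((Cfsg.oddCore ↥(normalizer (X : Set G))).map (normalizer (X : Set G)).subtype))
    {c : G ⧸ H} (hc4 : FourAt (normalizer (X : Set G)) c) (hPc : P ≤ stabilizer G c) :
    FourAt (normalizer (X : Set G) ⊓ normalizer (Cfsg.centerThompsonAOf P : Set G)) c := by
  haveI : Fact (Nat.Prime 2) := ⟨Nat.prime_two⟩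
  set N := normalizer (X : Set G) with hN
  set K := (Cfsg.oddCore N).map N.subtype with hK
  obtain ⟨e, he, f, hf, he', hf', hef, hcom⟩ := hX.four
  obtain ⟨w, hw, hw'⟩ := hX.other
  obtain ⟨E, hE2, hEle, ⟨e₀, he₀, f₀, hf₀, he₀', hf₀', hne₀, hcom₀⟩, hsq, hab', hnorm, hinv⟩ :=
    exists_root hC (hX.normalizer_ne_top hC hab) he he'.1 hw hw'.1 he'.2 hw'.2 hab hc4
  have hEN : E ≤ N := hEle.trans inf_le_left
  have hPN : P ≤ N := hP.le.trans inf_le_right
  have hKN : N ≤ normalizer (K : Set G) := le_normalizer_map_subtype (Cfsg.oddCore N)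
  have hKodd : Odd (Nat.card K) :=
    BenderCons37.oddCore_card_odd.of_dvd_nat (Subgroup.card_map_dvd _ _)
  have hKc : K ≤ stabilizer G c := by
    obtain ⟨e₁, he₁, f₁, hf₁, he₁', -⟩ := hc4
    exact hX.core_le_stabilizer hC hab he₁ he₁'.1 he₁'.2
  set M := K ⊔ E with hM
  have hMN : M ≤ N ⊓ stabilizer G c := sup_le (le_inf (map_subtype_le _) hKc) hEle
  have hPM : P ≤ normalizer (M : Set G) := fun g hg => hnorm g (mem_inf.2 ⟨hPN hg, hPc hg⟩)
  set M₁ := M ⊔ P with hM₁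
  have hM₁le : M₁ ≤ N ⊓ stabilizer G c := sup_le hMN (le_inf hPN hPc)
  have hsol : Group.IsSolvable M₁ :=
    solvable_sup (solvable_sup (Bender43.solvable_of_odd hKodd) hE2 (hEN.trans hKN))
      hP.pgroup hPM
  haveI := hsol
  have hXP : X ≤ P := le_max hC hab hX hP
  have hXK : X ≤ K := hX.le_core hC hab
  have hcardM : Nat.card M ∣ Nat.card E * Nat.card K := by
    rw [hM, sup_comm]
    exact card_sup_dvd_of_normalizes (hEN.trans hKN)
  -- `E` is a Sylow 2-subgroup of `M₁`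
  have hEM₁ : E ≤ M₁ := le_sup_of_le_left le_sup_right
  have hEmax : Max 2 E M₁ := by
    refine ⟨hE2, hEM₁, fun h2 => ?_⟩
    have hd : Nat.card M₁ ∣ Nat.card E * (Nat.card K * Nat.card P) := by
      rw [hM₁, sup_comm]
      refine (card_sup_dvd_of_normalizes hPM).trans ?_
      calc Nat.card P * Nat.card M ∣ Nat.card P * (Nat.card E * Nat.card K) :=
            Nat.mul_dvd_mul_left _ hcardM
        _ = Nat.card E * (Nat.card K * Nat.card P) := by ring
    rw [← card_mul_relIndex hEM₁, Nat.mul_dvd_mul_iff_left Nat.card_pos] at hd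
    have hodd : Odd (Nat.card K * Nat.card P) := by
      obtain ⟨n, hn⟩ := IsPGroup.iff_card.1 hP.pgroup
      rw [hn]
      exact hKodd.mul (((Fact.out : r.Prime).odd_of_ne_two hr2).pow)
    exact hodd.not_two_dvd_nat (h2.trans hd)
  -- `P` is a Sylow `r`-subgroup of `M₁`
  have hPmax : Max r P M₁ := by
    refine max_sup hP.pgroup hPM fun hd => ?_
    have hd' := hd.trans (relIndex_dvd_of_le_left M hXP)
    rw [← relIndex_mul_relIndex X K M hXK le_sup_left] at hd'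
    rcases (Fact.out : r.Prime).dvd_mul.1 hd' with h | h
    · exact hPK h
    · have h' : K.relIndex M ∣ Nat.card E := by
        rw [← Nat.mul_dvd_mul_iff_left (Nat.card_pos (α := K)),
          card_mul_relIndex (le_sup_left : K ≤ M), mul_comm]
        exact hcardM
      obtain ⟨n, hn⟩ := IsPGroup.iff_card.1 hE2
      exact hr2 ((Nat.prime_dvd_prime_iff_eq Fact.out Nat.prime_two).1
        ((Fact.out : r.Prime).dvd_of_dvd_pow (hn ▸ h.trans h')))
  obtain ⟨S, hS⟩ := hPmax.exists_sylow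
  have habM : ∀ T : Sylow 2 M₁, ∀ s ∈ T, ∀ t ∈ T, Commute s t := by
    intro T s hs t ht
    obtain ⟨l, -, hl⟩ := hEmax.exists_conj (max_sylow T)
    have hmem : ∀ y : M₁, y ∈ T → ∃ y₀ ∈ E, l * y₀ * l⁻¹ = (y : G) := fun y hy => by
      have h1 : (y : G) ∈ E.map (MulAut.conj l).toMonoidHom := hl ▸ ⟨y, hy, rfl⟩
      obtain ⟨y₀, hy₀, h⟩ := h1
      exact ⟨y₀, hy₀, h⟩
    obtain ⟨s₀, hs₀, hse⟩ := hmem s hs
    obtain ⟨t₀, ht₀, hte⟩ := hmem t ht
    refine Subtype.ext ?_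
    show (s : G) * t = t * s
    rw [← hse, ← hte]
    calc l * s₀ * l⁻¹ * (l * t₀ * l⁻¹) = l * (s₀ * t₀) * l⁻¹ := by group
      _ = l * (t₀ * s₀) * l⁻¹ := by rw [hab' _ hs₀ _ ht₀]
      _ = _ := by group
  -- the `r'`-core has odd order
  set W := Cfsg.pPrimeCore r M₁ with hW
  have hWodd : Odd (Nat.card W) := by
    refine odd_of_no_inv fun t ht ht2 => ?_
    have hXM₁ : X ≤ M₁ := hXP.trans le_sup_right
    haveI hXn : (X.subgroupOf M₁).Normal :=
      normal_subgroupOf_of_le_normalizer (hM₁le.trans inf_le_left)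
    haveI : W.Normal := by rw [hW]; infer_instance
    have hdis : Disjoint (X.subgroupOf M₁) W := disjoint_iff.2
      (Thompson.inf_eq_bot_of_isPGroup_of_coprime
        (hX.pgroup.of_equiv (subgroupOfEquivOfLe hXM₁).symm) Thompson.card_pPrimeCore_coprime)
    refine hX.not_mem_centralizer hC hab (t := (t : G)) (mem_inf.1 (hM₁le t.2)).1
      ((orderOf_coe t).trans ht2) (mem_centralizer_iff.2 fun y hy => ?_)
    exact congrArg Subtype.val (commute_of_normal_of_disjoint (X.subgroupOf M₁) W hXn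
      inferInstance hdis (⟨y, hXM₁ hy⟩ : M₁) t (mem_subgroupOf.2 hy) ht).eq
  -- a Sylow 2-subgroup of the normaliser of `Z(J)` is one of `M₁`
  set NZ := normalizer (Cfsg.centerThompsonAOf (S : Subgroup M₁) : Set M₁) with hNZ
  have hfact : W ⊔ NZ = ⊤ := zj_factor hr2 habM S
  obtain ⟨R, hR, -⟩ := exists_max_ge (p := 2) (U := (⊥ : Subgroup M₁)) (IsPGroup.of_bot) (bot_le : ⊥ ≤ NZ)
  have hRmax : Max 2 (R.map M₁.subtype) M₁ := by
    refine ⟨hR.pgroup.map _, map_subtype_le _, ?_⟩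
    rw [relIndex, subgroupOf, comap_map_eq_self_of_injective M₁.subtype_injective]
    intro h2
    rw [← relIndex_top_right, ← relIndex_mul_relIndex R NZ ⊤ hR.le le_top] at h2
    rcases Nat.prime_two.dvd_mul.1 h2 with h | h
    · exact hR.coprime h
    · haveI : W.Normal := by rw [hW]; infer_instance
      have h3 : NZ.relIndex ⊤ ∣ Nat.card W := by
        rw [← hfact, relIndex_sup_eq (T := NZ) (K := W)
          (by rw [normalizer_eq_top_iff.2 (inferInstance : W.Normal)]; exact le_top)]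
        exact relIndex_dvd_card _ _
      exact hWodd.not_two_dvd_nat (h.trans h3)
  obtain ⟨l, hl, hlR⟩ := hEmax.exists_conj hRmax
  have hlN : l ∈ N ⊓ stabilizer G c := hM₁le hl
  have key : ∀ y ∈ E, l * y * l⁻¹ ∈ N ⊓ normalizer (Cfsg.centerThompsonAOf P : Set G) := by
    intro y hy
    refine mem_inf.2 ⟨mul_mem (mul_mem (mem_inf.1 hlN).1 (hEN hy)) (inv_mem (mem_inf.1 hlN).1), ?_⟩
    have h1 : l * y * l⁻¹ ∈ R.map M₁.subtype := hlR ▸ ⟨y, hy, rfl⟩
    rw [← hS, ← PLocalB.centerThompsonAOf_map M₁.subtype _ M₁.subtype_injective.injOn]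
    exact le_normalizer_map (f := M₁.subtype) (map_mono hR.le h1)
  have hlc : ∀ y : G, y • c = c → (l * y * l⁻¹) • c = c := fun y hy => by
    rw [mul_smul, mul_smul, inv_smul_eq_iff.2 (mem_stabilizer_iff.1 (mem_inf.1 hlN).2).symm, hy,
      mem_stabilizer_iff.1 (mem_inf.1 hlN).2]
  exact ⟨l * e₀ * l⁻¹, key _ he₀, l * f₀ * l⁻¹, key _ hf₀,
    ⟨by rw [TwoFusionB.orderOf_conj_eq, he₀'.1], hlc _ he₀'.2⟩,
    ⟨by rw [TwoFusionB.orderOf_conj_eq, hf₀'.1], hlc _ hf₀'.2⟩,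
    fun h => hne₀ (mul_left_cancel (mul_right_cancel h)), hcom₀.map (MulAut.conj l).toMonoidHom⟩

end BadTop

/-- The top of an exact prime that is not good. -/
theorem bad_top (hC : Ctx H) {r : ℕ} (hr : r.Prime) (hr2 : r ≠ 2) (hE : ExactPrime H r)
    (hG : ¬ GoodAt H r) {a b : G ⧸ H} (hab : a ≠ b) (Y : Sylow r (stab2 a b : Subgroup G)) :
    let Z := Cfsg.centerThompsonAOf
      ((Y : Subgroup (stab2 a b : Subgroup G)).map (stab2 a b).subtype)
    BenderCons37.RankTwo (normalizer (Z : Set G) : Subgroup G) ∧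
      (∃ v ∈ normalizer (Z : Set G), v ∈ invAt H a) ∧
      ∃ v ∈ normalizer (Z : Set G), v ∈ invAt H b := by
  classical
  haveI := Fact.mk hr
  suffices key : ∀ Y₀ : Subgroup G, Max r Y₀ (stab2 a b) →
      BenderCons37.RankTwo (normalizer (Cfsg.centerThompsonAOf Y₀ : Set G) : Subgroup G) ∧
        (∃ v ∈ normalizer (Cfsg.centerThompsonAOf Y₀ : Set G), v ∈ invAt H a) ∧
        ∃ v ∈ normalizer (Cfsg.centerThompsonAOf Y₀ : Set G), v ∈ invAt H b from
    key _ (max_sylow Y)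
  clear Y
  intro Y₀ hY₀
  haveI : Fact (Nat.Prime 2) := ⟨Nat.prime_two⟩
  haveI : Fintype (Subgroup G) := Fintype.ofFinite _
  set D := stab2 a b with hD
  -- a bad group with largest Sylow subgroup of its normaliser, then largest order
  obtain ⟨X₀, hX₀⟩ := exists_bad hC hr2 hE hG hab
  obtain ⟨P₀, hP₀, -⟩ := exists_max_ge (p := r) (U := (⊥ : Subgroup G)) IsPGroup.of_bot
    (bot_le : ⊥ ≤ D ⊓ normalizer (X₀ : Set G))
  set S : Finset (Subgroup G × Subgroup G) := Finset.univ.filter fun z =>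
    Bad r a b z.1 ∧ Max r z.2 (D ⊓ normalizer (z.1 : Set G)) with hS
  obtain ⟨⟨X, P⟩, hXS, hmax⟩ := S.exists_max_image
    (fun z => Nat.card z.2 * (Nat.card G + 1) + Nat.card z.1)
    ⟨(X₀, P₀), by simp only [hS, Finset.mem_filter, Finset.mem_univ, true_and]
                  exact ⟨hX₀, hP₀⟩⟩
  simp only [hS, Finset.mem_filter, Finset.mem_univ, true_and] at hXS
  obtain ⟨hX, hP⟩ := hXS
  have climb : ∀ T : Subgroup G, Bad r a b T → P ≤ normalizer (T : Set G) →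
      (∀ U : Subgroup G, IsPGroup r U → U ≤ D ⊓ normalizer (T : Set G) → Nat.card U ≤ Nat.card P) ∧
        (X ≤ T → T = X) := by
    intro T hT hPT
    obtain ⟨P', hP', hPP'⟩ := exists_max_ge hP.pgroup
      (le_inf (hP.le.trans inf_le_left) hPT : P ≤ D ⊓ normalizer (T : Set G))
    have hle := hmax (T, P') (by
      simp only [hS, Finset.mem_filter, Finset.mem_univ, true_and]
      exact ⟨hT, hP'⟩)
    have h1 := card_le_of_le hPP'
    have h2 : Nat.card X ≤ Nat.card G := card_le_card_group X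
    have h3 : Nat.card P' ≤ Nat.card P := by
      by_contra hlt
      have h4 : (Nat.card P + 1) * (Nat.card G + 1) ≤ Nat.card P' * (Nat.card G + 1) :=
        Nat.mul_le_mul_right _ (Nat.lt_of_not_le hlt)
      simp only at hle
      rw [add_mul, one_mul] at h4
      omega
    refine ⟨fun U hU hUle => (hP'.card_le hU hUle).trans h3, fun hXT =>
      (eq_of_le_of_card_ge hXT ?_).symm⟩
    simp only at hle
    have h4 : Nat.card P' = Nat.card P := le_antisymm h3 h1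
    rw [h4] at hle
    omega
  set N := normalizer (X : Set G) with hN
  set K := (Cfsg.oddCore N).map N.subtype with hK
  obtain ⟨e, he, f, hf, he', hf', hef, hcom⟩ := hX.four
  obtain ⟨w, hw, hw'⟩ := hX.other
  have hPN : P ≤ N := hP.le.trans inf_le_right
  have hPD : P ≤ D := hP.le.trans inf_le_left
  have hKN : N ≤ normalizer (K : Set G) := le_normalizer_map_subtype (Cfsg.oddCore N)
  have hKle : K ≤ D ⊓ N := le_inf (hX.core_le_stab2 hC hab) (map_subtype_le _)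
  have hXP : X ≤ P := le_max hC hab hX hP
  have heXc : e ∉ centralizer (X : Set G) := hX.not_mem_centralizer hC hab he he'.1
  -- 1. `X` is a Sylow subgroup of the core
  have hT : Max r (P ⊓ K) K := hP.inf_normal hKle (hPN.trans hKN)
  have hPK : P ⊓ K = X := (climb _ (bad_of_max hC hab (hKle.trans inf_le_left) hT he' hf' hef hcom
      hw' (hKN he) (hKN hf) (hKN hw) hX.pgroup (hX.le_core hC hab) he heXc)
    (fun g hg => BadTop.inf_normalizer (le_normalizer hg) (hKN (hPN hg)))).2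
      (le_inf hXP (hX.le_core hC hab))
  have hXK : ¬ r ∣ X.relIndex K := hPK ▸ hT.coprime
  -- 2. the kernel on the involutions at `a` and `b`
  set π := QuotientGroup.mk' (Cfsg.oddCore N) with hπ
  set J : Set N := {i | (i : G) ∈ invAt H a ∨ (i : G) ∈ invAt H b} with hJ
  set Q := ((centralizer (π '' J)).comap π).map N.subtype with hQ
  have hker : ∀ y : N, π y = 1 → (y : G) ∈ K := fun y h =>
    ⟨y, (QuotientGroup.eq_one_iff _).1 h, rfl⟩
  have hQmem : ∀ y : N, (y : G) ∈ Q ↔ ∀ i ∈ J, π i * π y = π y * π i := by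
    intro y
    constructor
    · rintro ⟨y', hy', hyy⟩ i hi
      rw [← show y' = y from Subtype.ext hyy]
      exact mem_centralizer_iff.1 (mem_comap.1 hy') _ ⟨i, hi, rfl⟩
    · intro h
      refine ⟨y, mem_comap.2 (mem_centralizer_iff.2 ?_), rfl⟩
      rintro _ ⟨i, hi, rfl⟩
      exact h i hi
  have hPQ : P ≤ normalizer (Q : Set G) := by
    have key : ∀ g ∈ P, ∀ y ∈ Q, g * y * g⁻¹ ∈ Q := by
      intro g hg y hy
      set g' : N := ⟨g, hPN hg⟩
      set y' : N := ⟨y, map_subtype_le _ hy⟩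
      refine (hQmem (g' * y' * g'⁻¹)).2 fun i hi => ?_
      have hga := mem_stabilizer_iff.1 (mem_inf.1 (hPD hg)).1
      have hgb := mem_stabilizer_iff.1 (mem_inf.1 (hPD hg)).2
      have hi' : g'⁻¹ * i * g' ∈ J := by
        have ho : orderOf (g⁻¹ * (i : G) * g) = orderOf (i : G) := by
          simpa using TwoFusionB.orderOf_conj_eq g⁻¹ (i : G)
        rcases hi with h | h
        · exact Or.inl ⟨ho.trans h.1, by
            show (g⁻¹ * (i : G) * g) • a = a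
            rw [mul_smul, mul_smul, hga, h.2, inv_smul_eq_iff.2 hga.symm]⟩
        · exact Or.inr ⟨ho.trans h.1, by
            show (g⁻¹ * (i : G) * g) • b = b
            rw [mul_smul, mul_smul, hgb, h.2, inv_smul_eq_iff.2 hgb.symm]⟩
      have h1 := (hQmem y').1 hy _ hi'
      rw [map_mul, map_mul, map_inv] at h1 ⊢
      calc π i * (π g' * π y' * (π g')⁻¹)
          = π g' * ((π g')⁻¹ * π i * π g' * π y') * (π g')⁻¹ := by group
        _ = π g' * (π y' * ((π g')⁻¹ * π i * π g')) * (π g')⁻¹ := by rw [h1]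
        _ = π g' * π y' * (π g')⁻¹ * π i := by group
    intro g hg
    refine mem_normalizer_iff.2 fun y => ⟨key g hg y, fun hy => ?_⟩
    have := key g⁻¹ (inv_mem hg) _ hy
    simpa [mul_assoc] using this
  set P₁ := P ⊓ Q with hP₁
  have hXQ : X ≤ Q := by
    intro y hy
    have hyK : (y : G) ∈ K := hX.le_core hC hab hy
    obtain ⟨o, ho, rfl⟩ := hyK
    refine (hQmem o).2 fun i _ => ?_
    rw [show π o = 1 from (QuotientGroup.eq_one_iff _).2 ho, one_mul, mul_one]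
  set L := K ⊔ P₁ with hL
  have hnormL : ∀ v ∈ N, (v ∈ invAt H a ∨ v ∈ invAt H b) → v ∈ normalizer (L : Set G) := by
    intro v hv hv'
    refine mem_normalizer_of_conj (show orderOf v = 2 from hv'.elim (·.1) (·.1)) ?_
    suffices h : L ≤ L.comap (MulAut.conj v).toMonoidHom from fun g hg => h hg
    refine sup_le (fun k hk => mem_sup_left ((mem_normalizer_iff.1 (hKN hv) k).1 hk))
      fun y hy => ?_
    have h1 := (hQmem ⟨y, hPN hy.1⟩).1 hy.2 ⟨v, hv⟩ hv'
    have h2 := hker (⟨v, hv⟩ * ⟨y, hPN hy.1⟩ * (⟨v, hv⟩ : N)⁻¹ * (⟨y, hPN hy.1⟩ : N)⁻¹) (by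
      rw [map_mul, map_mul, map_mul, map_inv, map_inv, mul_inv_eq_one, mul_inv_eq_iff_eq_mul]
      exact h1)
    show v * y * v⁻¹ ∈ L
    rw [show v * y * v⁻¹ = (v * y * v⁻¹ * y⁻¹) * y by group]
    exact mul_mem (mem_sup_left h2) (mem_sup_right hy)
  have hT₁ : Max r P₁ L := max_sup (hP.pgroup.to_le inf_le_left) ((inf_le_left.trans hPN).trans hKN)
    fun hd => hXK (hd.trans (relIndex_dvd_of_le_left K (le_inf hXP hXQ)))
  have hP₁X : P₁ = X := (climb _ (bad_of_max hC hab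
      (sup_le (hKle.trans inf_le_left) (inf_le_left.trans hPD)) hT₁ he' hf' hef hcom hw'
      (hnormL e he (Or.inl he')) (hnormL f hf (Or.inl hf')) (hnormL w hw (Or.inr hw'))
      hX.pgroup ((le_inf hXP hXQ).trans le_sup_right) he heXc)
    (fun g hg => BadTop.inf_normalizer (le_normalizer hg) (hPQ hg))).2 (le_inf hXP hXQ)
  -- 3. `Z(J(P))` lies in `X`
  set Z := Cfsg.centerThompsonAOf P with hZ
  have hZP : Z ≤ P := PLocalB.centerThompsonAOf_le P
  have hPZ : P ≤ normalizer (Z : Set G) :=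
    le_normalizer.trans (PLocalB.normalizer_le_normalizer_ZJ P)
  have hZX : Z ≤ X := by
    intro x hx
    by_contra hxX
    have hxQ : x ∉ Q := fun h => hxX (hP₁X ▸ mem_inf.2 ⟨hZP hx, h⟩)
    rw [show x = ((⟨x, hPN (hZP hx)⟩ : N) : G) from rfl, hQmem] at hxQ
    push Not at hxQ
    obtain ⟨i, hi, hxi⟩ := hxQ
    have hq : ∀ y ∈ X, ⁅⁅y, x⁆, x⁆ = 1 := by
      intro y hy
      have h1 : ⁅y, x⁆ ∈ Z := by
        rw [commutatorElement_def]
        exact mul_mem ((mem_normalizer_iff.1 (hPZ (hXP hy)) x).1 hx) (inv_mem hx)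
      exact commutatorElement_eq_one_iff_commute.2
        (mem_centralizer_iff.1 hx.2 _ h1.1).symm.symm
    have hiK : x * (i : G) * x⁻¹ * (i : G)⁻¹ ∉ K := fun hk => by
      obtain ⟨o, ho, hoe⟩ := hk
      refine hxi ?_
      have h1 : π (⟨x, hPN (hZP hx)⟩ * i * (⟨x, hPN (hZP hx)⟩ : N)⁻¹ * i⁻¹) = 1 := by
        refine (QuotientGroup.eq_one_iff _).2 ?_
        rw [show (⟨x, hPN (hZP hx)⟩ * i * (⟨x, hPN (hZP hx)⟩ : N)⁻¹ * i⁻¹) = o from
          Subtype.ext hoe.symm]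
        exact ho
      rw [map_mul, map_mul, map_mul, map_inv, map_inv, mul_inv_eq_one, mul_inv_eq_iff_eq_mul] at h1
      exact h1.symm
    rcases hi with hia | hib
    · exact quad_case hC hab hX hP hr2 (hZP hx) hq
        (mem_stabilizer_iff.1 (mem_inf.1 (hPD (hZP hx))).1) i.2 hia hiK
    · exact quad_case hC hab hX hP hr2 (hZP hx) hq
        (mem_stabilizer_iff.1 (mem_inf.1 (hPD (hZP hx))).2) i.2 hib hiK
  -- 4. four-groups at `a` and `b` normalising `Z`
  obtain ⟨e₁, he₁, f₁, hf₁, he₁', hf₁', hne₁, hcom₁⟩ :=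
    zj_four hC hab hX hP hr2 hXK ⟨e, he, f, hf, he', hf', hef, hcom⟩ (hPD.trans inf_le_left)
  obtain ⟨e₂, he₂, f₂, hf₂, he₂', hf₂', hne₂, hcom₂⟩ :=
    zj_four hC hab hX hP hr2 hXK (hX.fourAt_centre hC hab hw hw'.1 hw'.2) (hPD.trans inf_le_right)
  -- 5. the core of the normaliser of `Z`
  set N₁ := normalizer (Z : Set G) with hN₁
  have hPbot : P ≠ ⊥ := fun h => hX.ne_bot hC hab (le_bot_iff.1 (h ▸ hXP))
  have hN₁top : N₁ ≠ ⊤ := by
    intro htop
    have hn : Z.Normal := normalizer_eq_top_iff.1 htop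
    have hle : Z ≤ Cfsg.oddCore G := Thompson.le_pPrimeCore hn (Nat.coprime_two_right.2
      ((hX.odd_card hC hab).of_dvd_nat (card_dvd_of_le hZX)))
    rw [hC.core, le_bot_iff] at hle
    exact PLocalB.centerThompsonAOf_ne_bot hP.pgroup hPbot hle
  have hR₁ : BenderCons37.RankTwo N₁ :=
    FourAt.rankTwo ⟨e₁, he₁.2, f₁, hf₁.2, he₁', hf₁', hne₁, hcom₁⟩
  set K₁ := (Cfsg.oddCore N₁).map N₁.subtype with hK₁
  have hK₁N : N₁ ≤ normalizer (K₁ : Set G) := le_normalizer_map_subtype (Cfsg.oddCore N₁)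
  have hK₁D : K₁ ≤ D := le_inf
    (core_fix hC hN₁top he₁.2 he₁'.1 he₂.2 he₂'.1 he₁'.2 he₂'.2 hab hR₁ he₁.2 he₁'.1 he₁'.2)
    (core_fix hC hN₁top he₁.2 he₁'.1 he₂.2 he₂'.1 he₁'.2 he₂'.2 hab hR₁ he₂.2 he₂'.1 he₂'.2)
  obtain ⟨P', hP', hPP'⟩ := exists_max_ge hP.pgroup (le_inf hPD hPZ : P ≤ D ⊓ N₁)
  have hT₂ : Max r (P' ⊓ K₁) K₁ :=
    hP'.inf_normal (le_inf hK₁D (map_subtype_le _)) (hP'.le.trans (inf_le_right.trans hK₁N))
  have heN : e₁ ∈ N := he₁.1
  have hcomm : ∀ x ∈ X, e₁ * x * e₁⁻¹ * x⁻¹ ∈ X ⊓ K₁ := by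
    intro x hx
    have hcX : e₁ * x * e₁⁻¹ * x⁻¹ ∈ X :=
      mul_mem ((mem_normalizer_iff.1 heN x).1 hx) (inv_mem hx)
    refine ⟨hcX, ?_⟩
    have hxN₁ : x ∈ N₁ := hPZ (hXP hx)
    have hxa : x • a = a := mem_stabilizer_iff.1 (mem_inf.1 (hX.le hx)).1
    have hm := commutator_mem hC hN₁top he₁.2 he₁'.1 he₂.2 he₂'.1 he₁'.2 he₂'.2 hab hR₁
      he₁.2 he₁'.1 (y := x * e₁ * x⁻¹) (mul_mem (mul_mem hxN₁ he₁.2) (inv_mem hxN₁))
      (by rw [TwoFusionB.orderOf_conj_eq, he₁'.1]) (c := a) he₁'.2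
      (by rw [mul_smul, mul_smul, inv_smul_eq_iff.2 hxa.symm, he₁'.2, hxa])
    set z := e₁ * x * e₁⁻¹ * x⁻¹ with hz
    have hei := TwoFusionB.inv_eq_of_inv he₁'.1
    have hz2 : z ^ 2 ∈ K₁ := by
      have e3 : z ^ 2 = e₁ * (x * e₁ * x⁻¹) * e₁⁻¹ * (x * e₁ * x⁻¹)⁻¹ := by
        rw [hz, pow_two, mul_inv_rev, mul_inv_rev, inv_inv, hei]
        group
      rw [e3]
      exact hm
    have hzd : orderOf z ∣ Nat.card X := by
      have h2 := orderOf_dvd_natCard (⟨z, hcX⟩ : X)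
      rwa [← orderOf_coe] at h2
    obtain ⟨j, hj⟩ : Odd (orderOf z) := (hX.odd_card hC hab).of_dvd_nat hzd
    have h1 : (z ^ 2) ^ (j + 1) = z := by
      rw [← pow_mul, show 2 * (j + 1) = orderOf z + 1 by omega, pow_succ, pow_orderOf_eq_one,
        one_mul]
    exact h1 ▸ pow_mem hz2 _
  have hU : e₁ ∉ centralizer ((X ⊓ K₁ : Subgroup G) : Set G) := by
    intro hc
    refine hX.not_mem_centralizer hC hab heN he₁'.1 (mem_centralizer_iff.2 fun x hx => ?_)
    set z := e₁ * x * e₁⁻¹ * x⁻¹ with hz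
    have hzc : z * e₁ = e₁ * z := mem_centralizer_iff.1 hc z (hcomm x hx)
    have hei := TwoFusionB.inv_eq_of_inv he₁'.1
    have hee := TwoFusionB.sq_eq_one_of_inv he₁'.1
    have hzz : z * z = 1 := by
      have h1 : e₁ * z * e₁⁻¹ = z⁻¹ := by
        rw [hz, mul_inv_rev, mul_inv_rev, mul_inv_rev, inv_inv, inv_inv, hei]
        calc e₁ * (e₁ * x * e₁ * x⁻¹) * e₁ = (e₁ * e₁) * x * (e₁ * x⁻¹ * e₁) := by group
          _ = x * (e₁ * (x⁻¹ * e₁)) := by rw [hee, one_mul, mul_assoc e₁]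
      rw [← hzc, mul_inv_cancel_right] at h1
      rw [← mul_eq_one_iff_eq_inv.2 h1]
    have hz1 : z = 1 := by
      by_contra hne
      have h2 : orderOf (⟨z, (hcomm x hx).1⟩ : X) = 2 := by
        rw [← orderOf_coe]
        exact BenderCons37.orderOf_eq_two hne hzz
      exact (hX.odd_card hC hab).not_two_dvd_nat (h2 ▸ orderOf_dvd_natCard _)
    rw [hz, mul_inv_eq_one, mul_inv_eq_iff_eq_mul] at hz1
    exact hz1.symm
  have hXe : e₁ ∈ normalizer ((X ⊓ K₁ : Subgroup G) : Set G) :=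
    BadTop.inf_normalizer heN (hK₁N he₁.2)
  have hbad₂ : Bad r a b (P' ⊓ K₁) := bad_of_max hC hab hK₁D hT₂ he₁' hf₁' hne₁ hcom₁ he₂'
    (hK₁N he₁.2) (hK₁N hf₁.2) (hK₁N he₂.2) (hX.pgroup.to_le inf_le_left) inf_le_right hXe hU
  have hP'n : P' ≤ normalizer ((P' ⊓ K₁ : Subgroup G) : Set G) := fun g hg =>
    BadTop.inf_normalizer (le_normalizer hg) (hK₁N (mem_inf.1 (hP'.le hg)).2)
  have hP'P : P' = P := (eq_of_le_of_card_ge hPP' ((climb _ hbad₂ (hPP'.trans hP'n)).1 P'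
    hP'.pgroup (le_inf (hP'.le.trans inf_le_left) hP'n))).symm
  -- `P` is a Sylow subgroup of `D`
  obtain ⟨Y', hY', hPY'⟩ := exists_max_ge hP.pgroup hPD
  have hPY : P = Y' := by
    by_contra hne
    obtain ⟨y, hy, hyN, hyP⟩ := exists_normalizer_gt hY'.pgroup (lt_of_le_of_ne hPY' hne)
    have hle : P ⊔ zpowers y ≤ D ⊓ N₁ := sup_le (le_inf hPD hPZ) (zpowers_le.2
      (mem_inf.2 ⟨hY'.le hy, PLocalB.normalizer_le_normalizer_ZJ P hyN⟩))
    have := (hP'P ▸ hP').eq_of_le (hY'.pgroup.to_le (sup_le hPY' (zpowers_le.2 hy))) le_sup_left hle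
    exact hyP (this ▸ mem_sup_right (mem_zpowers y))
  -- move to `Y`
  obtain ⟨d, hd, hdY⟩ := hY'.exists_conj hY₀
  set Z' := Cfsg.centerThompsonAOf Y₀ with hZ'0
  have hZ' : Z' = Z.map (MulAut.conj d).toMonoidHom := by
    rw [hZ'0, hdY, hZ, hPY,
      PLocalB.centerThompsonAOf_map _ _ (MulAut.conj d).injective.injOn]
  have hmove : ∀ y ∈ N₁, d * y * d⁻¹ ∈ normalizer (Z' : Set G) := fun y hy => by
    rw [hZ']
    exact le_normalizer_map (f := (MulAut.conj d).toMonoidHom) ⟨y, hy, rfl⟩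
  have hda := mem_stabilizer_iff.1 (mem_inf.1 hd).1
  have hdb := mem_stabilizer_iff.1 (mem_inf.1 hd).2
  have hva : ∀ y : G, y ∈ invAt H a → d * y * d⁻¹ ∈ invAt H a := fun y hy =>
    ⟨by rw [TwoFusionB.orderOf_conj_eq, hy.1], by
      rw [mul_smul, mul_smul, inv_smul_eq_iff.2 hda.symm, hy.2, hda]⟩
  refine ⟨FourAt.rankTwo ⟨_, hmove _ he₁.2, _, hmove _ hf₁.2, hva _ he₁', hva _ hf₁',
      fun h => hne₁ (mul_left_cancel (mul_right_cancel h)),
      hcom₁.map (MulAut.conj d).toMonoidHom⟩,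
    ⟨_, hmove _ he₁.2, hva _ he₁'⟩, ⟨d * e₂ * d⁻¹, hmove _ he₂.2,
      by rw [TwoFusionB.orderOf_conj_eq, he₂'.1],
      by rw [mul_smul, mul_smul, inv_smul_eq_iff.2 hdb.symm, he₂'.2, hdb]⟩⟩

end Cfsg.Agent.Bender85
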