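import Cfsg.Agent.Bender85.Defs
import Cfsg.Agent.BenderCore74.OpenCore

/-!
The open core of Bender's reduction: the involutions of `H` commute (see `PLAN.md`).
-/

set_option autoImplicit false
set_option linter.style.haveILetI false

namespace Cfsg.Agent.Bender85

open Subgroup MulAction Bender43 Bender43.Fixed
open Cfsg.Agent.BenderCore74 (base mem_stab_base)
open Cfsg.Agent.TwoFusionB (fix_unique exists_fix smul_swap orderOf_conj_eq sq_eq_one_of_inv
  inv_eq_of_inv)

universe u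

variable {G : Type u} [Group G] [Finite G] {H : Subgroup G}

/-- With two commuting involutions `G` is doubly transitive on the cosets of `H`. -/
theorem exists_smul_pair (hC : Ctx H) {p q p' q' : G ⧸ H} (h : p ≠ q) (h' : p' ≠ q') :
    ∃ g : G, g • p = p' ∧ g • q = q' := by
  have htr : ∀ g₁ g₂ : G, g₁ ∉ H → g₂ ∉ H → ∃ k ∈ H, g₂⁻¹ * (k * g₁) ∈ H := by
    obtain ⟨x, y, hx, hy, hne, hxx, hyy, hxy⟩ := hC.rank
    obtain ⟨c₀, hc₀⟩ := TwoFusionB.exists_ne_coset hC.se (base H)
    obtain ⟨r, hr, hr2, hB1, hB2⟩ := four_case hC.se (BenderCons37.orderOf_eq_two hx hxx)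
      (BenderCons37.orderOf_eq_two hy hyy) hne hxy c₀ (Ne.symm hc₀)
    haveI : Fact r.Prime := ⟨hr⟩
    exact transitive_of_orbital hC.se hr2 c₀ (Ne.symm hc₀) hB1 hB2
  obtain ⟨g₁, rfl⟩ := QuotientGroup.mk_surjective p
  obtain ⟨g₂, rfl⟩ := QuotientGroup.mk_surjective p'
  obtain ⟨k₁, rfl⟩ := QuotientGroup.mk_surjective q
  obtain ⟨k₂, rfl⟩ := QuotientGroup.mk_surjective q'
  obtain ⟨k, hk, hk'⟩ := htr (g₁⁻¹ * k₁) (g₂⁻¹ * k₂) (fun e => h (QuotientGroup.eq.2 e))
    (fun e => h' (QuotientGroup.eq.2 e))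
  refine ⟨g₂ * k * g₁⁻¹, ?_, ?_⟩ <;>
    rw [MulAction.Quotient.smul_mk, smul_eq_mul, eq_comm, QuotientGroup.eq]
  · simpa [mul_assoc] using hk
  · simpa [mul_assoc] using hk'

/-- The centraliser of an involution is transitive on the points other than its centre. -/
theorem exists_centralizing_smul (hC : Ctx H) {z : G} (hz : orderOf z = 2) {p q : G ⧸ H}
    (hp : z • p ≠ p) (hq : z • q ≠ q) : ∃ g : G, Commute g z ∧ g • p = q := by
  obtain ⟨g₀, hg, hg'⟩ := exists_smul_pair hC (Ne.symm hp) (Ne.symm hq)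
  set v := g₀ * z * g₀⁻¹ with hv
  have hv2 : orderOf v = 2 := by rw [hv, orderOf_conj_eq, hz]
  have hvq : v • q = z • q := by
    rw [hv, mul_smul, mul_smul, inv_smul_eq_iff.2 hg.symm, hg']
  have hmem : v * z ∈ stab2 q (z • q) := by
    refine mem_inf.2 ⟨?_, ?_⟩ <;> rw [mem_stabilizer_iff, mul_smul]
    · exact smul_swap hv2 hvq
    · rw [smul_swap hz rfl, hvq]
  obtain ⟨d, hd, hdz⟩ := RankOne.dihedral_conj (sq_eq_one_of_inv hv2) (sq_eq_one_of_inv hz)
    (RankOne.odd_orderOf_of_mem (odd_stab2 hC.se (Ne.symm hq)) hmem)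
  refine ⟨d * g₀, ?_, ?_⟩
  · show d * g₀ * z = z * (d * g₀)
    calc d * g₀ * z = d * v * d⁻¹ * (d * g₀) := by rw [hv]; group
      _ = z * (d * g₀) := by rw [hdz]
  · rw [mul_smul, hg]
    exact mem_stabilizer_iff.1 (mem_inf.1 (zpowers_le.2 hmem hd)).1

/-- The stabiliser of two points is transitive on the involutions with centre one of them. -/
theorem exists_conj_centre (hC : Ctx H) {b : G ⧸ H} (hab : base H ≠ b) {z z' : G}
    (hz : orderOf z = 2) (hzb : z • base H = base H) (hz' : orderOf z' = 2)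
    (hz'b : z' • base H = base H) : ∃ d ∈ stab2 (base H) b, d * z * d⁻¹ = z' := by
  obtain ⟨g, hg⟩ := isConj_iff.1 (TwoFusionB.isConj_involutions hC.se hz hz')
  have hga : g • base H = base H := by
    refine fix_unique hC.se hz' ?_ hz'b
    rw [← hg, mul_smul, mul_smul, inv_smul_smul, hzb]
  have hgb : z' • (g • b) ≠ g • b := fun e => hab (smul_left_cancel g
    (hga.trans (fix_unique hC.se hz' hz'b e)))
  obtain ⟨k, hk, hkb⟩ := exists_centralizing_smul hC hz' hgb
    (fun e => hab (fix_unique hC.se hz' hz'b e))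
  have hka : k • base H = base H := fix_unique hC.se hz'
    (by rw [smul_smul, ← hk.eq, mul_smul, hz'b]) hz'b
  refine ⟨k * g, mem_inf.2 ⟨?_, ?_⟩, ?_⟩
  · rw [mem_stabilizer_iff, mul_smul, hga, hka]
  · rw [mem_stabilizer_iff, mul_smul, hkb]
  · calc k * g * z * (k * g)⁻¹ = k * (g * z * g⁻¹) * k⁻¹ := by group
      _ = z' := by rw [hg, hk.eq, mul_inv_cancel_right]

/-- In the open core the centre of a core gives an exact abelian subgroup at every pair. -/
theorem exactAbelian_of_ne_bot (hC : Ctx H) (hO : OpenCore H) {r : ℕ} (hr : r.Prime) {b : G ⧸ H}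
    (hab : base H ≠ b) (hop : op r (stab2 (base H) b) ≠ ⊥) : ExactAbelian H r := by
  haveI := Fact.mk hr
  set D := stab2 (base H) b with hD
  set A := (center (op r D)).map (op r D).subtype with hA
  obtain ⟨v, hv, hvb⟩ := TwoFusionB.exists_moveInv hC.se hab
  obtain ⟨c, hc⟩ := exists_fix hC.se hv
  have hAP : A ≤ op r D := map_subtype_le _
  have hAD : A ≤ D := hAP.trans (op_le _ _)
  have hmem : ∀ x : G, x ∈ A ↔ x ∈ op r D ∧ ∀ p ∈ op r D, p * x = x * p := by
    intro x
    constructor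
    · rintro ⟨y, hy, rfl⟩
      exact ⟨y.2, fun p hp => congrArg Subtype.val (mem_center_iff.1 hy ⟨p, hp⟩)⟩
    · rintro ⟨hx, hxc⟩
      exact ⟨⟨x, hx⟩, mem_center_iff.2 fun p => Subtype.ext (hxc p p.2), rfl⟩
  have hconj : ∀ g ∈ normalizer (D : Set G), ∀ x ∈ A, g * x * g⁻¹ ∈ A := by
    intro g hg x hx
    rw [hmem] at hx ⊢
    refine ⟨BenderCore74.conj_op hg hx.1, fun p hp => ?_⟩
    have h := hx.2 _ (by simpa using BenderCore74.conj_op (inv_mem hg) hp : g⁻¹ * p * g ∈ op r D)
    calc p * (g * x * g⁻¹) = g * (g⁻¹ * p * g * x) * g⁻¹ := by group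
      _ = g * x * g⁻¹ * p := by rw [h]; group
  have hne : A ≠ ⊥ := by
    haveI : Nontrivial (op r D) := (Subgroup.nontrivial_iff_ne_bot _).2 hop
    haveI := (op_isPGroup r D).center_nontrivial
    intro h
    obtain ⟨x, hx⟩ := exists_ne (1 : center (op r D))
    exact hx (Subtype.ext (Subtype.ext (mem_bot.1 (h ▸ (⟨x, x.2, rfl⟩ :
      ((x : op r D) : G) ∈ A)))))
  have hDA : D ≤ normalizer (A : Set G) :=
    Coprime.le_normalizer_of_conj_mem fun d hd x hx => hconj d (le_normalizer hd) x hx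
  have hfix := hO v (base H) b c ⟨hv, hab, hvb, hc⟩ A hAD hne hDA
    (mem_normalizer_of_conj hv fun x hx => hconj v (norm_stab2 hv hvb) x hx)
  intro p q hpq
  obtain ⟨g, hga, hgb⟩ := exists_smul_pair hC hab hpq
  have hDg : stab2 p q = D.map (MulAut.conj g).toMonoidHom := by
    ext x
    rw [mem_map_equiv, MulAut.conj_symm_apply, hD]
    simp only [mem_inf, mem_stabilizer_iff, mul_smul, ← hga, ← hgb, inv_smul_eq_iff]
  refine ⟨A.map (MulAut.conj g).toMonoidHom, hDg ▸ map_mono hAD,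
    ((op_isPGroup r D).to_le hAP).map _, ⟨⟨?_⟩⟩, hDg ▸ (map_mono hDA).trans (le_normalizer_map _),
    ?_⟩
  · rintro ⟨_, x, hx, rfl⟩ ⟨_, y, hy, rfl⟩
    refine Subtype.ext ?_
    show MulAut.conj g x * MulAut.conj g y = MulAut.conj g y * MulAut.conj g x
    rw [← map_mul, ← map_mul, ((hmem y).1 hy).2 x (hAP hx)]
  · ext w
    have hw : w ∈ fixSet H (A.map (MulAut.conj g).toMonoidHom) ↔ g⁻¹ • w ∈ fixSet H A := by
      constructor
      · intro h x hx
        have h1 := h _ ⟨x, hx, rfl⟩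
        rw [eq_inv_smul_iff]
        simpa [mul_smul] using h1
      · rintro h _ ⟨x, hx, rfl⟩
        show (g * x * g⁻¹) • w = w
        rw [mul_smul, mul_smul, h x hx, smul_inv_smul]
    rw [hw, hfix, ← hga, ← hgb]
    simp only [Set.mem_insert_iff, Set.mem_singleton_iff, inv_smul_eq_iff]

/-- Commuting of the involutions at a point in a smaller group, modulo its odd core. -/
theorem commutator_mem_oddCore (hC : Ctx H) (L : Subgroup G) (hL : L ≠ ⊤)
    (hse : Cfsg.IsStronglyEmbedded (H.subgroupOf L)) (h2 : BenderCons37.RankTwo L) (y y' : L)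
    (hy : orderOf y = 2) (hy' : orderOf y' = 2) (hyH : y ∈ H.subgroupOf L)
    (hy'H : y' ∈ H.subgroupOf L) : y * y' * (y * y') ∈ Cfsg.oddCore L := by
  set π := QuotientGroup.mk' (Cfsg.oddCore L)
  have hlt : Nat.card (L ⧸ Cfsg.oddCore L) < Nat.card G :=
    lt_of_le_of_lt (Nat.le_of_dvd Nat.card_pos (Subgroup.index_dvd_card _))
      (ZStar.card_lt_of_ne_top hL)
  have hconc := hC.below (L ⧸ Cfsg.oddCore L) hlt ((H.subgroupOf L).map π)
    (BenderCons37.stronglyEmbedded_map hse h2) (BenderCons37.rankTwo_quotient h2)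
    BenderCons37.oddCore_quotient
  have hinv : ∀ v : L, orderOf v = 2 → orderOf (π v) = 2 := fun v hv =>
    BenderCons37.orderOf_eq_two
      (fun e => Nat.not_even_iff_odd.2 BenderCons37.oddCore_card_odd
        (TwoFusionB.even_card_of_mem_inv hv ((QuotientGroup.eq_one_iff v).1 e)))
      (by rw [← map_mul, sq_eq_one_of_inv hv, map_one])
  have hc : Commute (π y) (π y') := hconc.comm _ (mem_map_of_mem π hyH) _
    (mem_map_of_mem π hy'H) (hinv y hy) (hinv y' hy')
  refine (QuotientGroup.eq_one_iff _).1 ?_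
  show π (y * y' * (y * y')) = 1
  rw [map_mul, map_mul, hc.symm.mul_mul_mul_comm, ← map_mul, ← map_mul, sq_eq_one_of_inv hy,
    sq_eq_one_of_inv hy', map_one, one_mul]

/-- In the open core the involutions of `H` commute. -/
theorem comm_of_openCore (hC : Ctx H) (hO : OpenCore H) (hM : NoRealFixed H)
    (hA : ∀ r : ℕ, r.Prime → ExactAbelian H r → CentredAt H r) : Comm H := by
  obtain ⟨b, hab⟩ := TwoFusionB.exists_ne_coset hC.se (base H)
  have hcore : BenderCore74.OpenCore H b :=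
    { se := hC.se
      hab := hab
      four := by
        obtain ⟨x, hxH, y, hyH, hx, hy, hne, hxy⟩ := BenderCons37.exists_four_mem hC.se hC.rank
        exact ⟨x, y, hx, mem_stab_base.2 hxH, hy, mem_stab_base.2 hyH, hne, hxy⟩
      trans := fun z z' => exists_conj_centre hC hab
      real := by
        rintro x hx1 - hxa ⟨p, hpa, hxp⟩ z hz hza hinv
        have hzp : z • p ≠ p := fun e => hpa (fix_unique hC.se hz e hza)
        have hxz : x • (z • p) = z • p := by
          have e : x * z = z * x⁻¹ := by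
            rw [← hinv, inv_eq_of_inv hz]
            simp [← mul_assoc, sq_eq_one_of_inv hz, mul_assoc x]
          rw [smul_smul, e, mul_smul, inv_smul_eq_iff.2 hxp.symm]
        exact hx1 (hM z x p (z • p) (base H) ⟨hz, Ne.symm hzp, rfl, hza⟩ hxp hxz hxa
          (by rw [← hinv, inv_eq_of_inv hz]))
      centre := by
        rintro r hr hop x hx hx1 ⟨n, hn⟩ ⟨p, hpa, hpb, hxp⟩ q hxq
        haveI := Fact.mk hr
        have hfix : ∀ w : G ⧸ H, x • w = w → w ∈ fixSet H (zpowers x) := fun w hw t ht =>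
          mem_stabilizer_iff.1 (zpowers_le.2 (mem_stabilizer_iff.2 hw) ht)
        have hX : IsPGroup r (zpowers x) := by
          obtain ⟨m, -, hm⟩ := (Nat.dvd_prime_pow hr).1 (orderOf_dvd_of_pow_eq_one hn)
          exact IsPGroup.of_card (n := m) (by rw [Nat.card_zpowers, hm])
        obtain ⟨v, hv, hvq, hvc⟩ := hA r hr (exactAbelian_of_ne_bot hC hO hr hab hop) (zpowers x)
          hX ⟨base H, hfix _ (mem_stabilizer_iff.1 (mem_inf.1 hx).1), b,
            hfix _ (mem_stabilizer_iff.1 (mem_inf.1 hx).2), p, hfix _ hxp, hab, Ne.symm hpa,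
            Ne.symm hpb⟩ q (hfix _ hxq)
        exact ⟨v, hv, hvq, (mem_centralizer_iff.1 hvc x (mem_zpowers x)).symm⟩
      exact_fix := fun K hKD hn hne v hv hvb hvK p hp => by
        obtain ⟨c, hc⟩ := exists_fix hC.se hv
        have hpK : p ∈ fixSet H K := hp
        rw [hO v (base H) b c ⟨hv, hab, hvb, hc⟩ K hKD hne hn hvK] at hpK
        exact hpK
      ind := commutator_mem_oddCore hC }
  intro x hx y hy hx2 hy2
  exact hcore.commute hx2 hx hy2 hy

end Cfsg.Agent.Bender85
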