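import Cfsg.Agent.Bender85.OpenCore
import Cfsg.Agent.Bender43.Center

/-!
The part `A ∩ O_s(D)` of a two-point stabiliser `D`, where `A` is `Z(J(Y))`, `Y` a Sylow `s`-subgroup,
or the group of its elements killed by a given `m`: it is normalised by `D`, and, when the other
cores of `D` fix the centre `c` of the swapper, it is the same for the stabiliser of `a` and `c`; so
its normaliser contains every involution with centre `c`.
-/

set_option autoImplicit false
set_option linter.style.haveILetI false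

namespace Cfsg.Agent.Bender85

open Subgroup MulAction Bender43 Bender43.Fixed

universe u

section

variable {L : Type*} [Group L] [Finite L] {D : Subgroup L} {s : ℕ} [Fact s.Prime]

/-- An `s`-element which is the product of elements of coprime orders that commute with each
other has trivial `s'`-part. -/
theorem eq_one_of_mul_pow {z r : L} (hzr : Commute z r) (hr : (orderOf r).Coprime s)
    {i : ℕ} (hz : z ^ s ^ i = 1) {j : ℕ} (h : (z * r) ^ s ^ j = 1) : r = 1 := by
  have h1 : r ^ (s ^ j * s ^ i) = 1 := by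
    have h2 : (z * r) ^ (s ^ j * s ^ i) = 1 := by rw [pow_mul, h, one_pow]
    rwa [hzr.mul_pow, mul_comm (s ^ j) (s ^ i), pow_mul z, hz, one_pow, one_mul,
      mul_comm (s ^ i) (s ^ j)] at h2
  refine orderOf_eq_one_iff.1 (Nat.eq_one_of_dvd_coprimes ?_ dvd_rfl (orderOf_dvd_of_pow_eq_one h1))
  exact (hr.pow_right j).mul_right (hr.pow_right i)

/-- In an odd group `ZJ O_{s'}` is normal. -/
theorem zj_conj_mem (hD : Odd (Nat.card D)) (hs : s ≠ 2) (P : Sylow s D) {d : L} (hd : d ∈ D)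
    {z : L} (hz : z ∈ Cfsg.centerThompsonAOf ((P : Subgroup D).map D.subtype)) :
    ∃ z' ∈ Cfsg.centerThompsonAOf ((P : Subgroup D).map D.subtype), ∃ r ∈ op' s D,
      d * z * d⁻¹ = z' * r := by
  set R := Cfsg.pPrimeCore s D with hR
  set π := QuotientGroup.mk' R with hπ
  have hsurj : Function.Surjective π := QuotientGroup.mk'_surjective R
  haveI hsol : Group.IsSolvable (D ⧸ R) :=
    solvable_of_odd (hD.of_dvd_nat (card_quotient_dvd_card R))
  have hodd : Odd (Nat.card (⊤ : Subgroup (D ⧸ R))) := by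
    rw [Subgroup.card_top]; exact hD.of_dvd_nat (card_quotient_dvd_card R)
  -- in `D / R` only the `s`-core is left
  have h1 : ∀ q : ℕ, q.Prime → q ≠ s → op q (⊤ : Subgroup (D ⧸ R)) = ⊥ := by
    intro q hq hqs
    haveI := Fact.mk hq
    have hc : (Nat.card (op q (⊤ : Subgroup (D ⧸ R)))).Coprime s := by
      obtain ⟨k, hk⟩ := IsPGroup.iff_card.mp (op_isPGroup q (⊤ : Subgroup (D ⧸ R)))
      rw [hk]
      exact Nat.Coprime.pow_left k ((Nat.coprime_primes hq Fact.out).2 hqs)
    have hn : (op q (⊤ : Subgroup (D ⧸ R))).Normal :=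
      normalizer_eq_top_iff.1 (top_le_iff.1 (le_normalizer_op q ⊤))
    rw [eq_bot_iff]
    refine (Thompson.le_pPrimeCore hn hc).trans (le_of_eq ?_)
    exact Thompson.pPrimeCore_quotient_pPrimeCore
  set P' := P.mapSurjective hsurj with hP'
  set e := (Subgroup.topEquiv : (⊤ : Subgroup (D ⧸ R)) ≃* _) with he
  set P'' := P'.mapSurjective (f := e.symm.toMonoidHom) e.symm.surjective with hP''
  have hmap : ((P'' : Subgroup (⊤ : Subgroup (D ⧸ R))).map
      (⊤ : Subgroup (D ⧸ R)).subtype) = (P : Subgroup D).map π := by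
    show (((P : Subgroup D).map π).map e.symm.toMonoidHom).map _ = _
    rw [map_map]
    convert map_id _
    ext; rfl
  have hn := le_normalizer_centerThompson hodd hs h1 P''
  rw [hmap] at hn
  have hinj : Set.InjOn π (P : Subgroup D) := by
    intro x hx y hy hxy
    obtain ⟨k, hk⟩ := IsPGroup.iff_card.mp P.isPGroup'
    have h2 : x⁻¹ * y ∈ R := QuotientGroup.eq.1 hxy
    refine inv_mul_eq_one.1 (orderOf_eq_one_iff.1 (Nat.eq_one_of_dvd_coprimes ?_
      (Subgroup.orderOf_dvd_natCard _ (mul_mem (inv_mem hx) hy))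
      (Subgroup.orderOf_dvd_natCard _ h2)))
    rw [hk]
    exact (Thompson.card_pPrimeCore_coprime (G := D) (p := s)).symm.pow_left k
  rw [← PLocalB.centerThompsonAOf_map π _ hinj] at hn
  rw [← PLocalB.centerThompsonAOf_map D.subtype _ D.subtype_injective.injOn] at hz
  obtain ⟨z₀, hz₀, rfl⟩ := hz
  have h2 : π (⟨d, hd⟩ * z₀ * ⟨d, hd⟩⁻¹) ∈ (Cfsg.centerThompsonAOf (P : Subgroup D)).map π := by
    rw [map_mul, map_mul, map_inv]
    exact (mem_normalizer_iff.1 (hn (mem_top (π ⟨d, hd⟩))) _).1 (mem_map_of_mem π hz₀)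
  obtain ⟨z', hz', hzeq⟩ := h2
  refine ⟨z', ?_, ((z'⁻¹ * (⟨d, hd⟩ * z₀ * ⟨d, hd⟩⁻¹) : D) : L), ?_, by simp [mul_assoc]⟩
  · rw [← PLocalB.centerThompsonAOf_map D.subtype _ D.subtype_injective.injOn]
    exact ⟨z', hz', rfl⟩
  · exact ⟨_, QuotientGroup.eq.1 hzeq, rfl⟩

/-- The Sylow subgroup contains the core. -/
theorem op_le_sylow_map (P : Sylow s D) : op s D ≤ (P : Subgroup D).map D.subtype :=
  map_mono (Fitting.pCore_le_sylow P)

theorem op'_orderOf_coprime {r : L} (hr : r ∈ op' s D) : (orderOf r).Coprime s :=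
  (card_op'_coprime s D).coprime_dvd_left (Subgroup.orderOf_dvd_natCard _ hr)

theorem exists_pow_of_zj {P : Sylow s D} {z : L}
    (hz : z ∈ Cfsg.centerThompsonAOf ((P : Subgroup D).map D.subtype)) :
    ∃ i : ℕ, z ^ s ^ i = 1 :=
  exists_pow_eq_one (P.isPGroup'.map D.subtype) (PLocalB.centerThompsonAOf_le _ hz)

/-- `D` normalises `A ∩ O_s(D)`, `A` the elements of `Z(J(Y))` killed by `m`. -/
theorem le_normalizer_zj_inf (hD : Odd (Nat.card D)) (hs : s ≠ 2) (P : Sylow s D)
    {A : Subgroup L} {m : ℕ} (hA : ∀ x, x ∈ A ↔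
      x ∈ Cfsg.centerThompsonAOf ((P : Subgroup D).map D.subtype) ∧ x ^ m = 1) :
    D ≤ normalizer ((A ⊓ op s D : Subgroup L) : Set L) := by
  refine Coprime.le_normalizer_of_conj_mem fun d hd x hx => ?_
  obtain ⟨hxA, hxO⟩ := mem_inf.1 hx
  obtain ⟨hxz, hxm⟩ := (hA x).1 hxA
  obtain ⟨z', hz', r, hr, he⟩ := zj_conj_mem hD hs P hd hxz
  have hO : d * x * d⁻¹ ∈ op s D := (mem_normalizer_iff.1 (le_normalizer_op s D hd) x).1 hxO
  have hr1 : r = 1 := by
    refine orderOf_eq_one_iff.1 (Nat.eq_one_of_dvd_coprimes (op'_orderOf_coprime hr).symm ?_ dvd_rfl)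
    have hrY : r ∈ (P : Subgroup D).map D.subtype := by
      have := mul_mem (inv_mem (PLocalB.centerThompsonAOf_le _ hz')) (op_le_sylow_map P hO)
      rw [he] at this
      simpa using this
    obtain ⟨j, hj⟩ := exists_pow_eq_one (P.isPGroup'.map D.subtype) hrY
    obtain ⟨m, hm1, hm⟩ := (Nat.dvd_prime_pow (Fact.out : s.Prime)).1 (orderOf_dvd_of_pow_eq_one hj)
    rcases Nat.eq_zero_or_pos m with rfl | hm0
    · rw [hm, pow_zero]; exact one_dvd _
    · exfalso
      have hcop := op'_orderOf_coprime hr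
      rw [hm] at hcop
      exact (Nat.Prime.ne_one (Fact.out : s.Prime))
        (Nat.eq_one_of_dvd_coprimes hcop (dvd_pow_self s hm0.ne') dvd_rfl)
  rw [hr1, mul_one] at he
  exact mem_inf.2 ⟨(hA _).2 ⟨he ▸ hz', by rw [conj_pow, hxm, mul_one, mul_inv_cancel]⟩, hO⟩

/-- An element of `Z(J(Y))` centralising every other core lies in `O_s(D)`. -/
theorem mem_op_of_centralizes (hD : Odd (Nat.card D)) (hs : s ≠ 2) (P : Sylow s D) {z : L}
    (hz : z ∈ Cfsg.centerThompsonAOf ((P : Subgroup D).map D.subtype))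
    (hc : ∀ q : ℕ, q.Prime → q ≠ s → z ∈ centralizer ((op q D : Subgroup L) : Set L)) :
    z ∈ op s D := by
  set Z := Cfsg.centerThompsonAOf ((P : Subgroup D).map D.subtype) with hZ
  have hZD : Z ≤ D := (PLocalB.centerThompsonAOf_le _).trans (map_subtype_le _)
  -- the elements of `Z` centralising the other cores centralise `O_{s'}(D)`
  set W := Z ⊓ centralizer ((op' s D : Subgroup L) : Set L) with hW
  have hWD : D ≤ normalizer (W : Set L) := by
    refine Coprime.le_normalizer_of_conj_mem fun d hd x hx => ?_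
    obtain ⟨hxZ, hxC⟩ := mem_inf.1 hx
    obtain ⟨z', hz', r, hr, he⟩ := zj_conj_mem hD hs P hd hxZ
    have hcen : d * x * d⁻¹ ∈ centralizer ((op' s D : Subgroup L) : Set L) := by
      refine mem_centralizer_iff.2 fun w hw => ?_
      have hw' : d⁻¹ * w * d ∈ op' s D := by
        simpa using (mem_normalizer_iff.1 (le_normalizer_op' s D (inv_mem hd)) w).1 hw
      have h := mem_centralizer_iff.1 hxC _ hw'
      calc w * (d * x * d⁻¹) = d * ((d⁻¹ * w * d) * x) * d⁻¹ := by group
        _ = d * x * d⁻¹ * w := by rw [h]; group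
    have hzr : Commute z' r := by
      have h := mem_centralizer_iff.1 hcen r hr
      rw [he, ← mul_assoc] at h
      exact (mul_right_cancel h).symm
    obtain ⟨i, hi⟩ := exists_pow_of_zj hz'
    obtain ⟨j, hj⟩ := exists_pow_of_zj hxZ
    have hr1 : r = 1 := eq_one_of_mul_pow hzr (op'_orderOf_coprime hr) hi (j := j)
      (by rw [← he, conj_pow, hj, mul_one, mul_inv_cancel])
    rw [hr1, mul_one] at he
    exact mem_inf.2 ⟨he ▸ hz', hcen⟩
  have hWO : W ≤ op s D := le_op (inf_le_left.trans hZD) hWD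
    (((P.isPGroup'.map D.subtype).to_le (PLocalB.centerThompsonAOf_le _)).to_le inf_le_left)
  refine hWO (mem_inf.2 ⟨hz, ?_⟩)
  -- `z` centralises the Fitting subgroup of `R`, so `R`
  set R := op' s D with hR
  haveI : Group.IsSolvable R := solvable_of_odd (hD.of_dvd_nat (card_dvd_of_le (op'_le s D)))
  have hzR : ∀ w ∈ R, z * w * z⁻¹ ∈ R := fun w hw =>
    (mem_normalizer_iff.1 (le_normalizer_op' s D (hZD hz)) w).1 hw
  have hF : ∀ f ∈ Cfsg.fittingSubgroup R, Commute z ((f : R) : L) := by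
    have hle : Cfsg.fittingSubgroup R ≤ (centralizer ({z} : Set L)).comap R.subtype := by
      rw [Fitting.fitting_eq_iSup_pCore, iSup_le_iff]
      rintro ⟨q, hq⟩ w hw
      rw [mem_comap, mem_centralizer_singleton_iff]
      by_cases hqs : q = s
      · obtain ⟨i, hi⟩ := (Fitting.pCore_isPGroup q (G := R)) ⟨w, hw⟩
        have h1 : orderOf (w : L) = 1 := by
          refine Nat.eq_one_of_dvd_coprimes ((op'_orderOf_coprime w.2).pow_right i) dvd_rfl
            (orderOf_dvd_of_pow_eq_one ?_)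
          rw [← hqs]
          simpa using congrArg (fun x : (Cfsg.pCore q R : Subgroup R) => ((x : R) : L)) hi
        rw [orderOf_eq_one_iff] at h1
        simp [h1]
      · exact (mem_centralizer_iff.1 (hc q hq hqs) _
          (op_mono_of_normal (op'_le s D) (le_normalizer_op' s D) ⟨w, hw, rfl⟩))
    exact fun f hf => (mem_centralizer_singleton_iff.1 (hle hf)).symm
  rw [mem_centralizer_iff]
  intro w hw
  set c : R := ⟨w⁻¹ * (z * w * z⁻¹), mul_mem (inv_mem hw) (hzR w hw)⟩ with hcdef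
  have hcF : c ∈ Cfsg.fittingSubgroup R := by
    refine Fitting.centralizer_fitting_le (mem_centralizer_iff.2 fun f hf => Subtype.ext ?_)
    have h1 := (hF f hf).eq
    have h2 := (hF _ ((inferInstance : (Cfsg.fittingSubgroup R).Normal).conj_mem f hf ⟨w, hw⟩)).eq
    simp only [coe_mul, coe_inv, hcdef] at h2 ⊢
    calc (f : L) * (w⁻¹ * (z * w * z⁻¹)) = w⁻¹ * ((w * f * w⁻¹) * z) * w * z⁻¹ := by group
      _ = w⁻¹ * (z * w * f * z⁻¹) := by rw [← h2]; group
      _ = w⁻¹ * (z * w * z⁻¹) * (z * f * z⁻¹) := by group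
      _ = w⁻¹ * (z * w * z⁻¹) * f := by rw [h1, mul_inv_cancel_right]
  have hzc := hF c hcF
  have hpow : ∀ n : ℕ, z ^ n * w * (z ^ n)⁻¹ = w * (c : L) ^ n := by
    intro n
    induction n with
    | zero => simp
    | succ n ih =>
      calc z ^ (n + 1) * w * (z ^ (n + 1))⁻¹ = z * (z ^ n * w * (z ^ n)⁻¹) * z⁻¹ := by
            rw [pow_succ']; group
        _ = z * w * z⁻¹ * (z * (c : L) ^ n * z⁻¹) := by rw [ih]; group
        _ = w * (c : L) * (c : L) ^ n := by
            rw [(hzc.pow_right n).eq, mul_inv_cancel_right, hcdef]; simp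
        _ = w * (c : L) ^ (n + 1) := by rw [pow_succ', mul_assoc]
  obtain ⟨i, hi⟩ := exists_pow_of_zj hz
  have hci : (c : L) ^ s ^ i = 1 := by
    have h := hpow (s ^ i)
    simpa [hi] using h
  have hc1 : (c : L) = 1 := orderOf_eq_one_iff.1 (Nat.eq_one_of_dvd_coprimes
    ((op'_orderOf_coprime c.2).pow_right i) dvd_rfl (orderOf_dvd_of_pow_eq_one hci))
  have h := hpow 1
  rw [hc1, pow_one, one_pow, mul_one, mul_inv_eq_iff_eq_mul] at h
  exact h.symm

/-- The same subgroup for two odd groups, one containing the other cores of the other. -/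
theorem zj_inf_le_of_cores {D' : Subgroup L} (hD : Odd (Nat.card D)) (hs : s ≠ 2) (P : Sylow s D)
    {A : Subgroup L} (hA : A ≤ Cfsg.centerThompsonAOf ((P : Subgroup D).map D.subtype))
    (hle : ∀ q : ℕ, q.Prime → q ≠ s → op q D ≤ D') : A ⊓ op s D' ≤ A ⊓ op s D := by
  intro x hx
  obtain ⟨hxA, hxO⟩ := mem_inf.1 hx
  refine mem_inf.2 ⟨hxA, mem_op_of_centralizes hD hs P (hA hxA) fun q hq hqs => ?_⟩
  haveI := Fact.mk hq
  have hxD : x ∈ D :=
    ((PLocalB.centerThompsonAOf_le _).trans (map_subtype_le _)) (hA hxA)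
  refine mem_centralizer_iff.2 fun w hw => ?_
  have h1 : w * x * w⁻¹ * x⁻¹ ∈ op q D := by
    have := mul_mem hw ((mem_normalizer_iff.1 (le_normalizer_op q D hxD) w⁻¹).1 (inv_mem hw))
    simpa [mul_assoc] using this
  have h2 : w * x * w⁻¹ * x⁻¹ ∈ op s D' :=
    mul_mem ((mem_normalizer_iff.1 (le_normalizer_op s D' (hle q hq hqs hw)) x).1 hxO) (inv_mem hxO)
  have h3 := (IsPGroup.disjoint_of_ne q s hqs _ _ (op_isPGroup q D) (op_isPGroup s D')).le_bot
    ⟨h1, h2⟩
  rw [mem_bot, mul_inv_eq_one, mul_inv_eq_iff_eq_mul] at h3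
  exact h3

/-- `A ∩ O_s(D)` is non-trivial with `O_s(D)`. -/
theorem zj_inf_ne_bot (P : Sylow s D) (hO : op s D ≠ ⊥) {A : Subgroup L} {m : ℕ} (hm : s ∣ m)
    (hA : ∀ x, x ∈ A ↔
      x ∈ Cfsg.centerThompsonAOf ((P : Subgroup D).map D.subtype) ∧ x ^ m = 1) :
    A ⊓ op s D ≠ ⊥ := by
  set Y := (P : Subgroup D).map D.subtype with hY
  have hYp : IsPGroup s Y := P.isPGroup'.map _
  haveI : ((op s D).subgroupOf Y).Normal :=
    normal_subgroupOf_of_le_normalizer ((map_subtype_le _).trans (le_normalizer_op s D))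
  have hne : (op s D).subgroupOf Y ≠ ⊥ := by
    rw [Ne, subgroupOf_eq_bot, disjoint_iff, inf_eq_left.2 (op_le_sylow_map P)]
    exact hO
  haveI : Nontrivial ↥((op s D).subgroupOf Y ⊓ center Y : Subgroup Y) :=
    (nontrivial_iff_ne_bot _).2 (PGroup.inf_center_ne_bot hYp hne)
  obtain ⟨k, hk, hkc⟩ := (hYp.to_subgroup ((op s D).subgroupOf Y ⊓ center Y)).nontrivial_iff_card.1
    inferInstance
  obtain ⟨y, hy⟩ := exists_prime_orderOf_dvd_card' (G := ↥((op s D).subgroupOf Y ⊓ center Y)) s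
    (hkc ▸ dvd_pow_self s hk.ne')
  obtain ⟨hy1, hyc⟩ := mem_inf.1 y.2
  intro h
  have hord : orderOf (((y : Y) : L)) = s := by rw [orderOf_coe, orderOf_coe, hy]
  have hmem : ((y : Y) : L) ∈ A ⊓ op s D := by
    refine mem_inf.2 ⟨(hA _).2 ⟨?_, ?_⟩, mem_subgroupOf.1 hy1⟩
    · rw [PLocalB.centerThompsonAOf_eq_core]
      refine Subgroup.mem_sInf.mpr fun B hB => (PLocalB.abelianFamily L).mem_of_centralizes hB
        (y : Y).2 (PLocalB.isMulCommutative_sup_zpowers hB.2.1 fun a ha => ?_)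
      exact congrArg Subtype.val (Subgroup.mem_center_iff.mp hyc ⟨a, hB.1 ha⟩)
    · exact orderOf_dvd_iff_pow_eq_one.1 (hord.symm ▸ hm)
  rw [h, mem_bot] at hmem
  rw [hmem, orderOf_one] at hord
  exact (Fact.out : s.Prime).ne_one hord.symm

/-- An element normalising `Y` and `D` normalises `A ∩ O_s(D)`. -/
theorem mem_normalizer_zj_inf {Y : Subgroup L} {A : Subgroup L} {m : ℕ}
    (hA : ∀ x, x ∈ A ↔ x ∈ Cfsg.centerThompsonAOf Y ∧ x ^ m = 1) {g : L}
    (hgY : g ∈ normalizer (Y : Set L)) (hgD : g ∈ normalizer (D : Set L)) :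
    g ∈ normalizer ((A ⊓ op s D : Subgroup L) : Set L) := by
  have hgZ : (Cfsg.centerThompsonAOf Y).map (MulAut.conj g).toMonoidHom =
      Cfsg.centerThompsonAOf Y := by
    rw [PLocalB.centerThompsonAOf_map (MulAut.conj g).toMonoidHom Y
      (MulAut.conj g).injective.injOn]
    exact congrArg _ (mem_normalizer_iff_map_conj_eq.1 hgY)
  have hgA : g ∈ normalizer (A : Set L) := by
    rw [mem_normalizer_iff_map_conj_eq]
    refine eq_of_le_of_card_ge ?_ (le_of_eq (card_map_of_injective (MulAut.conj g).injective).symm)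
    rintro _ ⟨x, hx, rfl⟩
    obtain ⟨hxZ, hxm⟩ := (hA x).1 hx
    exact (hA _).2 ⟨hgZ ▸ mem_map_of_mem _ hxZ, by simp [hxm]⟩
  rw [mem_normalizer_iff_map_conj_eq] at hgA hgD ⊢
  rw [Subgroup.map_inf _ _ _ (MulAut.conj g).injective, hgA]
  have h := op_map_equiv s D (MulAut.conj g)
  rw [show (D.map (MulAut.conj g).toMonoidHom) = D from hgD] at h
  exact congrArg (A ⊓ ·) h.symm

end

variable {G : Type u} [Group G] [Finite G] {H : Subgroup G}

/-- The stabiliser of `c` and another point is transitive on the involutions with centre `c`. -/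
theorem exists_conj_invAt (hC : Ctx H) {a c : G ⧸ H} (hac : a ≠ c) {y y' : G}
    (hy : y ∈ invAt H c) (hy' : y' ∈ invAt H c) : ∃ d ∈ stab2 a c, d * y * d⁻¹ = y' := by
  obtain ⟨g, hg⟩ := isConj_iff.1 (TwoFusionB.isConj_involutions hC.se hy.1 hy'.1)
  have hgc : g • c = c := by
    refine TwoFusionB.fix_unique hC.se hy'.1 ?_ hy'.2
    rw [← hg, mul_smul, mul_smul, inv_smul_smul, hy.2]
  have hga : y' • (g • a) ≠ g • a := fun e => hac (smul_left_cancel g
    ((TwoFusionB.fix_unique hC.se hy'.1 e hy'.2).trans hgc.symm))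
  obtain ⟨k, hk, hka⟩ := exists_centralizing_smul hC hy'.1 hga
    (fun e => hac (TwoFusionB.fix_unique hC.se hy'.1 e hy'.2))
  have hkc : k • c = c := TwoFusionB.fix_unique hC.se hy'.1
    (by rw [smul_smul, ← hk.eq, mul_smul, hy'.2]) hy'.2
  refine ⟨k * g, mem_inf.2 ⟨?_, ?_⟩, ?_⟩
  · rw [mem_stabilizer_iff, mul_smul, hka]
  · rw [mem_stabilizer_iff, mul_smul, hgc, hkc]
  · calc k * g * y * (k * g)⁻¹ = k * (g * y * g⁻¹) * k⁻¹ := by group
      _ = y' := by rw [hg, hk.eq, mul_inv_cancel_right]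

/-- (T.1) of `NONCORE2.md`: if the cores of the other primes fix the centre `c` of the swapper `u`
and `A` is normalised by an element taking `(a, b)` to `(a, c)`, then all of `invAt c` and a further
involution with another centre normalise the non-trivial group `A ∩ O_s(D)`. -/
theorem invAt_le_normalizer_zj_inf (hC : Ctx H) {u : G} {a b c : G ⧸ H} (hu : Swap H u a b c)
    (hac : a ≠ c) {s : ℕ} [Fact s.Prime] (hs : s ≠ 2) (P : Sylow s (stab2 a b : Subgroup G))
    (huY : u ∈ normalizer (((P : Subgroup (stab2 a b : Subgroup G)).map (stab2 a b).subtype :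
      Subgroup G) : Set G))
    {A : Subgroup G} {m : ℕ} (hA : ∀ x, x ∈ A ↔ x ∈ Cfsg.centerThompsonAOf
      ((P : Subgroup (stab2 a b : Subgroup G)).map (stab2 a b).subtype) ∧ x ^ m = 1)
    {g : G} (hga : g • a = a) (hgb : g • b = c) (hgA : g ∈ normalizer (A : Set G))
    (hfix : ∀ q : ℕ, q.Prime → q ≠ s → ∀ x ∈ op q (stab2 a b), x • c = c) :
    invAt H c ⊆ normalizer ((A ⊓ op s (stab2 a b) : Subgroup G) : Set G) ∧
      ∃ w ∈ normalizer ((A ⊓ op s (stab2 a b) : Subgroup G) : Set G),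
        orderOf w = 2 ∧ w • c ≠ c := by
  set X : Subgroup G := A ⊓ op s (stab2 a b) with hX
  have hD : Odd (Nat.card (stab2 a b : Subgroup G)) := odd_stab2 hC.se hu.ne
  have hD' : stab2 a c = (stab2 a b).map (MulAut.conj g).toMonoidHom := by
    rw [stab2_map, hga, hgb]
  have hgA' : A.map (MulAut.conj g).toMonoidHom = A := mem_normalizer_iff_map_conj_eq.1 hgA
  have hXX : X.map (MulAut.conj g).toMonoidHom = A ⊓ op s (stab2 a c) := by
    rw [hX, Subgroup.map_inf _ _ _ (MulAut.conj g).injective, ← op_map_equiv, ← hD', hgA']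
  have hsub : A ⊓ op s (stab2 a c) ≤ X :=
    zj_inf_le_of_cores hD hs P (fun x hx => ((hA x).1 hx).1) fun q hq hqs x hx => mem_inf.2
      ⟨(mem_inf.1 (op_le q (stab2 a b) hx)).1, mem_stabilizer_iff.2 (hfix q hq hqs x hx)⟩
  have heq : X.map (MulAut.conj g).toMonoidHom = X := by
    refine eq_of_le_of_card_ge (hXX ▸ hsub) (le_of_eq ?_)
    rw [card_map_of_injective (MulAut.conj g).injective]
  have hgX : g ∈ normalizer (X : Set G) := mem_normalizer_iff_map_conj_eq.2 heq
  have hD'X : stab2 a c ≤ normalizer (X : Set G) := by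
    rw [hD']
    refine (map_mono (le_normalizer_zj_inf hD hs P hA)).trans ?_
    have h := le_normalizer_map (H := X) (MulAut.conj g).toMonoidHom
    rwa [heq] at h
  have huX : u ∈ normalizer (X : Set G) :=
    mem_normalizer_zj_inf hA huY (norm_stab2 hu.inv hu.swap)
  refine ⟨fun y hy => ?_, g * u * g⁻¹, mul_mem (mul_mem hgX huX) (inv_mem hgX),
    by rw [TwoFusionB.orderOf_conj_eq, hu.inv], fun hfx => ?_⟩
  · obtain ⟨d, hd, rfl⟩ := exists_conj_invAt hC hac ⟨hu.inv, hu.centre⟩ hy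
    exact mul_mem (mul_mem (hD'X hd) huX) (inv_mem (hD'X hd))
  · -- `c = g • b`, and `u` moves `b`
    rw [← hgb, mul_smul, mul_smul, inv_smul_smul, smul_left_cancel_iff,
      TwoFusionB.smul_swap hu.inv hu.swap] at hfx
    exact hu.ne hfx

end Cfsg.Agent.Bender85
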