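import Mathlib

/-!
Weights of an elementary 2-group acting faithfully on an elementary abelian group of odd exponent
(`NONCORE2.md`, (T.2)): if the 2-group has order at least eight, every subgroup with cyclic quotient
contains a nontrivial element inverted by one of the involutions and centralised by another one.
-/

set_option autoImplicit false

namespace Cfsg.Agent.Bender85.Weights51

open Subgroup

variable {G : Type*} [Group G]

/-- The standing data: `A` abelian of prime exponent `s ≠ 2`, normalised by the elementary abelian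
2-group `E`, which acts faithfully. -/
structure Act (s : ℕ) (A E : Subgroup G) : Prop where
  prime : s.Prime
  odd : s ≠ 2
  comm : ∀ a ∈ A, ∀ b ∈ A, a * b = b * a
  pow : ∀ a ∈ A, a ^ s = 1
  sq : ∀ e ∈ E, e * e = 1
  norm : E ≤ normalizer (A : Set G)
  faithful : ∀ e ∈ E, e ≠ 1 → ∃ a ∈ A, e * a * e ≠ a

variable {s : ℕ} {A E : Subgroup G}

theorem Act.inv_eq (h : Act s A E) {e : G} (he : e ∈ E) : e⁻¹ = e :=
  inv_eq_of_mul_eq_one_left (h.sq e he)

theorem Act.conj_mem (h : Act s A E) {e a : G} (he : e ∈ E) (ha : a ∈ A) : e * a * e ∈ A := by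
  have := (mem_normalizer_iff.1 (h.norm he) a).1 ha
  rwa [h.inv_eq he] at this

theorem Act.conj_mul (h : Act s A E) {e : G} (he : e ∈ E) (a b : G) :
    e * (a * b) * e = e * a * e * (e * b * e) := by
  have := h.inv_eq he
  calc e * (a * b) * e = e * a * (e * e) * b * e := by rw [h.sq e he]; group
    _ = _ := by group

theorem Act.conj_inv (h : Act s A E) {e : G} (he : e ∈ E) (a : G) :
    e * a⁻¹ * e = (e * a * e)⁻¹ := by
  rw [mul_inv_rev, mul_inv_rev, h.inv_eq he]; group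

theorem Act.conj_conj (h : Act s A E) {e : G} (he : e ∈ E) (a : G) :
    e * (e * a * e) * e = a := by
  calc e * (e * a * e) * e = (e * e) * a * (e * e) := by group
    _ = a := by rw [h.sq e he]; group

theorem Act.comm' (h : Act s A E) {e f : G} (he : e ∈ E) (hf : f ∈ E) : e * f = f * e := by
  have := h.inv_eq (E.mul_mem he hf)
  rw [mul_inv_rev, h.inv_eq he, h.inv_eq hf] at this
  exact this.symm

theorem Act.orderOf_eq (h : Act s A E) {e : G} (he : e ∈ E) (h1 : e ≠ 1) : orderOf e = 2 :=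
  orderOf_eq_prime (by rw [pow_two]; exact h.sq e he) h1

theorem Act.eq_one_of_sq (h : Act s A E) {a : G} (ha : a ∈ A) (h2 : a * a = 1) : a = 1 := by
  have hd : orderOf a ∣ Nat.gcd s 2 :=
    Nat.dvd_gcd (orderOf_dvd_of_pow_eq_one (h.pow a ha))
      (orderOf_dvd_of_pow_eq_one (by rw [pow_two]; exact h2))
  rw [show Nat.gcd s 2 = 1 from (Nat.coprime_primes h.prime Nat.prime_two).2 h.odd,
    Nat.dvd_one, orderOf_eq_one_iff] at hd
  exact hd

theorem Act.conj_prod (h : Act s A E) {e f : G} (he : e ∈ E) (hf : f ∈ E) (x : G) :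
    e * f * x * (e * f) = e * (f * x * f) * e := by
  calc e * f * x * (e * f) = e * f * x * (f * e) := congrArg (e * f * x * ·) (h.comm' he hf)
    _ = _ := by group

/-- Elements of `A` inverted by `e`. -/
def Inv (A : Subgroup G) (e a : G) : Prop := a ∈ A ∧ e * a * e = a⁻¹

/-- Elements of `A` fixed by `e`. -/
def Fix (A : Subgroup G) (e a : G) : Prop := a ∈ A ∧ e * a * e = a

/-- Two independent elements with the property `P`. -/
def Two (P : G → Prop) : Prop := ∃ a b, a ≠ 1 ∧ P a ∧ P b ∧ b ∉ zpowers a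

theorem Act.fix_mul (h : Act s A E) {e a b : G} (he : e ∈ E) (ha : Fix A e a) (hb : Fix A e b) :
    Fix A e (a * b) :=
  ⟨A.mul_mem ha.1 hb.1, by rw [h.conj_mul he, ha.2, hb.2]⟩

theorem Act.inv_mul (h : Act s A E) {e a b : G} (he : e ∈ E) (ha : Inv A e a) (hb : Inv A e b) :
    Inv A e (a * b) :=
  ⟨A.mul_mem ha.1 hb.1, by
    rw [h.conj_mul he, ha.2, hb.2, mul_inv_rev, h.comm _ (A.inv_mem hb.1) _ (A.inv_mem ha.1)]⟩

theorem Act.fix_zpow (h : Act s A E) {e a : G} (he : e ∈ E) (ha : Fix A e a) (n : ℤ) :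
    Fix A e (a ^ n) := by
  refine ⟨A.zpow_mem ha.1 n, ?_⟩
  calc e * a ^ n * e = e * a ^ n * e⁻¹ := by rw [h.inv_eq he]
    _ = (e * a * e⁻¹) ^ n := (conj_zpow).symm
    _ = a ^ n := by rw [h.inv_eq he, ha.2]

theorem Act.inv_zpow (h : Act s A E) {e a : G} (he : e ∈ E) (ha : Inv A e a) (n : ℤ) :
    Inv A e (a ^ n) := by
  refine ⟨A.zpow_mem ha.1 n, ?_⟩
  calc e * a ^ n * e = e * a ^ n * e⁻¹ := by rw [h.inv_eq he]
    _ = (e * a * e⁻¹) ^ n := (conj_zpow).symm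
    _ = (a ^ n)⁻¹ := by rw [h.inv_eq he, ha.2, _root_.inv_zpow]

/-- An element inverted by `e` splits, up to a square, along a commuting involution. -/
theorem Act.split (h : Act s A E) {e w a : G} (he : e ∈ E) (hw : w ∈ E) (ha : Inv A e a) :
    ∃ p m, Inv A e p ∧ Fix A w p ∧ Inv A e m ∧ Inv A w m ∧ p * m = a * a := by
  have hwa : w * a * w ∈ A := h.conj_mem hw ha.1
  have hi : Inv A e (w * a * w) := ⟨hwa, by
    calc e * (w * a * w) * e = (e * w) * a * (w * e) := by group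
      _ = (w * e) * a * (e * w) := by rw [h.comm' he hw]
      _ = w * (e * a * e) * w := by group
      _ = _ := by rw [ha.2, h.conj_inv hw]⟩
  refine ⟨a * (w * a * w), a * (w * a * w)⁻¹, h.inv_mul he ha hi, ⟨A.mul_mem ha.1 hwa, ?_⟩,
    h.inv_mul he ha ⟨A.inv_mem hwa, by rw [h.conj_inv he, hi.2]⟩,
    ⟨A.mul_mem ha.1 (A.inv_mem hwa), ?_⟩, ?_⟩
  · rw [h.conj_mul hw, h.conj_conj hw]
    exact h.comm _ hwa _ ha.1
  · rw [h.conj_mul hw, h.conj_inv hw, h.conj_conj hw, mul_inv_rev, inv_inv]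
  · rw [h.comm a ha.1 _ hwa, mul_assoc, ← mul_assoc a a, ← mul_assoc,
      h.comm (w * a * w) hwa (a * a) (A.mul_mem ha.1 ha.1), mul_assoc, mul_inv_cancel, mul_one]

theorem Act.mem_zpowers_of_sq (h : Act s A E) {a b : G} (hb : b ∈ A) (h2 : b * b ∈ zpowers a) :
    b ∈ zpowers a := by
  obtain ⟨k, hk⟩ := h.prime.odd_of_ne_two h.odd
  have e1 : b ^ (2 * (k + 1)) = b := by
    rw [show 2 * (k + 1) = s + 1 by omega, pow_succ, h.pow b hb, one_mul]
  rw [← e1, pow_mul, pow_two]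
  exact Subgroup.pow_mem _ h2 _

/-- Some involution inverts two independent elements. -/
theorem Act.two_inv [Finite G] (h : Act s A E) (hcard : 4 ≤ Nat.card E) :
    ∃ e ∈ E, e ≠ 1 ∧ Two (Inv A e) := by
  classical
  by_contra hno
  push Not at hno
  have hline : ∀ e ∈ E, e ≠ 1 → ∀ {a b : G}, a ≠ 1 → Inv A e a → Inv A e b → b ∈ zpowers a := by
    intro e he h1 a b ha ia ib
    by_contra hb
    exact hno e he h1 ⟨a, b, ha, ia, ib, hb⟩
  have hne : ∀ e ∈ E, e ≠ 1 → ∃ a, a ≠ 1 ∧ Inv A e a := by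
    intro e he h1
    obtain ⟨a, ha, hea⟩ := h.faithful e he h1
    have hm := h.conj_mem he ha
    refine ⟨e * a * e * a⁻¹, fun h0 => hea (mul_inv_eq_one.1 h0),
      A.mul_mem hm (A.inv_mem ha), ?_⟩
    rw [h.conj_mul he, h.conj_inv he, h.conj_conj he]; group
  -- on each line every involution of `E` is a scalar
  have hscal : ∀ e ∈ E, e ≠ 1 → ∀ w ∈ E, ∀ a, a ≠ 1 → Inv A e a → Fix A w a ∨ Inv A w a := by
    intro e he h1 w hw a ha ia
    obtain ⟨p, m, ip, fp, im, jm, hpm⟩ := h.split he hw ia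
    by_cases hp : p = 1
    · refine Or.inr ?_
      rw [hp, one_mul] at hpm
      have hm : m ≠ 1 := fun h0 => ha (h.eq_one_of_sq ia.1 (hpm.symm.trans h0))
      obtain ⟨n, rfl⟩ := mem_zpowers_iff.1 (hline e he h1 hm im ia)
      exact h.inv_zpow hw jm n
    · obtain ⟨n, rfl⟩ := mem_zpowers_iff.1 (hline e he h1 hp ip ia)
      exact Or.inl (h.fix_zpow hw fp n)
  have hdiff : ∀ e ∈ E, ∀ f ∈ E, e ≠ 1 → f ≠ 1 → e ≠ f → ∀ a, a ≠ 1 → Inv A e a → ¬ Inv A f a := by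
    intro e he f hf e1 f1 hef a ha ia ja
    have hg : e * f ∈ E := E.mul_mem he hf
    have g1 : e * f ≠ 1 := fun h0 => hef (by
      have := inv_eq_of_mul_eq_one_right h0
      rw [h.inv_eq he] at this
      exact this)
    obtain ⟨b, hb, ib⟩ := hne (e * f) hg g1
    have hswap := h.conj_prod he hf
    have hab : b ∉ zpowers a := fun hb' => by
      obtain ⟨n, rfl⟩ := mem_zpowers_iff.1 hb'
      refine hb (h.eq_one_of_sq ib.1 ?_)
      have h2 := ib.2
      rw [hswap, (h.inv_zpow hf ja n).2, h.conj_inv he, (h.inv_zpow he ia n).2, inv_inv] at h2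
      nth_rw 1 [h2]; exact inv_mul_cancel _
    rcases hscal (e * f) hg g1 e he b hb ib with hfix | hinv
    · refine hab (hline f hf f1 ha ja ⟨ib.1, ?_⟩)
      calc f * b * f = e * (e * (f * b * f) * e) * e := (h.conj_conj he _).symm
        _ = e * b⁻¹ * e := by rw [← hswap, ib.2]
        _ = b⁻¹ := by rw [h.conj_inv he, hfix.2]
    · exact hab (hline e he e1 ha ia hinv)
  obtain ⟨e, he, e1⟩ : ∃ e ∈ E, e ≠ (1 : G) := by
    by_contra! hall
    have : E = ⊥ := (eq_bot_iff_forall E).2 hall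
    rw [this, Subgroup.card_bot] at hcard
    omega
  obtain ⟨f, hf, hfe⟩ : ∃ f ∈ E, f ∉ zpowers e := by
    by_contra! hall
    have := Subgroup.card_le_of_le (show E ≤ zpowers e from hall)
    rw [Nat.card_zpowers, h.orderOf_eq he e1] at this
    omega
  have f1 : f ≠ 1 := fun h0 => hfe (h0 ▸ (zpowers e).one_mem)
  have hef : e ≠ f := fun h0 => hfe (h0 ▸ mem_zpowers e)
  obtain ⟨a, ha, ia⟩ := hne e he e1
  obtain ⟨b, hb, ib⟩ := hne f hf f1
  have fa : Fix A f a := (hscal e he e1 f hf a ha ia).resolve_right (hdiff e he f hf e1 f1 hef a ha ia)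
  have eb : Fix A e b := (hscal f hf f1 e he b hb ib).resolve_right (hdiff f hf e he f1 e1 hef.symm b hb ib)
  have hg : e * f ∈ E := E.mul_mem he hf
  have g1 : e * f ≠ 1 := fun h0 => hef (by
    have := inv_eq_of_mul_eq_one_right h0
    rw [h.inv_eq he] at this
    exact this)
  have iga : Inv A (e * f) a := ⟨ia.1, by
    calc e * f * a * (e * f) = e * (f * a * f) * e := h.conj_prod he hf a
      _ = a⁻¹ := by rw [fa.2, ia.2]⟩
  have igb : Inv A (e * f) b := ⟨ib.1, by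
    calc e * f * b * (e * f) = e * (f * b * f) * e := h.conj_prod he hf b
      _ = b⁻¹ := by rw [ib.2, h.conj_inv he, eb.2]⟩
  obtain ⟨n, rfl⟩ := mem_zpowers_iff.1 (hline _ hg g1 ha iga igb)
  refine hb (h.eq_one_of_sq ib.1 ?_)
  have := (h.inv_zpow he ia n).2
  rw [eb.2] at this
  nth_rw 1 [this]; exact inv_mul_cancel _

/-- Two independent elements inverted by one involution and centralised by another one. -/
theorem Act.two_weight [Finite G] (h : Act s A E) (hcard : 8 ≤ Nat.card E) :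
    ∃ v ∈ E, ∃ w ∈ E, v ≠ 1 ∧ w ≠ 1 ∧ Two (fun a => Inv A v a ∧ Fix A w a) := by
  classical
  obtain ⟨e, he, e1, a, b, ha, ia, ib, hab⟩ := h.two_inv (by omega)
  by_contra hno
  push Not at hno
  -- `e` together with any `w` outside `<e>`
  have hP : ∀ w ∈ E, w ∉ zpowers e → ¬ Two (fun x => Inv A e x ∧ Fix A w x) := fun w hw hwe =>
    hno e he w hw e1 fun h0 => hwe (h0 ▸ (zpowers e).one_mem)
  have hM : ∀ w ∈ E, w ∉ zpowers e → ¬ Two (fun x => Inv A e x ∧ Inv A w x) := by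
    intro w hw hwe htwo
    refine hP (w * e) (E.mul_mem hw he) (fun h0 => hwe ?_) ?_
    · have := (zpowers e).mul_mem h0 (mem_zpowers e)
      rwa [mul_assoc, h.sq e he, mul_one] at this
    · obtain ⟨x, y, hx, ⟨ix, jx⟩, ⟨iy, jy⟩, hxy⟩ := htwo
      have key : ∀ z, Inv A e z → Inv A w z → Fix A (w * e) z := fun z iz jz => ⟨iz.1, by
        calc w * e * z * (w * e) = w * (e * z * e) * w := h.conj_prod hw he z
          _ = z := by rw [iz.2, h.conj_inv hw, jz.2, inv_inv]⟩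
      exact ⟨x, y, hx, ⟨ix, key x ix jx⟩, ⟨iy, key y iy jy⟩, hxy⟩
  have hbA := ib.1
  have hb1 : b ≠ 1 := fun h0 => hab (h0 ▸ (zpowers a).one_mem)
  -- each such `w` has a fixed and an inverted line
  have hpick : ∀ w ∈ E, w ∉ zpowers e →
      (∃ p, p ≠ 1 ∧ Inv A e p ∧ Fix A w p) ∧ ∃ m, m ≠ 1 ∧ Inv A e m ∧ Inv A w m := by
    intro w hw hwe
    obtain ⟨p, m, ip, fp, im, jm, hpm⟩ := h.split he hw ia
    obtain ⟨q, n, iq, fq, inn, jn, hqn⟩ := h.split he hw ib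
    constructor
    · by_contra! hall
      have p1 : p = 1 := by_contra fun hp => hall p hp ip fp
      have q1 : q = 1 := by_contra fun hq => hall q hq iq fq
      rw [p1, one_mul] at hpm
      rw [q1, one_mul] at hqn
      refine hM w hw hwe ⟨m, n, fun h0 => ha (h.eq_one_of_sq ia.1 (hpm.symm.trans h0)),
        ⟨im, jm⟩, ⟨inn, jn⟩, fun hn => hab (h.mem_zpowers_of_sq hbA ?_)⟩
      rw [← hqn]
      exact zpowers_le.2 (hpm ▸ (zpowers a).mul_mem (mem_zpowers a) (mem_zpowers a)) hn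
    · by_contra! hall
      have m1 : m = 1 := by_contra fun hm => hall m hm im jm
      have n1 : n = 1 := by_contra fun hn => hall n hn inn jn
      rw [m1, mul_one] at hpm
      rw [n1, mul_one] at hqn
      refine hP w hw hwe ⟨p, q, fun h0 => ha (h.eq_one_of_sq ia.1 (hpm.symm.trans h0)),
        ⟨ip, fp⟩, ⟨iq, fq⟩, fun hq => hab (h.mem_zpowers_of_sq hbA ?_)⟩
      rw [← hqn]
      exact zpowers_le.2 (hpm ▸ (zpowers a).mul_mem (mem_zpowers a) (mem_zpowers a)) hq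
  obtain ⟨w₁, hw₁, hw₁e⟩ : ∃ w ∈ E, w ∉ zpowers e := by
    by_contra! hall
    have := Subgroup.card_le_of_le (show E ≤ zpowers e from hall)
    rw [Nat.card_zpowers, h.orderOf_eq he e1] at this
    omega
  obtain ⟨⟨p, p1, ip, fp⟩, m, m1, im, jm⟩ := hpick w₁ hw₁ hw₁e
  obtain ⟨w₂, hw₂, hw₂e, hw₁₂⟩ : ∃ w ∈ E, w ∉ zpowers e ∧ w₁ * w ∉ zpowers e := by
    by_contra! hall
    have hsub : (E : Set G) ⊆ ({1, e, w₁, w₁ * e} : Finset G) := by
      intro w hw
      have hpow : ∀ x ∈ zpowers e, x = 1 ∨ x = e := by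
        intro x hx
        have hfin : IsOfFinOrder e := isOfFinOrder_iff_pow_eq_one.2 ⟨2, by norm_num,
          by rw [pow_two]; exact h.sq e he⟩
        obtain ⟨k, rfl⟩ := (hfin.mem_powers_iff_mem_zpowers).2 hx
        rcases Nat.mod_two_eq_zero_or_one k with hk | hk <;>
          · show e ^ k = 1 ∨ e ^ k = e
            rw [← pow_mod_orderOf, h.orderOf_eq he e1, hk]
            simp
      simp only [Finset.coe_insert, Finset.coe_singleton, Set.mem_insert_iff, Set.mem_singleton_iff]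
      by_cases hwe : w ∈ zpowers e
      · rcases hpow w hwe with hk | hk
        · exact Or.inl hk
        · exact Or.inr (Or.inl hk)
      · have e2 : w = w₁ * (w₁ * w) := by rw [← mul_assoc, h.sq w₁ hw₁, one_mul]
        rcases hpow _ (hall w hw hwe) with hk | hk <;> rw [hk] at e2
        · exact Or.inr (Or.inr (Or.inl (e2.trans (mul_one _))))
        · exact Or.inr (Or.inr (Or.inr e2))
    have := Set.ncard_le_ncard hsub (Finset.finite_toSet _)
    rw [Set.ncard_coe_finset, ← Nat.card_coe_set_eq] at this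
    simp only [SetLike.coe_sort_coe] at this
    have h4 := (Finset.card_le_four : ({1, e, w₁, w₁ * e} : Finset G).card ≤ 4)
    omega
  have hlinP : ∀ w ∈ E, w ∉ zpowers e → ∀ x y, x ≠ 1 → Inv A e x → Fix A w x → Inv A e y →
      Fix A w y → y ∈ zpowers x := fun w hw hwe x y hx a1 a2 a3 a4 =>
    by_contra fun hy => hP w hw hwe ⟨x, y, hx, ⟨a1, a2⟩, ⟨a3, a4⟩, hy⟩
  have hlinM : ∀ w ∈ E, w ∉ zpowers e → ∀ x y, x ≠ 1 → Inv A e x → Inv A w x → Inv A e y →
      Inv A w y → y ∈ zpowers x := fun w hw hwe x y hx a1 a2 a3 a4 =>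
    by_contra fun hy => hM w hw hwe ⟨x, y, hx, ⟨a1, a2⟩, ⟨a3, a4⟩, hy⟩
  -- `w₂` preserves the two lines of `w₁`
  have hcm := h.comm' hw₁ hw₂
  have hsc : ∀ x, x ≠ 1 → Inv A e x → (Fix A w₁ x ∨ Inv A w₁ x) → Fix A w₂ x ∨ Inv A w₂ x := by
    intro x hx ix hx1
    obtain ⟨q, n, iq, fq, inn, jn, hqn⟩ := h.split he hw₂ ix
    have hconj : w₁ * (w₂ * x * w₂) * w₁ = w₂ * (w₁ * x * w₁) * w₂ := by
      calc w₁ * (w₂ * x * w₂) * w₁ = (w₁ * w₂) * x * (w₂ * w₁) := by group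
        _ = (w₂ * w₁) * x * (w₁ * w₂) := by rw [hcm]
        _ = _ := by group
    have hwx := h.conj_mem hw₂ ix.1
    have iwx : Inv A e (w₂ * x * w₂) := ⟨hwx, by
      calc e * (w₂ * x * w₂) * e = (e * w₂) * x * (w₂ * e) := by group
        _ = (w₂ * e) * x * (e * w₂) := by rw [h.comm' he hw₂]
        _ = w₂ * (e * x * e) * w₂ := by group
        _ = _ := by rw [ix.2, h.conj_inv hw₂]⟩
    have hmem : w₂ * x * w₂ ∈ zpowers x := by
      rcases hx1 with f1 | j1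
      · exact hlinP w₁ hw₁ hw₁e x _ hx ix f1 iwx ⟨hwx, by rw [hconj, f1.2]⟩
      · exact hlinM w₁ hw₁ hw₁e x _ hx ix j1 iwx ⟨hwx, by rw [hconj, j1.2, h.conj_inv hw₂]⟩
    obtain ⟨k, hk⟩ := mem_zpowers_iff.1 hmem
    have hsq : (x ^ k) ^ k = x := by
      have e3 : w₂ * x ^ k * w₂ = (w₂ * x * w₂) ^ k := by
        conv_lhs => arg 2; rw [← h.inv_eq hw₂]
        rw [← conj_zpow, h.inv_eq hw₂]
      rw [← hk] at e3
      rw [← e3, hk, h.conj_conj hw₂]
    rw [← zpow_mul] at hsq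
    have hord : orderOf x = s := by
      have := Fact.mk h.prime
      exact orderOf_eq_prime (h.pow x ix.1) hx
    have hd : (s : ℤ) ∣ k * k - 1 := by
      have h0 : x ^ (k * k - 1) = 1 := by rw [zpow_sub, hsq, zpow_one, mul_inv_cancel]
      have := orderOf_dvd_iff_zpow_eq_one.2 h0
      rwa [hord] at this
    rw [show k * k - 1 = (k - 1) * (k + 1) by ring] at hd
    rcases (Nat.prime_iff_prime_int.1 h.prime).dvd_or_dvd hd with h1 | h1 <;>
      obtain ⟨j, hj⟩ := h1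
    · refine Or.inl ⟨ix.1, ?_⟩
      rw [← hk, show k = 1 + (s : ℤ) * j by omega, zpow_add, zpow_one, zpow_mul, zpow_natCast,
        h.pow x ix.1, one_zpow, mul_one]
    · refine Or.inr ⟨ix.1, ?_⟩
      rw [← hk, show k = -1 + (s : ℤ) * j by omega, zpow_add, zpow_neg_one, zpow_mul, zpow_natCast,
        h.pow x ix.1, one_zpow, mul_one]
  have hw12 : w₁ * w₂ ∈ E := E.mul_mem hw₁ hw₂
  have hpm : m ∉ zpowers p := fun hm => by
    obtain ⟨n, rfl⟩ := mem_zpowers_iff.1 hm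
    refine m1 (h.eq_one_of_sq im.1 ?_)
    have := (h.fix_zpow hw₁ fp n).2
    rw [jm.2] at this
    nth_rw 1 [← this]; exact inv_mul_cancel _
  have hcomb := h.conj_prod hw₁ hw₂
  rcases hsc p p1 ip (Or.inl fp) with f2p | j2p <;>
    rcases hsc m m1 im (Or.inr jm) with f2m | j2m
  · exact hP w₂ hw₂ hw₂e ⟨p, m, p1, ⟨ip, f2p⟩, ⟨im, f2m⟩, hpm⟩
  · exact hP (w₁ * w₂) hw12 hw₁₂ ⟨p, m, p1, ⟨ip, ip.1, by rw [hcomb, f2p.2, fp.2]⟩,
      ⟨im, im.1, by rw [hcomb, j2m.2, h.conj_inv hw₁, jm.2, inv_inv]⟩, hpm⟩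
  · exact hM (w₁ * w₂) hw12 hw₁₂ ⟨p, m, p1, ⟨ip, ip.1, by rw [hcomb, j2p.2, h.conj_inv hw₁, fp.2]⟩,
      ⟨im, im.1, by rw [hcomb, f2m.2, jm.2]⟩, hpm⟩
  · exact hM w₂ hw₂ hw₂e ⟨p, m, p1, ⟨ip, j2p⟩, ⟨im, j2m⟩, hpm⟩

/-- Two independent elements with a property closed under products meet every subgroup with
cyclic quotient. -/
theorem exists_mem_of_two {A A₀ : Subgroup G} {s : ℕ} (hs : s.Prime)
    (hcomm : ∀ a ∈ A, ∀ b ∈ A, a * b = b * a) (hpow : ∀ a ∈ A, a ^ s = 1) (hle : A₀ ≤ A)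
    (hcyc : ∃ g ∈ A, A ≤ A₀ ⊔ zpowers g) {P : Subgroup G} (hP : P ≤ A)
    (htwo : Two (fun a => a ∈ P)) : ∃ l ∈ A₀ ⊓ P, l ≠ 1 := by
  obtain ⟨g, hg, hgen⟩ := hcyc
  obtain ⟨a, b, ha, haP, hbP, hab⟩ := htwo
  have hgA : zpowers g ≤ A := zpowers_le.2 hg
  have hnorm : zpowers g ≤ normalizer (A₀ : Set G) := fun x hx => mem_normalizer_iff.2 fun y => by
    constructor
    · intro hy
      rwa [hcomm x (hgA hx) y (hle hy), mul_inv_cancel_right]
    · intro hy
      have hy' : x * y * x⁻¹ ∈ A := hle hy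
      have : y = x * y * x⁻¹ := by
        calc y = x⁻¹ * ((x * y * x⁻¹) * x) := by group
          _ = x⁻¹ * (x * (x * y * x⁻¹)) := by rw [hcomm _ hy' x (hgA hx)]
          _ = _ := by group
      rwa [this]
  have hdec : ∀ x ∈ A, ∃ y ∈ A₀, ∃ n : ℤ, x = y * g ^ n := by
    intro x hx
    have hx' : x ∈ ((A₀ ⊔ zpowers g : Subgroup G) : Set G) := hgen hx
    rw [coe_mul_of_right_le_normalizer_left A₀ (zpowers g) hnorm] at hx'
    obtain ⟨y, hy, z, hz, rfl⟩ := hx'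
    obtain ⟨n, rfl⟩ := mem_zpowers_iff.1 hz
    exact ⟨y, hy, n, rfl⟩
  obtain ⟨y₁, hy₁, n₁, hn₁⟩ := hdec a (hP haP)
  obtain ⟨y₂, hy₂, n₂, hn₂⟩ := hdec b (hP hbP)
  by_cases hd : (s : ℤ) ∣ n₁
  · obtain ⟨j, rfl⟩ := hd
    refine ⟨a, mem_inf.2 ⟨?_, haP⟩, ha⟩
    rw [hn₁, zpow_mul, zpow_natCast, hpow g hg, one_zpow, mul_one]
    exact hy₁
  · obtain ⟨i, j, hij⟩ := (Nat.prime_iff_prime_int.1 hs).coprime_iff_not_dvd.2 hd
    refine ⟨b * (a ^ (j * n₂))⁻¹, mem_inf.2 ⟨?_, P.mul_mem hbP (P.inv_mem (P.zpow_mem haP _))⟩,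
      fun h0 => hab (mem_zpowers_iff.2 ⟨_, (mul_inv_eq_one.1 h0).symm⟩)⟩
    have hc : Commute y₁ (g ^ n₁) := hcomm y₁ (hle hy₁) _ (A.zpow_mem hg n₁)
    have he : n₁ * (j * n₂) = n₂ + (s : ℤ) * (-(i * n₂)) := by linear_combination n₂ * hij
    have hg' : g ^ (n₁ * (j * n₂)) = g ^ n₂ := by
      rw [he, zpow_add, zpow_mul g (s : ℤ), zpow_natCast, hpow g hg, one_zpow, mul_one]
    rw [hn₁, hc.mul_zpow, ← zpow_mul, hg', hn₂, mul_inv_rev, ← mul_assoc, mul_inv_cancel_right]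
    exact A₀.mul_mem hy₂ (A₀.inv_mem (A₀.zpow_mem hy₁ _))

/-- The common eigenspace `v = -1`, `w = 1`. -/
def Act.weight (h : Act s A E) {v w : G} (hv : v ∈ E) (hw : w ∈ E) : Subgroup G where
  carrier := {a | Inv A v a ∧ Fix A w a}
  one_mem' := ⟨⟨A.one_mem, by rw [mul_one, h.sq v hv, inv_one]⟩,
    ⟨A.one_mem, by rw [mul_one, h.sq w hw]⟩⟩
  mul_mem' ha hb := ⟨h.inv_mul hv ha.1 hb.1, h.fix_mul hw ha.2 hb.2⟩
  inv_mem' {a} ha := ⟨by simpa using h.inv_zpow hv ha.1 (-1), by simpa using h.fix_zpow hw ha.2 (-1)⟩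

/-- In every subgroup of `A` with cyclic quotient some nontrivial element is inverted by an
involution of `E` and centralised by another one. -/
theorem Act.exists_real_centralised [Finite G] (h : Act s A E) (hcard : 8 ≤ Nat.card E) {A₀ : Subgroup G}
    (hle : A₀ ≤ A) (hcyc : ∃ g ∈ A, A ≤ A₀ ⊔ zpowers g) :
    ∃ l ∈ A₀, l ≠ 1 ∧ (∃ v ∈ E, orderOf v = 2 ∧ v * l * v = l⁻¹) ∧
      ∃ w ∈ E, orderOf w = 2 ∧ Commute w l := by
  obtain ⟨v, hv, w, hw, v1, w1, htwo⟩ := h.two_weight hcard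
  obtain ⟨l, hl, l1⟩ := exists_mem_of_two h.prime h.comm h.pow hle hcyc
    (P := h.weight hv hw) (fun a ha => ha.1.1) htwo
  obtain ⟨hl0, ⟨-, hlv⟩, -, hlw⟩ := mem_inf.1 hl
  refine ⟨l, hl0, l1, ⟨v, hv, h.orderOf_eq hv v1, hlv⟩, w, hw, h.orderOf_eq hw w1, ?_⟩
  calc w * l = w * l * (w * w) := by rw [h.sq w hw, mul_one]
    _ = (w * l * w) * w := by group
    _ = l * w := by rw [hlw]

/-- A noncyclic subgroup of `A` inverted by one involution of `E` and centralised by another. -/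
theorem Act.exists_plane [Finite G] (h : Act s A E) (hcard : 8 ≤ Nat.card E) :
    ∃ W : Subgroup G, W ≤ A ∧ ¬ IsCyclic W ∧ ∃ v ∈ E, ∃ w ∈ E, orderOf v = 2 ∧ orderOf w = 2 ∧
      ∀ x ∈ W, v * x * v = x⁻¹ ∧ Commute w x := by
  obtain ⟨v, hv, w, hw, v1, w1, a, b, ha, haP, hbP, hab⟩ := h.two_weight hcard
  refine ⟨h.weight hv hw, fun x hx => hx.1.1, ?_, v, hv, w, hw, h.orderOf_eq hv v1,
    h.orderOf_eq hw w1, fun x hx => ⟨hx.1.2, ?_⟩⟩
  · intro hcyc
    obtain ⟨g, hg⟩ := hcyc.exists_zpow_surjective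
    obtain ⟨i, hi⟩ := hg ⟨a, haP⟩
    obtain ⟨j, hj⟩ := hg ⟨b, hbP⟩
    replace hi : (g : G) ^ i = a := congrArg Subtype.val hi
    replace hj : (g : G) ^ j = b := congrArg Subtype.val hj
    have hgp : (g : G) ^ (s : ℤ) = 1 := by rw [zpow_natCast]; exact h.pow _ g.2.1.1
    have hsi : ¬ (s : ℤ) ∣ i := by
      rintro ⟨k, rfl⟩
      exact ha (by rw [← hi, zpow_mul, hgp, one_zpow])
    obtain ⟨p, q, hpq⟩ := (Nat.prime_iff_prime_int.1 h.prime).coprime_iff_not_dvd.2 hsi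
    refine hab (mem_zpowers_iff.2 ⟨q * j, ?_⟩)
    rw [← hi, ← hj, ← zpow_mul, show i * (q * j) = j + (s : ℤ) * (-(p * j)) by
      linear_combination j * hpq, zpow_add, zpow_mul _ (s : ℤ), hgp, one_zpow, mul_one]
  · calc w * x = w * x * (w * w) := by rw [h.sq w hw, mul_one]
      _ = (w * x * w) * w := by group
      _ = x * w := by rw [hx.2.2]

end Cfsg.Agent.Bender85.Weights51
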