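import Cfsg.Agent.Bender85.Local
import Cfsg.Agent.Bender85.Weights51
import Cfsg.Agent.Lib.Coprime.Generation

/-!
The weights step of the non-core case (`NONCORE2.md`, (T.2), (T.3)): an elementary 2-group of order
at least eight with one centre makes every coprime group normalised by `A` fix that centre, and in
its absence the elements of the two-point stabiliser of order prime to six fix it.
-/

set_option autoImplicit false
set_option linter.style.haveILetI false
set_option linter.unusedSectionVars false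

namespace Cfsg.Agent.Bender85

open Subgroup MulAction Bender43 Bender43.Fixed

universe u

variable {G : Type u} [Group G] [Finite G] {H : Subgroup G}

/-- If an involution inverts `x` and one with centre `c` centralises it, `C(x)` fixes `c`. -/
theorem centralizer_le_of_real (hC : Ctx H) {x v w : G} {c : G ⧸ H} (hx1 : x ≠ 1)
    (hodd : Odd (orderOf x)) (hv : orderOf v = 2) (hvx : v * x * v = x⁻¹) (hw : orderOf w = 2)
    (hwc : w • c = c) (hwx : Commute w x) :
    centralizer ({x} : Set G) ≤ stabilizer G c := by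
  intro g hg
  rw [mem_centralizer_singleton_iff] at hg
  have hvv := TwoFusionB.sq_eq_one_of_inv hv
  have hvi := TwoFusionB.inv_eq_of_inv hv
  set M := normalizer ((zpowers x : Subgroup G) : Set G) with hM
  have hnorm : ∀ m : G, m * x * m⁻¹ = x ∨ m * x * m⁻¹ = x⁻¹ → m ∈ M := fun m hm => by
    have hmap : (zpowers x).map (MulAut.conj m).toMonoidHom = zpowers x := by
      rw [MonoidHom.map_zpowers]
      show zpowers (m * x * m⁻¹) = zpowers x
      rcases hm with e | e <;> rw [e]
      rw [zpowers_inv]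
    exact mem_normalizer_iff_map_conj_eq.2 hmap
  have hwM : w ∈ M := hnorm w (Or.inl (by rw [hwx.eq, mul_inv_cancel_right]))
  have hvM : v ∈ M := hnorm v (Or.inr (by rw [hvi, hvx]))
  have hgM : g ∈ M := hnorm g (Or.inl (by rw [hg, mul_inv_cancel_right]))
  set w' := g * w * g⁻¹ with hw'
  have hw'2 : orderOf w' = 2 := by rw [hw', TwoFusionB.orderOf_conj_eq, hw]
  have hw'c : w' • (g • c) = g • c := by rw [hw', mul_smul, mul_smul, inv_smul_smul, hwc]
  by_contra hgc
  rw [mem_stabilizer_iff] at hgc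
  obtain ⟨m, hm, hmv⟩ := isConj_in hC hwM hw (mul_mem (mul_mem hgM hwM) (inv_mem hgM)) hw'2 hwc
    hw'c (Ne.symm hgc) hwM hw hvM hv
  -- conjugation by `m` sends `x` to a power of `x`, which `w` centralises
  obtain ⟨i, hi⟩ : ∃ i : ℤ, x ^ i = m⁻¹ * x * m :=
    mem_zpowers_iff.1 ((mem_normalizer_iff''.1 hm x).1 (mem_zpowers x))
  have hcom : v * x * v⁻¹ = x := by
    rw [← hmv]
    calc m * w * m⁻¹ * x * (m * w * m⁻¹)⁻¹ = m * (w * (m⁻¹ * x * m) * w⁻¹) * m⁻¹ := by group
      _ = m * (m⁻¹ * x * m) * m⁻¹ := by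
        rw [← hi, (hwx.zpow_right i).eq, mul_inv_cancel_right]
      _ = x := by group
  refine hx1 (RankOne.eq_one_of_mul_self hodd ?_)
  rw [hvi, hvx] at hcom
  nth_rw 1 [← hcom]
  exact inv_mul_cancel x

/-- With an elementary 2-group of order at least eight and one centre `c` acting faithfully on `A`,
every coprime group normalised by `A` fixes `c`. -/
theorem le_stabilizer_of_eight (hC : Ctx H) {s : ℕ} {A E : Subgroup G}
    (h : Weights51.Act s A E) (h8 : 8 ≤ Nat.card E) {c : G ⧸ H} (hEc : ∀ e ∈ E, e • c = c)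
    {R : Subgroup G} (hAR : A ≤ normalizer (R : Set G)) (hR : (Nat.card R).Coprime s) :
    R ≤ stabilizer G c := by
  haveI := Fact.mk h.prime
  obtain ⟨W, hWA, hWc, v, -, w, hwE, hv, hw, hW⟩ := h.exists_plane h8
  haveI : IsMulCommutative W :=
    ⟨⟨fun p q => Subtype.ext (h.comm p (hWA p.2) q (hWA q.2))⟩⟩
  have hWp : IsPGroup s W := fun p => ⟨1, Subtype.ext (by simpa using h.pow p (hWA p.2))⟩
  have hcop : (Nat.card W).Coprime (Nat.card R) := by
    obtain ⟨j, hj⟩ := IsPGroup.iff_card.1 hWp
    rw [hj]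
    exact (Nat.Coprime.pow_right j hR).symm
  refine Coprime.le_of_centralizer_le W R (stabilizer G c) hWc (hWA.trans hAR) hcop fun x hx hx1 => ?_
  have hodd : Odd (orderOf x) :=
    (h.prime.odd_of_ne_two h.odd).of_dvd_nat (orderOf_dvd_of_pow_eq_one (h.pow x (hWA hx)))
  exact inf_le_right.trans (centralizer_le_of_real hC hx1 hodd hv (hW x hx).1 hw (hEc w hwE) (hW x hx).2)

/-- Either `N` has an elementary 2-group of order at least eight with centre `c`, or its elements
of order prime to six in the two-point stabiliser fix `c`. -/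
theorem exists_eight_or_fixes (hC : Ctx H) {N : Subgroup G} (hN : N ≠ ⊤)
    (hR : BenderCons37.RankTwo N) {u : G} {a b c : G ⧸ H} (hu : Swap H u a b c) (huN : u ∈ N)
    {v : G} (hv : v ∈ invAt H a) (hvN : v ∈ N) :
    (∃ E : Subgroup G, E ≤ N ∧ 8 ≤ Nat.card E ∧ (∀ e ∈ E, e * e = 1) ∧ ∀ e ∈ E, e • c = c) ∨
      ∀ y ∈ N ⊓ stab2 a b, (orderOf y).Coprime 6 → y • c = c := by
  classical
  have hu2 := hu.inv
  have huu := TwoFusionB.sq_eq_one_of_inv hu2
  have hui := TwoFusionB.inv_eq_of_inv hu2
  have huc : u • c = c := hu.centre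
  have hba : u • b = a := TwoFusionB.smul_swap hu2 hu.swap
  have hne : c ≠ a := by
    rintro rfl
    exact hu.ne (huc.symm.trans hu.swap)
  set K := (Cfsg.oddCore N).map N.subtype with hK
  set π := QuotientGroup.mk' (Cfsg.oddCore N) with hπ
  have hπK : ∀ (g : G) (hg : g ∈ N), π ⟨g, hg⟩ = 1 → g ∈ K := fun g hg e =>
    ⟨⟨g, hg⟩, (QuotientGroup.eq_one_iff _).1 e, rfl⟩
  have hKfix : K ≤ stabilizer G c := core_fix hC hN huN hu2 hvN hv.1 huc hv.2 hne hR huN hu2 huc
  have hKodd : Odd (Nat.card (Cfsg.oddCore N)) := BenderCons37.oddCore_card_odd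
  -- the images of the involutions at a point commute and square to one
  let T : G ⧸ H → Set (↥N ⧸ Cfsg.oddCore N) := fun p =>
    π '' {n : N | orderOf (n : G) = 2 ∧ (n : G) • p = p}
  have hcomm : ∀ p, ∀ x ∈ T p, ∀ y ∈ T p, Commute x y := by
    rintro p _ ⟨x, ⟨hx2, hxp⟩, rfl⟩ _ ⟨y, ⟨hy2, hyp⟩, rfl⟩
    obtain ⟨k, hk, hke⟩ :=
      commutator_mem hC hN huN hu2 hvN hv.1 huc hv.2 hne hR x.2 hx2 y.2 hy2 hxp hyp
    have hk' : k = x * y * x⁻¹ * y⁻¹ := Subtype.ext hke
    have h1 : π (x * y * x⁻¹ * y⁻¹) = 1 := (QuotientGroup.eq_one_iff _).2 (hk' ▸ hk)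
    rw [map_mul, map_mul, map_mul, map_inv, map_inv, mul_inv_eq_one, mul_inv_eq_iff_eq_mul] at h1
    exact h1
  have hsq : ∀ p, ∀ x ∈ T p, x * x = 1 := by
    rintro p _ ⟨x, ⟨hx2, -⟩, rfl⟩
    rw [← map_mul, Subtype.ext (show ((x * x : N) : G) = ((1 : N) : G) from
      TwoFusionB.sq_eq_one_of_inv hx2), map_one]
  have hne1 : ∀ p, ∀ x ∈ T p, x ≠ 1 := by
    rintro p _ ⟨x, ⟨hx2, -⟩, rfl⟩ e
    refine Nat.not_even_iff_odd.2 hKodd (TwoFusionB.even_card_of_mem_inv ?_
      ((QuotientGroup.eq_one_iff x).1 e))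
    rw [← Subgroup.orderOf_coe, hx2]
  -- moving the images from one centre to another
  have hmove : ∀ (g : N) (p : G ⧸ H), ∀ x ∈ T p, π g * x * (π g)⁻¹ ∈ T ((g : G) • p) := by
    rintro g p _ ⟨x, ⟨hx2, hxp⟩, rfl⟩
    refine ⟨g * x * g⁻¹, ⟨?_, ?_⟩, by rw [map_mul, map_mul, map_inv]⟩
    · push_cast
      rw [TwoFusionB.orderOf_conj_eq, hx2]
    · push_cast
      rw [mul_smul, mul_smul, inv_smul_smul, hxp]
  by_cases hbig : 4 ≤ (T c).ncard
  · refine Or.inl ?_
    -- lift the subgroup generated by the images at `c`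
    set U := closure (T c) with hU
    have hUc : ∀ x ∈ U, ∀ y ∈ U, Commute x y := fun x hx y hy => by
      haveI := isMulCommutative_closure (fun x hx y hy => (hcomm c x hx y hy).eq)
      exact congrArg Subtype.val (mul_comm' (⟨x, hx⟩ : U) ⟨y, hy⟩)
    have hUsq : ∀ x ∈ U, x * x = 1 := by
      intro x hx
      induction hx using closure_induction with
      | mem y hy => exact hsq c y hy
      | one => exact mul_one 1
      | mul y z hy hz h1 h2 =>
        have hyz := hUc y hy z hz
        calc y * z * (y * z) = y * (z * y) * z := by group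
          _ = y * (y * z) * z := by rw [hyz.eq]
          _ = y * y * (z * z) := by group
          _ = 1 := by rw [h1, h2, mul_one]
      | inv y hy h1 =>
        rw [← mul_inv_rev, h1, inv_one]
    haveI : Fact (Nat.Prime 2) := ⟨Nat.prime_two⟩
    have hUp : IsPGroup 2 U := fun x => ⟨1, Subtype.ext (by simpa [pow_two] using hUsq x x.2)⟩
    obtain ⟨j, hj⟩ := IsPGroup.iff_card.1 hUp
    have h5 : 5 ≤ Nat.card U := by
      have hsub : insert 1 (T c) ⊆ (U : Set (↥N ⧸ Cfsg.oddCore N)) :=
        Set.insert_subset (one_mem U) subset_closure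
      have h := Set.ncard_le_ncard hsub (Set.toFinite _)
      rw [Set.ncard_insert_of_notMem (fun h1 => hne1 c 1 h1 rfl) (Set.toFinite _),
        ← Nat.card_coe_set_eq, ← Nat.card_coe_set_eq] at h
      simp only [SetLike.coe_sort_coe] at h
      rw [← Nat.card_coe_set_eq] at hbig
      omega
    have h8 : 8 ≤ Nat.card U := by
      rw [hj] at h5 ⊢
      have hj3 : 3 ≤ j := by
        by_contra hlt
        have := Nat.pow_le_pow_right (show 1 ≤ 2 by norm_num) (show j ≤ 2 by omega)
        omega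
      exact Nat.pow_le_pow_right (show 1 ≤ 2 by norm_num) hj3
    set M := U.comap π with hM
    have hMfix : ∀ m ∈ M, (m : G) • c = c := by
      have hle : U ≤ (((stabilizer G c).subgroupOf N).map π) := by
        rw [hU, closure_le]
        rintro _ ⟨x, ⟨-, hxp⟩, rfl⟩
        exact ⟨x, hxp, rfl⟩
      intro m hm
      obtain ⟨n, hn, hne⟩ := hle (show π m ∈ U from hm)
      have hnm : n⁻¹ * m ∈ Cfsg.oddCore N := QuotientGroup.eq.1 hne
      have h1 : ((n⁻¹ * m : N) : G) • c = c := hKfix ⟨_, hnm, rfl⟩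
      have h2 : (n : G) • c = c := hn
      rw [show (m : G) = (n : G) * ((n⁻¹ * m : N) : G) by push_cast; group, mul_smul, h1, h2]
    have hcardM : Nat.card M = Nat.card U * Nat.card (Cfsg.oddCore N) :=
      Thompson.card_comap_quotient _ _
    obtain ⟨P⟩ := (inferInstance : Nonempty (Sylow 2 M))
    set E := ((P : Subgroup M).map M.subtype).map N.subtype with hE
    have hcardE : Nat.card E = Nat.card U := by
      rw [hE, card_map_of_injective N.subtype_injective, card_map_of_injective M.subtype_injective,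
        P.card_eq_multiplicity, hcardM, hj, Nat.factorization_mul (by positivity) Nat.card_pos.ne',
        Finsupp.add_apply, Nat.Prime.factorization_pow Nat.prime_two, Finsupp.single_eq_same,
        Nat.factorization_eq_zero_of_not_dvd hKodd.not_two_dvd_nat, add_zero]
    refine ⟨E, map_subtype_le _, hcardE.symm ▸ h8, ?_, ?_⟩
    · rintro _ ⟨_, ⟨m, hm, rfl⟩, rfl⟩
      have hmem : (m : N) * m ∈ Cfsg.oddCore N := by
        rw [← QuotientGroup.eq_one_iff]
        show π ((m : N) * m) = 1
        rw [map_mul]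
        exact hUsq _ m.2
      obtain ⟨i, hi⟩ := (Nat.dvd_prime_pow Nat.prime_two).1
        (show orderOf ((m : N) * m) ∣ 2 ^ (Nat.card M).factorization 2 by
          rw [← P.card_eq_multiplicity]
          have : orderOf ((m : N) * m) = orderOf (m * m) :=
            orderOf_injective M.subtype M.subtype_injective (m * m)
          rw [this]
          exact Subgroup.orderOf_dvd_natCard _ (mul_mem hm hm))
      have hodd := RankOne.odd_orderOf_of_mem hKodd hmem
      have hi0 : i = 0 := by
        by_contra hi0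
        refine hodd.not_two_dvd_nat ?_
        rw [hi.2]
        exact dvd_pow_self 2 hi0
      have h1 : (m : N) * m = 1 := orderOf_eq_one_iff.1 (by rw [hi.2, hi0, pow_zero])
      exact congrArg Subtype.val h1
    · rintro _ ⟨_, ⟨m, -, rfl⟩, rfl⟩
      exact hMfix m m.2
  · refine Or.inr fun y hy hy6 => ?_
    obtain ⟨hyN, hyD⟩ := mem_inf.1 hy
    obtain ⟨hya, hyb⟩ := mem_inf.1 hyD
    rw [mem_stabilizer_iff] at hya hyb
    -- an element of order prime to six fixing a point with few images centralises them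
    have hcent : ∀ p, (T p).ncard ≤ 3 → ∀ Y : N, (Y : G) • p = p →
        (orderOf (Y : G)).Coprime 6 → ∀ x ∈ T p, Commute (π Y) x := by
      intro p hp Y hYp hY6
      let σ : Equiv.Perm (T p) := Equiv.ofBijective
        (fun x => ⟨π Y * x.1 * (π Y)⁻¹, by
          have h1 := hmove Y p x.1 x.2
          rwa [hYp] at h1⟩)
        (Finite.injective_iff_bijective.1 fun x x' e =>
          Subtype.ext (mul_left_cancel (mul_right_cancel (congrArg Subtype.val e))))
      have hiter : ∀ (k : ℕ) (x : T p), ((σ ^ k) x).1 = (π Y) ^ k * x.1 * ((π Y) ^ k)⁻¹ := by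
        intro k
        induction k with
        | zero => intro x; simp
        | succ k ih =>
          intro x
          rw [pow_succ, Equiv.Perm.mul_apply, ih]
          show (π Y) ^ k * (π Y * x.1 * (π Y)⁻¹) * ((π Y) ^ k)⁻¹ = _
          rw [pow_succ]; group
      have hd1 : orderOf σ ∣ orderOf (Y : G) := by
        refine orderOf_dvd_of_pow_eq_one (Equiv.ext fun x => Subtype.ext ?_)
        rw [hiter, ← map_pow, show Y ^ orderOf (Y : G) = 1 by
          rw [Subgroup.orderOf_coe]; exact pow_orderOf_eq_one Y, map_one, one_mul, inv_one, mul_one]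
        rfl
      have hd2 : orderOf σ ∣ 6 := by
        haveI := Fintype.ofFinite (T p)
        refine (orderOf_dvd_natCard σ).trans ?_
        rw [Nat.card_eq_fintype_card, Fintype.card_perm, ← Nat.card_eq_fintype_card,
          Nat.card_coe_set_eq]
        exact (Nat.factorial_dvd_factorial hp).trans (by decide)
      have hσ : σ = 1 := orderOf_eq_one_iff.1 (Nat.eq_one_of_dvd_coprimes hY6 hd1 hd2)
      intro x hx
      have h1 := hiter 1 ⟨x, hx⟩
      rw [hσ, one_pow, pow_one] at h1
      show π Y * x = x * π Y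
      exact mul_inv_eq_iff_eq_mul.1 h1.symm
    -- at most three images at `a` and at `b`
    obtain ⟨g₀, hg₀, hg₀a⟩ : ∃ g ∈ N, g • a = c :=
      exists_move_in hC huN hu2 hvN hv.1 huc hv.2 hne hvN hv.1 huN hu2 hv.2 huc
    have hinj : ∀ (g : N) (p q : G ⧸ H), (g : G) • p = q → (T p).ncard ≤ (T q).ncard :=
      fun g p q e => Set.ncard_le_ncard_of_injOn (fun x => π g * x * (π g)⁻¹)
        (fun x hx => e ▸ hmove g p x hx)
        (fun x _ x' _ h => mul_left_cancel (mul_right_cancel h)) (Set.toFinite _)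
    have hsa : (T a).ncard ≤ 3 := by
      have := hinj ⟨g₀, hg₀⟩ a c hg₀a
      omega
    set U' : N := ⟨u, huN⟩ with hU'
    set V : N := ⟨v, hvN⟩ with hV
    set Y : N := ⟨y, hyN⟩ with hY
    have hsb : (T b).ncard ≤ 3 := (hinj U' b a hba).trans hsa
    have hUU : π U' * π U' = 1 := by
      rw [← map_mul, Subtype.ext (show ((U' * U' : N) : G) = ((1 : N) : G) from huu), map_one]
    have hUi : (π U')⁻¹ = π U' := inv_eq_of_mul_eq_one_right hUU
    -- the commutator of `y` and `u`
    set q := π Y * π U' * (π Y)⁻¹ * π U' with hq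
    have hqV : Commute q (π V) := by
      have hVa : π V ∈ T a := ⟨V, hv, rfl⟩
      have h1 : Commute (π Y) (π V) := hcent a hsa Y hya hy6 _ hVa
      have hVb : π U' * π V * π U' ∈ T b := by
        have h2 := hmove U' a (π V) hVa
        rwa [hUi, show (U' : G) • a = b from hu.swap] at h2
      have h2 : Commute (π Y)⁻¹ (π U' * π V * π U') := (hcent b hsb Y hyb hy6 _ hVb).inv_left
      have h3 : Commute (π U' * (π Y)⁻¹ * π U') (π V) := by
        show _ = _
        calc π U' * (π Y)⁻¹ * π U' * π V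
            = π U' * ((π Y)⁻¹ * (π U' * π V * π U')) * (π U')⁻¹ := by group
          _ = π U' * ((π U' * π V * π U') * (π Y)⁻¹) * (π U')⁻¹ := by rw [h2.eq]
          _ = (π U' * π U') * π V * π U' * (π Y)⁻¹ * (π U')⁻¹ := by group
          _ = π V * (π U' * (π Y)⁻¹ * π U') := by rw [hUU, hUi]; group
      have e : q = π Y * (π U' * (π Y)⁻¹ * π U') := by rw [hq]; group
      rw [e]
      exact h1.mul_left h3
    have hqU : π U' * q * (π U')⁻¹ = q⁻¹ := by
      rw [hq, mul_inv_rev, mul_inv_rev, mul_inv_rev, inv_inv, hUi]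
      calc π U' * (π Y * π U' * (π Y)⁻¹ * π U') * π U'
          = π U' * π Y * π U' * (π Y)⁻¹ * (π U' * π U') := by group
        _ = π U' * (π Y * (π U' * (π Y)⁻¹)) := by rw [hUU]; group
    have hqV' : π V * q * (π V)⁻¹ = q := by rw [← hqV.eq, mul_inv_cancel_right]
    -- `v` and `u` are conjugate inside the dihedral group they generate
    obtain ⟨m, hm, hmvu⟩ := RankOne.dihedral_conj (TwoFusionB.sq_eq_one_of_inv hv.1) huu
      (TwoFusionB.odd_orderOf_mul hC.se hv.1 hu2 hv.2 huc hne.symm)
    obtain ⟨k, hk⟩ := (isOfFinOrder_of_finite (v * u)).mem_powers_iff_mem_zpowers.2 hm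
    replace hk : (v * u) ^ k = m := hk
    have hpm : (π (V * U') ^ k) * q * (π (V * U') ^ k)⁻¹ = q ∨
        (π (V * U') ^ k) * q * (π (V * U') ^ k)⁻¹ = q⁻¹ := by
      have hr : π (V * U') * q * (π (V * U'))⁻¹ = q⁻¹ := by
        rw [map_mul, mul_inv_rev]
        calc π V * π U' * q * ((π U')⁻¹ * (π V)⁻¹)
            = π V * (π U' * q * (π U')⁻¹) * (π V)⁻¹ := by group
          _ = (π V * q * (π V)⁻¹)⁻¹ := by rw [hqU]; group
          _ = q⁻¹ := by rw [hqV']
      have hr' : π (V * U') * q⁻¹ * (π (V * U'))⁻¹ = q := by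
        calc _ = (π (V * U') * q * (π (V * U'))⁻¹)⁻¹ := by group
          _ = q := by rw [hr, inv_inv]
      clear hk
      induction k with
      | zero => exact Or.inl (by simp)
      | succ k ih =>
        have e : ∀ z, (π (V * U') ^ (k + 1)) * z * (π (V * U') ^ (k + 1))⁻¹ =
            π (V * U') * ((π (V * U') ^ k) * z * (π (V * U') ^ k)⁻¹) * (π (V * U'))⁻¹ := fun z => by
          rw [pow_succ']; group
        rcases ih with h | h <;> rw [e, h]
        · exact Or.inr hr
        · exact Or.inl hr'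
    set M' := π (V * U') ^ k with hM'
    have hU'eq : π U' = M' * π V * M'⁻¹ := by
      rw [hM', ← map_pow, ← map_inv, ← map_mul, ← map_mul]
      congr 1
      refine Subtype.ext ?_
      push_cast
      exact (hk.symm ▸ hmvu).symm
    have hfix : π U' * q * (π U')⁻¹ = q := by
      rw [hU'eq]
      rcases hpm with h | h
      · have h' : M'⁻¹ * q * M' = q := by nth_rw 1 [← h]; group
        calc M' * π V * M'⁻¹ * q * (M' * π V * M'⁻¹)⁻¹
            = M' * (π V * (M'⁻¹ * q * M') * (π V)⁻¹) * M'⁻¹ := by group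
          _ = q := by rw [h', hqV', h]
      · have h' : M'⁻¹ * q * M' = q⁻¹ := by
          calc M'⁻¹ * q * M' = (M'⁻¹ * q⁻¹ * M')⁻¹ := by group
            _ = (M'⁻¹ * (M' * q * M'⁻¹) * M')⁻¹ := by rw [h]
            _ = q⁻¹ := by group
        calc M' * π V * M'⁻¹ * q * (M' * π V * M'⁻¹)⁻¹
            = M' * (π V * (M'⁻¹ * q * M') * (π V)⁻¹) * M'⁻¹ := by group
          _ = M' * (π V * q⁻¹ * (π V)⁻¹) * M'⁻¹ := by rw [h']
          _ = (M' * (π V * q * (π V)⁻¹) * M'⁻¹)⁻¹ := by group
          _ = q := by rw [hqV', h, inv_inv]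
    -- `q` is the image of an element of the two-point stabiliser, so has odd order
    set Q : N := Y * U' * Y⁻¹ * U' with hQ
    have hqQ : π Q = q := by rw [hQ, hq, map_mul, map_mul, map_mul, map_inv]
    have hQD : (Q : G) ∈ stab2 a b := by
      have hyi : ∀ p : G ⧸ H, y • p = p → y⁻¹ • p = p := fun p h => by
        rw [inv_smul_eq_iff, h]
      refine mem_inf.2 ⟨?_, ?_⟩ <;>
        rw [mem_stabilizer_iff, show (Q : G) = y * u * y⁻¹ * u from rfl, mul_smul, mul_smul, mul_smul]
      · rw [hu.swap, hyi b hyb, hba, hya]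
      · rw [hba, hyi a hya, hu.swap, hyb]
    have hqodd : Odd (orderOf q) := by
      refine (RankOne.odd_orderOf_of_mem (odd_stab2 hC.se hu.ne) hQD).of_dvd_nat ?_
      rw [← hqQ, Subgroup.orderOf_coe]
      exact orderOf_map_dvd π Q
    have hq1 : q = 1 := by
      rw [hqU] at hfix
      refine RankOne.eq_one_of_mul_self hqodd ?_
      nth_rw 1 [← hfix]
      exact inv_mul_cancel q
    have hQc : (y * u * y⁻¹ * u) • c = c :=
      hKfix (hπK (Q : G) Q.2 (hqQ.trans hq1))
    rw [mul_smul, mul_smul, mul_smul, huc, smul_eq_iff_eq_inv_smul] at hQc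
    exact smul_eq_iff_eq_inv_smul y |>.2 (TwoFusionB.fix_unique hC.se hu2 huc hQc)

end Cfsg.Agent.Bender85
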