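import Cfsg.Agent.Bender43.Main
import Cfsg.Agent.BenderCons37.Basic

/-!
Bender's theorem on strongly embedded subgroups, second part: the odd core of the subgroup is
trivial and its involutions commute (see `PLAN.md` in this folder for the notation and the files).
-/

set_option autoImplicit false

namespace Cfsg.Agent.Bender85

open Subgroup MulAction Bender43 Bender43.Fixed

universe u

section

variable {G : Type*} [Group G] (H : Subgroup G)

/-- Any two involutions of `H` commute. -/
def Comm : Prop :=
  ∀ x ∈ H, ∀ y ∈ H, orderOf x = 2 → orderOf y = 2 → Commute x y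

/-- `O(H)`, as a subgroup of `G`, is trivial. -/
def CoreFree : Prop := (Cfsg.oddCore H).map H.subtype = ⊥

/-- The conclusion that is proved by induction. -/
structure Conc : Prop where
  comm : Comm H
  core : CoreFree H

end

/-- The conclusion for all smaller groups. -/
def Below (n : ℕ) : Prop :=
  ∀ (L : Type u) [Group L] [Finite L], Nat.card L < n → ∀ M : Subgroup L,
    Cfsg.IsStronglyEmbedded M → BenderCons37.RankTwo L → Cfsg.oddCore L = ⊥ → Conc M

/-- The standing hypotheses. -/
structure Ctx {G : Type u} [Group G] (H : Subgroup G) : Prop where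
  fin : Finite G
  se : Cfsg.IsStronglyEmbedded H
  rank : BenderCons37.RankTwo G
  core : Cfsg.oddCore G = ⊥
  below : Below.{u} (Nat.card G)

variable {G : Type u} [Group G] (H : Subgroup G)

/-- The involutions fixing the point `c`. -/
def invAt (c : G ⧸ H) : Set G := {v | orderOf v = 2 ∧ v • c = c}

/-- `v` is an involution exchanging `a` and `b`, with centre `c`. -/
structure Swap (v : G) (a b c : G ⧸ H) : Prop where
  inv : orderOf v = 2
  ne : a ≠ b
  swap : v • a = b
  centre : v • c = c

/-- `X` fixes three distinct points. -/
def ThreeFix (X : Subgroup G) : Prop :=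
  ∃ a ∈ fixSet H X, ∃ b ∈ fixSet H X, ∃ c ∈ fixSet H X, a ≠ b ∧ a ≠ c ∧ b ≠ c

/-- A `r`-subgroup of a two-point stabiliser of largest order fixes just the two points. -/
def ExactPrime (r : ℕ) : Prop :=
  ∀ (a b : G ⧸ H), a ≠ b → ∀ T : Sylow r (stab2 a b : Subgroup G),
    fixSet H ((T : Subgroup (stab2 a b : Subgroup G)).map (stab2 a b).subtype) = {a, b}

/-- Some abelian normal `r`-subgroup of a two-point stabiliser fixes just the two points. -/
def ExactAbelian (r : ℕ) : Prop :=
  ∀ (a b : G ⧸ H), a ≠ b → ∃ A : Subgroup G, A ≤ stab2 a b ∧ IsPGroup r A ∧ IsMulCommutative A ∧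
    stab2 a b ≤ normalizer (A : Set G) ∧ fixSet H A = {a, b}

/-- An involution normalising an `r`-group with at least three fixed points, whose centre is one of
them, centralises that group. -/
def GoodAt (r : ℕ) : Prop :=
  ∀ X : Subgroup G, IsPGroup r X → ThreeFix H X → ∀ v : G, orderOf v = 2 →
    v ∈ normalizer (X : Set G) → (∃ c ∈ fixSet H X, v • c = c) →
    v ∈ centralizer (X : Set G)

/-- Every fixed point of an `r`-group with at least three fixed points is the centre of an
involution centralising the group. -/
def CentredAt (r : ℕ) : Prop :=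
  ∀ X : Subgroup G, IsPGroup r X → ThreeFix H X → ∀ c ∈ fixSet H X,
    ∃ v : G, orderOf v = 2 ∧ v • c = c ∧ v ∈ centralizer (X : Set G)

/-- No odd element other than `1` is inverted by an involution and fixes the centre of that
involution and another point. -/
def NoRealFixed : Prop :=
  ∀ (v x : G) (a b c : G ⧸ H), Swap H v a b c → x • a = a → x • b = b → x • c = c →
    v * x * v = x⁻¹ → x = 1

/-- A non-trivial subgroup of `G_ab` normalised by `G_ab` and by a swapper of `a` and `b` has no
further fixed point. -/
def OpenCore : Prop :=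
  ∀ (v : G) (a b c : G ⧸ H), Swap H v a b c → ∀ X : Subgroup G, X ≤ stab2 a b → X ≠ ⊥ →
    stab2 a b ≤ normalizer (X : Set G) → v ∈ normalizer (X : Set G) → fixSet H X = {a, b}

end Cfsg.Agent.Bender85
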