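import Cfsg.Agent.Bender85.L0
import Cfsg.Agent.Bender85.Local

/-!
Real elements of two-point stabilisers beside an exact abelian prime (`NONCORE.md`, (S1) and (S2)):
they centralise the `O_s`, have odd centraliser, and consequently the involutions of a proper
subgroup of rank two with two centres centralise its odd core.
-/

set_option autoImplicit false

namespace Cfsg.Agent.Bender85

open Subgroup MulAction Bender43 Bender43.Fixed

universe u

variable {G : Type u} [Group G] [Finite G] {H : Subgroup G}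

omit [Finite G] in
theorem Swap.ne_left {v : G} {a b c : G ⧸ H} (hs : Swap H v a b c) : c ≠ a := by
  rintro rfl
  exact hs.ne (hs.centre.symm.trans hs.swap)

omit [Finite G] in
theorem Swap.ne_right {v : G} {a b c : G ⧸ H} (hs : Swap H v a b c) : c ≠ b := by
  rintro rfl
  exact hs.ne (smul_left_cancel v (hs.swap.trans hs.centre.symm))

/-- Conjugation by a swapper, on the two-point stabiliser. -/
noncomputable def conjStab2 {v : G} {a b : G ⧸ H} (hv : orderOf v = 2) (hab : v • a = b) :
    stab2 a b →* stab2 a b :=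
  MonoidHom.mk' (fun d => ⟨v * d * v⁻¹, conj_mem_stab2 hv hab d.2⟩) fun d e => by
    refine Subtype.ext ?_
    show v * ((d : G) * e) * v⁻¹ = v * d * v⁻¹ * (v * e * v⁻¹)
    group

omit [Finite G] in
theorem conjStab2_coe {v : G} {a b : G ⧸ H} (hv : orderOf v = 2) (hab : v • a = b)
    (d : stab2 a b) : (conjStab2 hv hab d : G) = v * d * v := by
  show v * (d : G) * v⁻¹ = v * d * v
  rw [TwoFusionB.inv_eq_of_inv hv]

omit [Finite G] in
/-- A swapper centralises an `s`-group of three point stabiliser elements normalised by it. -/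
theorem swap_centralizes {s : ℕ} (hG : GoodAt H s) {u : G} {a b c : G ⧸ H} (hu : Swap H u a b c)
    {Y : Subgroup G} (hY : IsPGroup s Y) (hYD : Y ≤ stab2 a b ⊓ stabilizer G c)
    (huY : u ∈ normalizer (Y : Set G)) : u ∈ centralizer (Y : Set G) :=
  hG Y hY ⟨a, fun _ ht => (mem_inf.1 (mem_inf.1 (hYD ht)).1).1,
    b, fun _ ht => (mem_inf.1 (mem_inf.1 (hYD ht)).1).2, c, fun _ ht => (mem_inf.1 (hYD ht)).2,
    hu.ne, hu.ne_left.symm, hu.ne_right.symm⟩ u hu.inv huY
    ⟨c, fun _ ht => (mem_inf.1 (hYD ht)).2, hu.centre⟩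

/-- An element inverted by a swapper and fixing its centre centralises `O_s` of the two-point
stabiliser, for a good prime `s`. -/
theorem real_centralizes (hC : Ctx H) {s : ℕ} (hs : s.Prime) (hG : GoodAt H s) {u : G}
    {a b c : G ⧸ H} (hu : Swap H u a b c) {x : G} (hx : x ∈ stab2 a b) (hxc : x • c = c)
    (hxu : u * x * u = x⁻¹) :
    x ∈ centralizer ((op s (stab2 a b) : Subgroup G) : Set G) := by
  have : Fact s.Prime := ⟨hs⟩
  set D := stab2 a b with hD
  have hodd : Odd (Nat.card D) := odd_stab2 hC.se hu.ne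
  have huu : u * u = 1 := TwoFusionB.sq_eq_one_of_inv hu.inv
  have hui : u⁻¹ = u := TwoFusionB.inv_eq_of_inv hu.inv
  by_cases hs2 : s = 2
  · subst hs2
    rw [mem_centralizer_iff]
    intro y hy
    obtain ⟨k, hk⟩ := (op_isPGroup 2 D) ⟨y, hy⟩
    have hd := Nat.dvd_gcd (orderOf_dvd_natCard (⟨y, op_le 2 D hy⟩ : D))
      (orderOf_dvd_of_pow_eq_one (show (⟨y, op_le 2 D hy⟩ : D) ^ 2 ^ k = 1 from
        Subtype.ext (by simpa using congrArg Subtype.val hk)))
    rw [Nat.Coprime.pow_right k (Nat.coprime_two_right.2 hodd), Nat.dvd_one, orderOf_eq_one_iff]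
      at hd
    rw [show y = 1 from congrArg Subtype.val hd, one_mul, mul_one]
  set α := conjStab2 hu.inv hu.swap with hαdef
  have hα : ∀ d, α (α d) = d := fun d => Subtype.ext (by
    rw [conjStab2_coe, conjStab2_coe]
    calc u * (u * (d : G) * u) * u = (u * u) * d * (u * u) := by group
      _ = d := by rw [huu]; group)
  set x' : D := ⟨x, hx⟩ with hx'
  have hαx : α x' = x'⁻¹ := Subtype.ext (by rw [conjStab2_coe]; exact hxu)
  have hcz : ∀ z ∈ stabilizer G c, u * z * u⁻¹ ∈ stabilizer G c := fun z hz => by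
    rw [mem_stabilizer_iff, mul_smul, mul_smul, inv_smul_eq_iff.2 hu.centre.symm,
      mem_stabilizer_iff.1 hz, hu.centre]
  set Y := op s D ⊓ stabilizer G c with hY
  have huY : u ∈ centralizer (Y : Set G) := by
    refine swap_centralizes hG hu ((op_isPGroup s D).to_le inf_le_left)
      (inf_le_inf_right _ (op_le s D)) (mem_normalizer_of_conj hu.inv fun g hg => mem_inf.2
        ⟨(mem_normalizer_iff.1 (OddLocal43.normalizes_map_characteristic (Cfsg.pCore s D)
          (norm_stab2 hu.inv hu.swap)) g).1 (mem_inf.1 hg).1, hcz g (mem_inf.1 hg).2⟩)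
  have hfixed : ∀ y ∈ Cfsg.pCore s D, α y = y → Commute x' y := by
    intro y hy hyα
    have hyu : u * y * u = y := by rw [← conjStab2_coe hu.inv hu.swap]; exact congrArg Subtype.val hyα
    have hyc : (y : G) • c = c := by
      refine TwoFusionB.fix_unique hC.se hu.inv (x := (y : G) • c) ?_ hu.centre
      have e : u * (y : G) = y * u := by
        calc u * (y : G) = u * y * u * u := by rw [mul_assoc _ u u, huu, mul_one]
          _ = y * u := by rw [hyu]
      rw [smul_smul, e, ← smul_smul, hu.centre]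
    refine Inverted.commute_of_conj_eq hodd ?_
    have hz : x' * y * x'⁻¹ ∈ Cfsg.pCore s D :=
      (inferInstance : (Cfsg.pCore s D).Normal).conj_mem y hy x'
    have hzY : x * y * x⁻¹ ∈ Y := by
      refine mem_inf.2 ⟨Subgroup.mem_map_of_mem D.subtype hz, ?_⟩
      rw [mem_stabilizer_iff, mul_smul, mul_smul, inv_smul_eq_iff.2 hxc.symm, hyc, hxc]
    have hzu := mem_centralizer_iff.1 huY _ hzY
    refine Subtype.ext ?_
    push_cast
    show x * y * x⁻¹ = x⁻¹ * y * x
    symm
    calc x⁻¹ * y * x = u * x * u * y * (u * x * u)⁻¹ := by rw [hxu, inv_inv]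
      _ = u * x * (u * y * u) * x⁻¹ * u := by rw [mul_inv_rev, mul_inv_rev, hui]; group
      _ = u * (x * y * x⁻¹) * u := by rw [hyu]; group
      _ = x * y * x⁻¹ * (u * u) := by rw [← hzu]; group
      _ = _ := by rw [huu, mul_one]
  have hcop : (orderOf x').Coprime s := by
    refine (hs.coprime_iff_not_dvd.2 fun hdvd => ?_).symm
    set n := orderOf x' / s with hn
    have ho : orderOf (x' ^ n) = s := orderOf_pow_orderOf_div (orderOf_pos x').ne' hdvd
    set z := x ^ n with hz
    have hzo : orderOf z = s := by rw [← ho, ← Subgroup.orderOf_coe, hz]; rfl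
    have hzinv : u * z * u = z⁻¹ := by
      rw [hz, ← inv_pow, ← hxu]
      have h : u * x * u = u * x * u⁻¹ := by rw [hui]
      rw [h, conj_pow, hui]
    have hzmem : z ∈ stab2 a b ⊓ stabilizer G c :=
      mem_inf.2 ⟨pow_mem hx n, pow_mem (mem_stabilizer_iff.2 hxc) n⟩
    have hp : IsPGroup s (zpowers z) := IsPGroup.of_card (n := 1) (by
      rw [Nat.card_zpowers, hzo, pow_one])
    have hnorm : u ∈ normalizer (zpowers z : Set G) := by
      refine mem_normalizer_of_conj hu.inv fun g hg => ?_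
      obtain ⟨k, rfl⟩ := hg
      rw [← conj_zpow, hui, hzinv]
      exact zpow_mem (inv_mem (mem_zpowers z)) k
    have hc := mem_centralizer_iff.1
      (swap_centralizes hG hu hp (zpowers_le.2 hzmem) hnorm) z (mem_zpowers z)
    rw [← hc, mul_assoc, huu, mul_one, eq_inv_iff_mul_eq_one] at hzinv
    have h2 : orderOf z ∣ 2 := orderOf_dvd_of_pow_eq_one (by rw [pow_two, hzinv])
    rw [hzo] at h2
    exact hs2 ((Nat.prime_dvd_prime_iff_eq hs Nat.prime_two).1 h2)
  have hcen := Inverted.mem_centralizer_of_stab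
    (Inverted.mem_stab hs2 hodd α hα hαx hfixed) hcop
  rw [mem_centralizer_iff]
  rintro _ ⟨y, hy, rfl⟩
  exact congrArg Subtype.val (mem_centralizer_iff.1 hcen y hy)

omit [Finite G] in
/-- Beside an exact abelian prime, `O_s` of a two-point stabiliser moves every other point. -/
theorem exists_move_core {s : ℕ} (hA : ExactAbelian H s) {a b c : G ⧸ H} (hab : a ≠ b)
    (hca : c ≠ a) (hcb : c ≠ b) : ∃ y ∈ op s (stab2 a b), y • c ≠ c := by
  by_contra hall
  push Not at hall
  obtain ⟨A, hAD, hAp, -, hAn, hfix⟩ := hA a b hab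
  have hc : c ∈ fixSet H A := fun t ht => hall t (le_op hAD hAn hAp ht)
  rw [hfix] at hc
  rcases hc with h | h
  · exact hca h
  · exact hcb h

/-- A non-trivial element inverted by a swapper and fixing its centre has odd centraliser, when
there is a good exact abelian prime. -/
theorem odd_centralizer (hC : Ctx H) {s : ℕ} (hs : s.Prime) (hA : ExactAbelian H s)
    (hG : GoodAt H s) {u : G} {a b c : G ⧸ H} (hu : Swap H u a b c) {x : G}
    (hx : x ∈ stab2 a b) (hxc : x • c = c) (hxu : u * x * u = x⁻¹) (hx1 : x ≠ 1) :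
    Odd (Nat.card (centralizer ({x} : Set G))) := by
  refine odd_of_no_inv fun t ht ht2 => ?_
  have hxodd : Odd (orderOf x) :=
    RankOne.odd_orderOf_of_mem (odd_stab2 hC.se hu.ne) hx
  set N := normalizer (zpowers x : Set G) with hN
  have hNtop : N ≠ ⊤ := by
    intro htop
    have : (zpowers x).Normal := normalizer_eq_top_iff.1 htop
    have hle : zpowers x ≤ Cfsg.oddCore G :=
      Thompson.le_pPrimeCore this (Nat.coprime_two_right.2 (by rwa [Nat.card_zpowers]))
    rw [hC.core, le_bot_iff, zpowers_eq_bot] at hle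
    exact hx1 hle
  have hcent : ∀ g ∈ centralizer ({x} : Set G), g ∈ N := fun g hg =>
    centralizer_le_normalizer _ (by rwa [zpowers_eq_closure, centralizer_closure])
  have huN : u ∈ N := by
    refine mem_normalizer_of_conj hu.inv fun g hg => ?_
    obtain ⟨k, rfl⟩ := hg
    rw [← conj_zpow, TwoFusionB.inv_eq_of_inv hu.inv, hxu]
    exact zpow_mem (inv_mem (mem_zpowers x)) k
  have hall : ∀ e ∈ centralizer ({x} : Set G), orderOf e = 2 → e • c = c := by
    intro e he he2
    obtain ⟨d, hd⟩ := TwoFusionB.exists_fix hC.se he2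
    by_contra hec
    have hne : c ≠ d := fun h => hec (h ▸ hd)
    obtain ⟨g, hg, hge⟩ := isConj_in hC huN hu.inv (hcent e he) he2 hu.centre hd hne
      (hcent e he) he2 huN hu.inv
    have hcomm : Commute e (g⁻¹ * x * g) := by
      obtain ⟨k, hk⟩ := (mem_normalizer_iff''.1 hg x).1 (mem_zpowers x)
      simp only at hk
      rw [← hk]
      exact (show Commute e x from mem_centralizer_singleton_iff.1 he).zpow_right k
    have hux : u * x = x * u := by
      calc u * x = g * (e * (g⁻¹ * x * g)) * g⁻¹ := by rw [← hge]; group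
        _ = g * ((g⁻¹ * x * g) * e) * g⁻¹ := by rw [hcomm.eq]
        _ = x * u := by rw [← hge]; group
    rw [hux, mul_assoc, TwoFusionB.sq_eq_one_of_inv hu.inv, mul_one,
      eq_inv_iff_mul_eq_one] at hxu
    have h2 : orderOf x ∣ 2 := orderOf_dvd_of_pow_eq_one (by rw [pow_two, hxu])
    rcases (Nat.dvd_prime Nat.prime_two).1 h2 with h | h
    · exact hx1 (orderOf_eq_one_iff.1 h)
    · rw [h] at hxodd; exact absurd hxodd (by decide)
  obtain ⟨y, hy, hyc⟩ := exists_move_core hA hu.ne hu.ne_left hu.ne_right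
  have hyx : y ∈ centralizer ({x} : Set G) :=
    mem_centralizer_singleton_iff.2
      (mem_centralizer_iff.1 (real_centralizes hC hs hG hu hx hxc hxu) y hy)
  refine hyc (TwoFusionB.fix_unique hC.se ((TwoFusionB.orderOf_conj_eq y t).trans ht2)
    (x := y • c) ?_ (hall _ (mul_mem (mul_mem hyx ht) (inv_mem hyx))
      ((TwoFusionB.orderOf_conj_eq y t).trans ht2)))
  rw [mul_smul, mul_smul, inv_smul_smul, hall t ht ht2]

/-- No non-trivial subgroup generated by real elements is normalised by a four-group with the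
same centre. -/
theorem closure_real_eq_bot (hC : Ctx H) {s : ℕ} (hs : s.Prime) (hA : ExactAbelian H s)
    (hG : GoodAt H s) {u : G} {a b c : G ⧸ H} (hu : Swap H u a b c) {T : Set G}
    (hT : ∀ x ∈ T, x ∈ stab2 a b ∧ x • c = c ∧ u * x * u = x⁻¹) {e f : G} (he : e ∈ invAt H c)
    (hf : f ∈ invAt H c) (hne : e ≠ f) (hef : Commute e f)
    (heT : e ∈ normalizer ((closure T : Subgroup G) : Set G))
    (hfT : f ∈ normalizer ((closure T : Subgroup G) : Set G)) : closure T = ⊥ := by
  rw [closure_eq_bot_iff]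
  intro x hx
  by_contra hx1
  obtain ⟨hxD, hxc, hxu⟩ := hT x hx
  set K := closure T with hK
  have hle : centralizer (K : Set G) ≤ centralizer ({x} : Set G) :=
    centralizer_le (Set.singleton_subset_iff.2 (subset_closure hx))
  have hnorm : ∀ g ∈ normalizer (K : Set G), g ∈ normalizer (centralizer (K : Set G) : Set G) :=
    fun g hg => Coprime.le_normalizer_centralizer (A := normalizer (K : Set G)) le_rfl hg
  have hfix : centralizer (K : Set G) ≤ stabilizer G c :=
    le_stabilizer_of_four hC he hf hne hef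
      ((odd_centralizer hC hs hA hG hu hxD hxc hxu hx1).of_dvd_nat (card_dvd_of_le hle))
      (hnorm e heT) (hnorm f hfT)
  obtain ⟨y, hy, hyc⟩ := exists_move_core hA hu.ne hu.ne_left hu.ne_right
  refine hyc (mem_stabilizer_iff.1 (hfix ?_))
  rw [hK, centralizer_closure, mem_centralizer_iff]
  intro z hz
  obtain ⟨hzD, hzc, hzu⟩ := hT z hz
  exact (mem_centralizer_iff.1 (real_centralizes hC hs hG hu hzD hzc hzu) y hy).symm

/-- The involutions of a proper subgroup of rank two with two centres centralise its odd core. -/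
theorem centralizes_core (hC : Ctx H) {s : ℕ} (hs : s.Prime) (hA : ExactAbelian H s)
    (hG : GoodAt H s) {N : Subgroup G} (hN : N ≠ ⊤) (hR : BenderCons37.RankTwo N)
    {v w : G} (hv : v ∈ N) (hv2 : orderOf v = 2) (hw : w ∈ N) (hw2 : orderOf w = 2)
    {cv cw : G ⧸ H} (hvc : v • cv = cv) (hwc : w • cw = cw) (hne : cv ≠ cw)
    {t : G} (ht : t ∈ N) (ht2 : orderOf t = 2) :
    t ∈ centralizer (((Cfsg.oddCore N).map N.subtype : Subgroup G) : Set G) := by
  set K := (Cfsg.oddCore N).map N.subtype with hK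
  have htt : t * t = 1 := TwoFusionB.sq_eq_one_of_inv ht2
  have hti : t⁻¹ = t := TwoFusionB.inv_eq_of_inv ht2
  obtain ⟨c, hc⟩ := TwoFusionB.exists_fix hC.se ht2
  -- another centre `a`, and its image
  obtain ⟨z, hz, hz2, a, hza, hca⟩ : ∃ z ∈ N, orderOf z = 2 ∧ ∃ a, z • a = a ∧ c ≠ a := by
    by_cases h : c = cv
    · exact ⟨w, hw, hw2, cw, hwc, h ▸ hne⟩
    · exact ⟨v, hv, hv2, cv, hvc, h⟩
  have hta : a ≠ t • a := fun e => hca (TwoFusionB.fix_unique hC.se ht2 hc e.symm)
  have hu : Swap H t a (t • a) c := ⟨ht2, hta, rfl, hc⟩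
  have hKz : ∀ {y : G} {d : G ⧸ H}, y ∈ N → orderOf y = 2 → y • d = d → K ≤ stabilizer G d :=
    fun hy hy2 hyd => core_fix hC hN hv hv2 hw hw2 hvc hwc hne hR hy hy2 hyd
  have hKD : K ≤ stab2 a (t • a) :=
    le_inf (hKz hz hz2 hza) (hKz (y := t * z * t⁻¹) (mul_mem (mul_mem ht hz) (inv_mem ht))
      (by rw [TwoFusionB.orderOf_conj_eq, hz2])
      (by rw [mul_smul, mul_smul, inv_smul_smul, hza]))
  -- a four-group at `c`
  obtain ⟨p, q, hp, hq, hpq, hpp, hqq, hcom⟩ := hR
  obtain ⟨g, hg, hgp⟩ := isConj_in hC hv hv2 hw hw2 hvc hwc hne p.2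
    ((orderOf_coe p).trans (BenderCons37.orderOf_eq_two hp hpp)) ht ht2
  set f := g * q * g⁻¹ with hf
  have hf2 : orderOf f = 2 := by
    rw [hf, TwoFusionB.orderOf_conj_eq, orderOf_coe]; exact BenderCons37.orderOf_eq_two hq hqq
  have htf : Commute t f := by
    have h : Commute (p : G) q := congrArg Subtype.val hcom
    show t * f = f * t
    rw [← hgp, hf]
    calc g * p * g⁻¹ * (g * q * g⁻¹) = g * (p * q) * g⁻¹ := by group
      _ = g * (q * p) * g⁻¹ := by rw [h.eq]
      _ = _ := by group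
  have hfc : f • c = c :=
    TwoFusionB.fix_unique hC.se ht2 (by rw [smul_smul, htf.eq, ← smul_smul, hc]) hc
  have hne' : t ≠ f := fun e => hpq (Subtype.ext (by
    rw [← hgp, hf] at e
    exact mul_left_cancel (mul_right_cancel e)))
  set T : Set G := {x | x ∈ K ∧ t * x * t = x⁻¹} with hT
  have hnT : N ⊓ centralizer ({t} : Set G) ≤ normalizer ((closure T : Subgroup G) : Set G) := by
    refine le_normalizer_closure fun d hd x hx => ⟨?_, ?_⟩
    · exact (mem_normalizer_iff.1 (le_normalizer_map_subtype (Cfsg.oddCore N) (mem_inf.1 hd).1)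
        x).1 hx.1
    · have h1 : d * t = t * d := mem_centralizer_singleton_iff.1 (mem_inf.1 hd).2
      calc t * (d * x * d⁻¹) * t = (t * d) * x * (t⁻¹ * d)⁻¹ := by group
        _ = (d * t) * x * (t * d)⁻¹ := by rw [h1, hti]
        _ = (d * t) * x * (d * t)⁻¹ := by rw [h1]
        _ = d * (t * x * t) * d⁻¹ := by rw [mul_inv_rev, hti]; group
        _ = (d * x * d⁻¹)⁻¹ := by rw [hx.2]; group
  have hbot := closure_real_eq_bot hC hs hA hG hu (T := T)
    (fun x hx => ⟨hKD hx.1, mem_stabilizer_iff.1 (hKz ht ht2 hc hx.1), hx.2⟩)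
    ⟨ht2, hc⟩ ⟨hf2, hfc⟩ hne' htf
    (hnT (mem_inf.2 ⟨ht, mem_centralizer_singleton_iff.2 rfl⟩))
    (hnT (mem_inf.2 ⟨mul_mem (mul_mem hg q.2) (inv_mem hg),
      mem_centralizer_singleton_iff.2 htf.eq.symm⟩))
  rw [mem_centralizer_iff]
  intro k hk
  have hk' : t * k * t⁻¹ ∈ K :=
    (mem_normalizer_iff.1 (le_normalizer_map_subtype (Cfsg.oddCore N) ht) k).1 hk
  rw [hti] at hk'
  have hmem : k⁻¹ * (t * k * t) ∈ T := by
    refine ⟨mul_mem (inv_mem hk) hk', ?_⟩
    calc t * (k⁻¹ * (t * k * t)) * t = (t * k⁻¹ * t) * k * (t * t) := by group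
      _ = (k⁻¹ * (t * k * t))⁻¹ := by rw [htt, mul_inv_rev, mul_inv_rev, mul_inv_rev, hti]; group
  have h1 : k⁻¹ * (t * k * t) = 1 := mem_bot.1 (hbot ▸ subset_closure hmem)
  have h2 : k = t * k * t := inv_mul_eq_one.1 h1
  calc k * t = t * k * t * t := by rw [← h2]
    _ = t * k := by rw [mul_assoc _ t t, htt, mul_one]

/-- The same for a proper subgroup in which the trace of `H` is strongly embedded. -/
theorem centralizes_core_of_stronglyEmbedded (hC : Ctx H) {s : ℕ} (hs : s.Prime)
    (hA : ExactAbelian H s) (hG : GoodAt H s) {N : Subgroup G} (hN : N ≠ ⊤)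
    (hse : Cfsg.IsStronglyEmbedded (H.subgroupOf N)) (hR : BenderCons37.RankTwo N) {t : G}
    (ht : t ∈ N) (htH : t ∈ H) (ht2 : orderOf t = 2) :
    t ∈ centralizer (((Cfsg.oddCore N).map N.subtype : Subgroup G) : Set G) := by
  obtain ⟨g, hg⟩ : ∃ g : N, (g : G) ∉ H := by
    by_contra hall
    push Not at hall
    exact hse.1 (subgroupOf_eq_top.2 fun g hg => hall ⟨g, hg⟩)
  have htc : t • (QuotientGroup.mk 1 : G ⧸ H) = QuotientGroup.mk 1 :=
    TwoFusionB.smul_one_eq_iff.2 htH
  exact centralizes_core hC hs hA hG hN hR ht ht2 (mul_mem (mul_mem g.2 ht) (inv_mem g.2))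
    ((TwoFusionB.orderOf_conj_eq (g : G) t).trans ht2) htc
    (by rw [mul_smul, mul_smul, inv_smul_smul, htc])
    (fun e => hg (TwoFusionB.smul_one_eq_iff.1 e.symm)) ht ht2

end Cfsg.Agent.Bender85
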