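import Cfsg.Agent.Bender85.Exact.Cases
import Cfsg.Agent.Bender85.OpenCore
import Cfsg.Agent.Bender85.Real

/-!
The exact prime theorem of Bender's reduction (`NONCORE.md`): if some abelian normal `s`-subgroup of
a two-point stabiliser fixes just the two points, the involutions of `H` commute.
-/

set_option autoImplicit false
set_option linter.style.haveILetI false

namespace Cfsg.Agent.Bender85

open Subgroup MulAction Bender43 Bender43.Fixed
open Cfsg.Agent.BenderCore74 (base mem_stab_base stab2_le)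
open Cfsg.Agent.TwoFusionB (fix_unique exists_fix inv_eq_of_inv sq_eq_one_of_inv)

universe u

variable {G : Type u} [Group G] [Finite G] {H : Subgroup G}

/-- With an exact abelian prime, the involutions of a proper subgroup at the base point commute. -/
theorem commute_in_of_exact (hC : Ctx H) {s : ℕ} (hs : s.Prime) (hA : ExactAbelian H s)
    (hG : GoodAt H s) (L : Subgroup G) (hL : L ≠ ⊤) (hLH : ¬ L ≤ H)
    (h2 : BenderCons37.RankTwo L) (v v' : G) (hvL : v ∈ L) (hv'L : v' ∈ L) (hv : orderOf v = 2)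
    (hv' : orderOf v' = 2) (hvb : v • base H = base H) (hv'b : v' • base H = base H) :
    Commute v v' := by
  have hvH := mem_stab_base.1 hvb
  have hse := BenderCons37.stronglyEmbedded_subgroupOf hC.se hLH hvL hvH hv
  have hmem := commutator_mem_oddCore hC L hL hse h2 ⟨v, hvL⟩ ⟨v', hv'L⟩
    (by rw [orderOf_mk, hv]) (by rw [orderOf_mk, hv']) (mem_subgroupOf.2 hvH)
    (mem_subgroupOf.2 (mem_stab_base.1 hv'b))
  set x := v * v' with hx
  have hcen : Commute v (x * x) := (mem_centralizer_iff.1
    (centralizes_core_of_stronglyEmbedded hC hs hA hG hL hse h2 hvL hvH hv) (x * x)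
    ⟨_, hmem, rfl⟩).symm
  have hw : Odd (orderOf (x * x)) := by
    have h := BenderCons37.oddCore_card_odd.of_dvd_nat (Subgroup.orderOf_dvd_natCard _ hmem)
    rw [← Subgroup.orderOf_coe] at h
    exact h
  have hinv : v * (x * x) * v⁻¹ = (x * x)⁻¹ := by
    rw [hx, inv_eq_of_inv hv, mul_inv_rev, mul_inv_rev, inv_eq_of_inv hv, inv_eq_of_inv hv',
      show v * (v * v' * (v * v')) * v = v * v * (v' * v * (v' * v)) by group,
      sq_eq_one_of_inv hv, one_mul]
  rw [hcen.eq, mul_inv_cancel_right] at hinv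
  have hxx : x * x = 1 :=
    RankOne.eq_one_of_mul_self hw (mul_eq_one_iff_eq_inv.2 hinv)
  show v * v' = v' * v
  calc v * v' = x⁻¹ := eq_inv_of_mul_eq_one_left hxx
    _ = v' * v := by rw [hx, mul_inv_rev, inv_eq_of_inv hv, inv_eq_of_inv hv']

/-- The exact prime theorem. The last hypothesis is the centraliser step for the primes other
than `s`. -/
theorem comm_of_exactPrime (hC : Ctx H) {s : ℕ} (hs : s.Prime) (hA : ExactAbelian H s)
    (hG : GoodAt H s) (hCen : CentredAt H s)
    (hnormal : ∀ (v : G) (a b c : G ⧸ H), Swap H v a b c → ∀ X : Subgroup G, X ≠ ⊥ →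
      X ≤ stab2 a b → stab2 a b ≤ normalizer (X : Set G) → v ∈ normalizer (X : Set G) →
      ∀ t ∈ invAt H a, t ∈ normalizer (X : Set G) → Comm H)
    (hGood : ∀ b : G ⧸ H, base H ≠ b → ∀ (z e : G) (p : ℕ), orderOf z = 2 →
      z • base H = base H → p.Prime → p ≠ s → e ∈ stab2 (base H) b → orderOf e = p → Commute e z →
      (∃ f ∈ stab2 (base H) b, f ≠ 1 ∧ (∀ x ∈ op s (stab2 (base H) b), Commute x f) ∧
        Commute f e) →
      ¬ centralizer ({e} : Set G) ≤ H ∧ BenderCons37.RankTwo (centralizer ({e} : Set G))) :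
    Comm H := by
  by_contra hcomm
  apply hcomm
  haveI := Fact.mk hs
  obtain ⟨b, hab⟩ := TwoFusionB.exists_ne_coset hC.se (base H)
  obtain ⟨A, hAD, hAp, -, hAn, hfixA⟩ := hA (base H) b hab
  have hAS : A ≤ op s (stab2 (base H) b) := le_op hAD hAn hAp
  have hfix : ∀ p : G ⧸ H, (∀ x ∈ op s (stab2 (base H) b), x • p = p) → p = base H ∨ p = b := by
    intro p hp
    have hpA : p ∈ fixSet H A := fun t ht => hp t (hAS ht)
    rw [hfixA] at hpA
    exact hpA
  have hne : op s (stab2 (base H) b) ≠ ⊥ := by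
    intro h
    obtain ⟨v, hv, hvb⟩ := TwoFusionB.exists_moveInv hC.se hab
    obtain ⟨c, hc⟩ := exists_fix hC.se hv
    have hsw : Swap H v (base H) b c := ⟨hv, hab, hvb, hc⟩
    rcases hfix c (fun x hx => by rw [h, mem_bot] at hx; rw [hx, one_smul]) with e | e
    · exact hsw.ne_left e
    · exact hsw.ne_right e
  have hcentre : ∀ X : Subgroup G, IsPGroup s X → X ≤ stab2 (base H) b →
      (∃ p : G ⧸ H, p ≠ base H ∧ p ≠ b ∧ p ∈ fixSet H X) → ∀ q ∈ fixSet H X,
      ∃ v : G, orderOf v = 2 ∧ v • q = q ∧ v ∈ centralizer (X : Set G) :=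
    fun X hX hXD ⟨p, hpa, hpb, hp⟩ => hCen X hX
      ⟨base H, fun t ht => mem_stabilizer_iff.1 (mem_inf.1 (hXD ht)).1, b,
        fun t ht => mem_stabilizer_iff.1 (mem_inf.1 (hXD ht)).2, p, hp, hab, Ne.symm hpa,
        Ne.symm hpb⟩
  have hpair : Exact.Pair H b s :=
    { se := hC.se
      hab := hab
      four := by
        obtain ⟨x, hxH, y, hyH, hx, hy, hne', hxy⟩ := BenderCons37.exists_four_mem hC.se hC.rank
        exact ⟨x, y, hx, mem_stab_base.2 hxH, hy, mem_stab_base.2 hyH, hne', hxy⟩
      trans := fun z z' => exists_conj_centre hC hab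
      faithful := fun e he1 heH htop => by
        have hn : zpowers e ≤ H.normalCore := by
          refine zpowers_le.2 fun g => ?_
          have hg : g * e = e * g := mem_centralizer_singleton_iff.1 (htop ▸ mem_top g)
          rw [hg, mul_inv_cancel_right]
          exact heH
        rw [BenderCons37.normalCore_eq_bot hC.se hC.core, le_bot_iff, zpowers_eq_bot] at hn
        exact he1 hn
      prime := hs
      core_ne := hne
      core_fix := hfix
      centre := by
        rintro x hx hx1 ⟨n, hn⟩ ⟨p, hpa, hpb, hxp⟩ q hxq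
        have hfixX : ∀ w : G ⧸ H, x • w = w → w ∈ fixSet H (zpowers x) := fun w hw t ht =>
          mem_stabilizer_iff.1 (zpowers_le.2 (mem_stabilizer_iff.2 hw) ht)
        have hX : IsPGroup s (zpowers x) := by
          obtain ⟨m, -, hm⟩ := (Nat.dvd_prime_pow hs).1 (orderOf_dvd_of_pow_eq_one hn)
          exact IsPGroup.of_card (n := m) (by rw [Nat.card_zpowers, hm])
        obtain ⟨v, hv, hvq, hvc⟩ := hcentre (zpowers x) hX (zpowers_le.2 hx)
          ⟨p, hpa, hpb, hfixX p hxp⟩ q (hfixX q hxq)
        exact ⟨v, hv, hvq, (mem_centralizer_iff.1 hvc x (mem_zpowers x)).symm⟩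
      moved := fun K hKS hn hK1 v hv hvb => by
        by_contra hall
        push Not at hall
        obtain ⟨c, hc⟩ := exists_fix hC.se hv
        have hsw : Swap H v (base H) b c := ⟨hv, hab, hvb, hc⟩
        have hKD : K ≤ stab2 (base H) b := hKS.trans (op_le _ _)
        have hcK : c ∈ fixSet H K := fun k hk => fix_unique hC.se hv
          (by rw [smul_smul, mul_inv_eq_iff_eq_mul.1 (hall k hk), mul_smul, hc]) hc
        obtain ⟨t, ht, hta, htK⟩ := hcentre K ((op_isPGroup s _).to_le hKS) hKD
          ⟨c, hsw.ne_left, hsw.ne_right, hcK⟩ (base H)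
          (fun k hk => mem_stabilizer_iff.1 (mem_inf.1 (hKD hk)).1)
        exact hcomm (hnormal v (base H) b c hsw K hK1 hKD hn
          (mem_normalizer_of_conj hv fun k hk => by rw [hall k hk]; exact hk) t ⟨ht, hta⟩
          (centralizer_le_normalizer _ htK))
      comm_in := commute_in_of_exact hC hs hA hG
      good := hGood b hab }
  intro x hx y hy hx2 hy2
  exact hpair.commute hx2 hx hy2 hy

end Cfsg.Agent.Bender85
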