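import Cfsg.Agent.Bender85.Defs
import Cfsg.Agent.OddLocal44.Quadratic

/-!
An odd element inverted by an involution and fixing the centre of the involution together with a
pair exchanged by it lies in the Fitting group of the two-point stabiliser, hence is trivial as
soon as the involution centralises the fixed part of every `O_r`.
-/

set_option autoImplicit false

namespace Cfsg.Agent.Bender85

open Subgroup MulAction Bender43 Bender43.Fixed
open scoped commutatorElement

universe u

namespace Inverted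

variable {D : Type*} [Group D] [Finite D]

omit [Finite D] in
/-- An element of odd order is a power of its square. -/
theorem exists_sq_pow (hodd : Odd (Nat.card D)) (g : D) : ∃ k : ℕ, (g * g) ^ k = g := by
  obtain ⟨m, hm⟩ := hodd.of_dvd_nat (orderOf_dvd_natCard g)
  refine ⟨m + 1, ?_⟩
  rw [← pow_two, ← pow_mul, show 2 * (m + 1) = (2 * m + 1) + 1 by ring, pow_succ, ← hm,
    pow_orderOf_eq_one, one_mul]

omit [Finite D] in
theorem commute_of_sq (hodd : Odd (Nat.card D)) {g y : D} (h : Commute (g * g) y) :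
    Commute g y := by
  obtain ⟨k, hk⟩ := exists_sq_pow hodd g
  exact hk ▸ h.pow_left k

/-- If `y` commutes with its conjugate by `g` being the same as by `g⁻¹`, it commutes with `g`. -/
theorem commute_of_conj_eq (hodd : Odd (Nat.card D)) {g y : D}
    (h : g * y * g⁻¹ = g⁻¹ * y * g) : Commute g y := by
  refine commute_of_sq hodd ?_
  show g * g * y = y * (g * g)
  calc g * g * y = g * (g * y * g⁻¹) * g := by group
    _ = g * (g⁻¹ * y * g) * g := by rw [h]
    _ = y * (g * g) := by group

/-- The Frattini subgroup of `O_r(D)`. -/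
def phi (r : ℕ) (D : Type*) [Group D] : Subgroup D :=
  (frattini (Cfsg.pCore r D)).map (Cfsg.pCore r D).subtype

instance phi_normal (r : ℕ) : (phi r D).Normal :=
  Thompson.map_subtype_normal_of_characteristic (Cfsg.pCore r D) (frattini (Cfsg.pCore r D))

/-- `O_r(D)` modulo its Frattini subgroup. -/
def bar (r : ℕ) (D : Type*) [Group D] [Finite D] : Subgroup (D ⧸ phi r D) :=
  (Cfsg.pCore r D).map (QuotientGroup.mk' (phi r D))

instance bar_normal (r : ℕ) : (bar r D).Normal :=
  Subgroup.Normal.map inferInstance _ (QuotientGroup.mk'_surjective _)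

/-- The action of `D` on `O_r(D)` modulo its Frattini subgroup. -/
noncomputable def act (r : ℕ) :
    D →* (D ⧸ phi r D) ⧸ centralizer ((bar r D : Subgroup (D ⧸ phi r D)) : Set (D ⧸ phi r D)) :=
  (QuotientGroup.mk' _).comp (QuotientGroup.mk' (phi r D))

/-- The elements acting on `O_r(D)` as elements of an `r`-core. -/
noncomputable def stab (r : ℕ) (D : Type*) [Group D] [Finite D] : Subgroup D :=
  (Cfsg.pCore r _).comap (act (D := D) r)

instance stab_normal (r : ℕ) : (stab r D).Normal := by
  rw [stab]; infer_instance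

variable {r : ℕ} [hr : Fact r.Prime]

theorem bar_commute {u w : D} (hu : u ∈ Cfsg.pCore r D) (hw : w ∈ Cfsg.pCore r D) :
    Commute (QuotientGroup.mk' (phi r D) u) (QuotientGroup.mk' (phi r D) w) := by
  show _ = _
  rw [← commutatorElement_eq_one_iff_mul_comm, ← map_commutatorElement]
  refine (QuotientGroup.eq_one_iff _).2 ⟨⁅(⟨u, hu⟩ : Cfsg.pCore r D), ⟨w, hw⟩⁆, ?_, rfl⟩
  exact PGroup.commutator_le_frattini Thompson.isPGroup_pCore
    (Subgroup.commutator_mem_commutator (Subgroup.mem_top _) (Subgroup.mem_top _))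

/-- An `r'`-element acting as an element of the `r`-core centralises `O_r(D)`. -/
theorem mem_centralizer_of_stab {y : D} (hy : y ∈ stab r D) (hc : (orderOf y).Coprime r) :
    y ∈ centralizer (Cfsg.pCore r D : Set D) := by
  have h1 : act r y = 1 := by
    obtain ⟨k, hk⟩ := (Thompson.isPGroup_pCore (p := r)) ⟨act r y, hy⟩
    have hk' : act r y ^ r ^ k = 1 := congrArg Subtype.val hk
    have hd := Nat.dvd_gcd (orderOf_map_dvd (act r) y) (orderOf_dvd_of_pow_eq_one hk')
    rw [Nat.Coprime.pow_right k hc] at hd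
    exact orderOf_eq_one_iff.mp (Nat.dvd_one.mp hd)
  set C := (centralizer ((bar r D : Subgroup (D ⧸ phi r D)) : Set (D ⧸ phi r D))).comap
    (QuotientGroup.mk' (phi r D)) with hC
  have hyC : y ∈ C := (QuotientGroup.eq_one_iff (QuotientGroup.mk' (phi r D) y)).1 h1
  refine Coprime.le_centralizer_of_frattini (zpowers y) (Cfsg.pCore r D)
    (by rw [normalizer_eq_top]; exact le_top) ?_ ?_ (mem_zpowers y)
  · rw [Nat.card_zpowers]
    obtain ⟨k, hk⟩ := IsPGroup.iff_card.1
      ((Thompson.isPGroup_pCore (p := r) (G := D)).to_subgroup (frattini (Cfsg.pCore r D)))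
    rw [hk]
    exact Nat.Coprime.pow_right k hc
  · intro a ha k hk
    have ha' : a ∈ C := zpowers_le.2 hyC ha
    refine (QuotientGroup.eq_one_iff _).1 ?_
    show QuotientGroup.mk' (phi r D) (a * k * a⁻¹ * k⁻¹) = 1
    have he := mem_centralizer_iff.1 (mem_comap.1 ha') _ (Subgroup.mem_map_of_mem _ hk)
    simp only [map_mul, map_inv]
    rw [← he]
    group

/-- An element inverted by an involutory automorphism and centralising the fixed elements of
`O_r(D)` acts quadratically on its Frattini quotient. -/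
theorem mem_stab (hr2 : r ≠ 2) (hodd : Odd (Nat.card D)) (α : D →* D) (hα : ∀ d, α (α d) = d)
    {x : D} (hx : α x = x⁻¹)
    (hc : ∀ y ∈ Cfsg.pCore r D, α y = y → Commute x y) : x ∈ stab r D := by
  set π := QuotientGroup.mk' (phi r D) with hπ
  have hQ : Odd (Nat.card (D ⧸ phi r D)) :=
    hodd.of_dvd_nat (Subgroup.card_quotient_dvd_card _)
  have hαR : ∀ u ∈ Cfsg.pCore r D, α u ∈ Cfsg.pCore r D := fun u hu =>
    Thompson.le_pCore (Subgroup.Normal.map inferInstance α fun d => ⟨α d, hα d⟩)
      (Thompson.isPGroup_pCore.map α) ⟨u, hu, rfl⟩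
  -- `x` centralises `u (α u)` modulo the Frattini subgroup
  have hs : ∀ u ∈ Cfsg.pCore r D, Commute (π x) (π u * π (α u)) := by
    intro u hu
    have hau := hαR u hu
    set a := (u * α u)⁻¹ * (α u * u) with ha
    have haΦ : a ∈ phi r D := by
      refine (QuotientGroup.eq_one_iff _).1 ?_
      show π a = 1
      have e : π u * π (α u) = π (α u) * π u := (bar_commute hu hau).eq
      rw [ha, map_mul, map_inv, map_mul, map_mul, e, inv_mul_cancel]
    have haα : α a = a⁻¹ := by
      simp only [ha, map_mul, map_inv, hα, mul_inv_rev, inv_inv]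
    obtain ⟨k, hk⟩ := exists_sq_pow hodd a
    set b := a ^ k with hb
    have hbb : b * b = a := by rw [hb, ← (Commute.refl a).mul_pow, hk]
    have hbΦ : b ∈ phi r D := pow_mem haΦ _
    have hbα : α b = b⁻¹ := by rw [hb, map_pow, haα, inv_pow]
    have hy : α (u * α u * b) = u * α u * b := by
      rw [map_mul, map_mul, hα, hbα]
      calc α u * u * b⁻¹ = u * α u * ((u * α u)⁻¹ * (α u * u)) * b⁻¹ := by group
        _ = u * α u * (b * b) * b⁻¹ := by rw [hbb, ha]
        _ = u * α u * b := by group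
    have hbR : b ∈ Cfsg.pCore r D := Subgroup.map_subtype_le _ hbΦ
    have h := (hc _ (mul_mem (mul_mem hu hau) hbR) hy).map π
    have hb1 : π b = 1 := (QuotientGroup.eq_one_iff b).2 hbΦ
    rwa [map_mul, map_mul, hb1, mul_one] at h
  refine mem_comap.2 (OddLocal44.quadratic_mem_pCore_quotient hr2 hQ (bar r D)
    (Thompson.isPGroup_pCore.map _) (π x) ?_)
  rintro _ ⟨u, hu, rfl⟩
  show ⁅⁅π u, π x⁆, π x⁆ = 1
  rw [← map_commutatorElement]
  set w := ⁅u, x⁆ with hw
  have hxu : x * u⁻¹ * x⁻¹ ∈ Cfsg.pCore r D :=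
    (inferInstance : (Cfsg.pCore r D).Normal).conj_mem _ (inv_mem hu) x
  have hwR : w ∈ Cfsg.pCore r D := by
    rw [hw, commutatorElement_def, mul_assoc u, mul_assoc u]
    exact mul_mem hu hxu
  have hxu' : x⁻¹ * u * x ∈ Cfsg.pCore r D := by
    simpa using (inferInstance : (Cfsg.pCore r D).Normal).conj_mem _ hu x⁻¹
  have hxw : x⁻¹ * w * x ∈ Cfsg.pCore r D := by
    simpa using (inferInstance : (Cfsg.pCore r D).Normal).conj_mem _ hwR x⁻¹
  set X := π x with hX
  set U := π u with hU
  set S := U * π (α u) with hS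
  have hSX : Commute X S := hs u hu
  have hαw : π (α w) = U⁻¹ * X⁻¹ * U * X := by
    have e : π (α u) = U⁻¹ * S := by rw [hS]; group
    rw [hw, commutatorElement_def]
    simp only [map_mul, map_inv, hx, inv_inv, e, ← hX]
    calc U⁻¹ * S * X⁻¹ * (U⁻¹ * S)⁻¹ * X = U⁻¹ * (S * X⁻¹ * S⁻¹) * U * X := by group
      _ = U⁻¹ * X⁻¹ * U * X := by rw [← hSX.inv_left.eq]; group
  have hαw' : π (α w) = X⁻¹ * π w * X := by
    rw [hαw]
    have e : U⁻¹ * (X⁻¹ * U * X) = (X⁻¹ * U * X) * U⁻¹ := by
      have := ((bar_commute hu hxu').inv_left).eq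
      simpa [map_mul, map_inv, ← hπ, ← hX, ← hU] using this
    calc U⁻¹ * X⁻¹ * U * X = U⁻¹ * (X⁻¹ * U * X) := by group
      _ = (X⁻¹ * U * X) * U⁻¹ := e
      _ = _ := by
        rw [hw, commutatorElement_def]
        simp only [map_mul, map_inv, ← hX, ← hU]
        group
  set W := π w with hW
  have h1 : Commute X (W * (X⁻¹ * W * X)) := hαw' ▸ hs w hwR
  have h2 : Commute W (X⁻¹ * W * X) := by
    have := (bar_commute hwR hxw)
    simpa [map_mul, map_inv, ← hπ, ← hX, ← hW] using this
  rw [commutatorElement_eq_one_iff_mul_comm]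
  refine (commute_of_conj_eq hQ (g := X) (y := W) (mul_right_cancel (b := W) ?_)).symm.eq
  calc X * W * X⁻¹ * W = X * (W * (X⁻¹ * W * X)) * X⁻¹ := by group
    _ = W * (X⁻¹ * W * X) := by rw [h1.eq]; group
    _ = X⁻¹ * W * X * W := h2.eq

/-- An element of a group of odd order inverted by an involutory automorphism and centralising the
fixed elements of every `O_r` lies in the Fitting subgroup. -/
theorem mem_fitting (hodd : Odd (Nat.card D)) (α : D →* D) (hα : ∀ d, α (α d) = d) {x : D}
    (hx : α x = x⁻¹)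
    (hc : ∀ r : ℕ, r.Prime → ∀ y ∈ Cfsg.pCore r D, α y = y → Commute x y) :
    x ∈ Cfsg.fittingSubgroup D := by
  have := solvable_of_odd hodd
  have h2 : Cfsg.pCore 2 D = ⊥ := by
    rw [eq_bot_iff]
    intro z hz
    obtain ⟨k, hk⟩ := (Thompson.isPGroup_pCore (p := 2)) ⟨z, hz⟩
    have hk' : z ^ 2 ^ k = 1 := congrArg Subtype.val hk
    have hd := Nat.dvd_gcd (orderOf_dvd_natCard z) (orderOf_dvd_of_pow_eq_one hk')
    rw [Nat.Coprime.pow_right k (Nat.coprime_two_right.2 hodd)] at hd
    exact mem_bot.2 (orderOf_eq_one_iff.mp (Nat.dvd_one.mp hd))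
  refine FG72.mem_of_forall_primePow _ x fun q hq j hj i hi => ?_
  rcases Nat.eq_zero_or_pos j with rfl | hj0
  · rw [pow_zero, orderOf_eq_one_iff] at hi
    rw [hi]; exact one_mem _
  have hqD : q ∣ Nat.card D :=
    (dvd_pow_self q hj0.ne').trans (hj.trans (orderOf_dvd_natCard x))
  have hq2 : q ≠ 2 := by rintro rfl; exact hodd.not_two_dvd_nat hqD
  have : Fact q.Prime := ⟨hq⟩
  set N : Subgroup D := stab q D ⊓
    ⨅ s : {s : ℕ // s.Prime ∧ s ≠ q}, centralizer (Cfsg.pCore s.1 D : Set D) with hN
  have : (⨅ s : {s : ℕ // s.Prime ∧ s ≠ q},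
      centralizer (Cfsg.pCore s.1 D : Set D)).Normal :=
    Subgroup.normal_iInf_normal fun _ => inferInstance
  have hNn : N.Normal := by rw [hN]; infer_instance
  have hxN : x ^ i ∈ N := by
    refine mem_inf.2 ⟨pow_mem (mem_stab hq2 hodd α hα hx (hc q hq)) i, mem_iInf.2 ?_⟩
    rintro ⟨s, hs, hsq⟩
    by_cases hs2 : s = 2
    · subst hs2
      show x ^ i ∈ centralizer (Cfsg.pCore 2 D : Set D)
      rw [h2, mem_centralizer_iff]
      intro z hz
      rw [SetLike.mem_coe, mem_bot] at hz
      rw [hz, one_mul, mul_one]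
    have : Fact s.Prime := ⟨hs⟩
    refine mem_centralizer_of_stab (pow_mem (mem_stab hs2 hodd α hα hx (hc s hs)) i) ?_
    rw [hi]
    exact Nat.Coprime.pow_left j ((Nat.coprime_primes hq hs).2 (Ne.symm hsq))
  -- elements of `N` of order prime to `q` are central in `N`
  have hcent : ∀ y ∈ N, ¬ q ∣ orderOf y → ∀ n ∈ N, Commute n y := by
    intro y hy hyq n hn
    refine (mem_centralizer_singleton_iff.1 (?_ : n ∈ centralizer ({y} : Set D)))
    have hyF : y ∈ Cfsg.fittingSubgroup D := by
      refine Fitting.centralizer_fitting_le (mem_centralizer_iff.2 fun z hz => ?_)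
      have hle : Cfsg.fittingSubgroup D ≤ centralizer ({y} : Set D) := by
        rw [Fitting.fitting_eq_iSup_pCore, iSup_le_iff]
        rintro ⟨s, hs⟩ z hz
        refine mem_centralizer_singleton_iff.2 ?_
        by_cases hsq : s = q
        · subst hsq
          exact mem_centralizer_iff.1 (mem_centralizer_of_stab (mem_inf.1 hy).1
            ((hq.coprime_iff_not_dvd.2 hyq).symm)) _ hz
        · exact mem_centralizer_iff.1 (mem_iInf.1 (mem_inf.1 hy).2 ⟨s, hs, hsq⟩) _ hz
      exact mem_centralizer_singleton_iff.1 (hle hz)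
    refine FG72.mem_of_forall_primePow (centralizer {n}) y (fun s hs l hl k hk => ?_) |>
      fun h => mem_centralizer_singleton_iff.2 (mem_centralizer_singleton_iff.1 h).symm
    rcases Nat.eq_zero_or_pos l with rfl | hl0
    · rw [pow_zero, orderOf_eq_one_iff] at hk
      rw [hk]; exact one_mem _
    have hsq : s ≠ q := by rintro rfl; exact hyq ((dvd_pow_self s hl0.ne').trans hl)
    have : Fact s.Prime := ⟨hs⟩
    exact mem_centralizer_singleton_iff.2 (mem_centralizer_iff.1
      (mem_iInf.1 (mem_inf.1 hn).2 ⟨s, hs, hsq⟩) _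
      (FG72.mem_pCore_of_fitting (pow_mem hyF k) hk))
  have hnil : Group.IsNilpotent N := by
    refine Group.of_quotient_center_nilpotent ?_
    refine IsPGroup.isNilpotent (p := q) fun z => ?_
    induction z using QuotientGroup.induction_on with
    | _ n =>
    refine ⟨(Nat.card D).factorization q, ?_⟩
    rw [← QuotientGroup.mk_pow, QuotientGroup.eq_one_iff, Subgroup.mem_center_iff]
    intro g
    refine Subtype.ext ?_
    push_cast
    refine hcent _ (pow_mem n.2 _) (fun hdvd => ?_) _ g.2
    refine Nat.not_dvd_ordCompl hq (Nat.card_pos (α := D)).ne' (hdvd.trans ?_)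
    refine orderOf_dvd_of_pow_eq_one ?_
    rw [← pow_mul, Nat.ordProj_mul_ordCompl_eq_self, pow_card_eq_one']
  exact (le_sSup (show N ∈ {M : Subgroup D | M.Normal ∧ Group.IsNilpotent M} from
    ⟨hNn, hnil⟩) : N ≤ Cfsg.fittingSubgroup D) hxN

end Inverted

variable {G : Type u} [Group G] [Finite G] {H : Subgroup G}

/-- If swappers centralise the fixed parts of the `O_r` of two-point stabilisers, no non-trivial
element fixing a swapped pair and the centre is inverted by the swapper. -/
theorem noRealFixed_of_cores (hC : Ctx H)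
    (h : ∀ v a b c, Swap H v a b c → ∀ r : ℕ, r.Prime → ∀ x ∈ op r (stab2 a b),
      x • c = c → v * x = x * v) : NoRealFixed H := by
  intro v x a b c hs hxa hxb hxc hvx
  set D := stab2 a b with hD
  have hodd : Odd (Nat.card D) := odd_stab2 hC.se hs.ne
  have hvi : v⁻¹ = v := TwoFusionB.inv_eq_of_inv hs.inv
  have hvv : v * v = 1 := TwoFusionB.sq_eq_one_of_inv hs.inv
  have hvD : ∀ d ∈ D, v * d * v ∈ D := fun d hd => by
    have := conj_mem_stab2 hs.inv hs.swap hd
    rwa [hvi] at this
  let α : D →* D := MonoidHom.mk' (fun d => ⟨v * d * v, hvD d d.2⟩) fun d e => by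
    refine Subtype.ext ?_
    show v * ((d : G) * e) * v = v * d * v * (v * e * v)
    calc v * ((d : G) * e) * v = v * d * (v * v) * e * v := by rw [hvv]; group
      _ = _ := by group
  have hα : ∀ d, α (α d) = d := fun d => Subtype.ext (by
    show v * (v * d * v) * v = d
    calc v * (v * d * v) * v = (v * v) * d * (v * v) := by group
      _ = d := by rw [hvv]; group)
  set x' : D := ⟨x, mem_inf.2 ⟨hxa, hxb⟩⟩ with hx'
  have hF : x' ∈ Cfsg.fittingSubgroup D := by
    refine Inverted.mem_fitting hodd α hα (x := x') (Subtype.ext hvx) fun r hr y hy hyα => ?_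
    have hyv : v * y * v = y := congrArg Subtype.val hyα
    have hyc : (y : G) • c = c := by
      refine TwoFusionB.fix_unique hC.se hs.inv (x := (y : G) • c) ?_ hs.centre
      have e : v * (y : G) = y * v := by
        calc v * (y : G) = v * y * (v * v) := by rw [hvv, mul_one]
          _ = v * y * v * v := by group
          _ = y * v := by rw [hyv]
      rw [smul_smul, e, ← smul_smul, hs.centre]
    have hz : x' * y * x'⁻¹ ∈ Cfsg.pCore r D :=
      (inferInstance : (Cfsg.pCore r D).Normal).conj_mem y hy x'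
    have hzc : ((x' * y * x'⁻¹ : D) : G) • c = c := by
      push_cast
      rw [mul_smul, mul_smul, inv_smul_eq_iff.2 hxc.symm, hyc, hxc]
    have hzv : v * (x * y * x⁻¹) = x * y * x⁻¹ * v :=
      h v a b c hs r hr _ (Subgroup.mem_map_of_mem _ hz) hzc
    refine Inverted.commute_of_conj_eq hodd ?_
    refine Subtype.ext ?_
    push_cast
    show x * y * x⁻¹ = x⁻¹ * y * x
    symm
    calc x⁻¹ * y * x = v * x * v * y * (v * x * v)⁻¹ := by rw [hvx, inv_inv]
      _ = v * x * (v * y * v) * x⁻¹ * v := by rw [mul_inv_rev, mul_inv_rev, hvi]; group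
      _ = v * (x * y * x⁻¹) * v := by rw [hyv]; group
      _ = x * y * x⁻¹ * (v * v) := by rw [hzv]; group
      _ = _ := by rw [hvv, mul_one]
  have key : x' ∈ (⊥ : Subgroup D) := by
    refine FG72.mem_of_forall_primePow _ x' fun r hr j _ i hi => ?_
    have : Fact r.Prime := ⟨hr⟩
    have hz : x' ^ i ∈ Cfsg.pCore r D := FG72.mem_pCore_of_fitting (pow_mem hF i) hi
    have hzc : ((x' ^ i : D) : G) • c = c := by
      push_cast
      exact mem_stabilizer_iff.1 (pow_mem (mem_stabilizer_iff.2 hxc : x ∈ stabilizer G c) i)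
    have hzv : v * x ^ i = x ^ i * v := by
      simpa [hx'] using h v a b c hs r hr _ (Subgroup.mem_map_of_mem _ hz) hzc
    have hinv : v * x ^ i * v = (x ^ i)⁻¹ := by
      rw [← inv_pow, ← hvx]
      conv_lhs => rw [show v * x ^ i * v = v * x ^ i * v⁻¹ by rw [hvi]]
      rw [← conj_pow, hvi]
    rw [hzv, mul_assoc, hvv, mul_one] at hinv
    rw [mem_bot]
    obtain ⟨k, hk⟩ := Inverted.exists_sq_pow hodd (x' ^ i)
    have h1 : x' ^ i * x' ^ i = 1 := Subtype.ext (by
      push_cast
      show x ^ i * x ^ i = 1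
      nth_rewrite 2 [hinv]
      exact mul_inv_cancel _)
    rw [← hk, h1, one_pow]
  exact congrArg Subtype.val (mem_bot.1 key)

/-- `G` is transitive on ordered pairs of distinct points. -/
theorem exists_map_pair (hC : Ctx H) {a b a' b' : G ⧸ H} (h : a ≠ b) (h' : a' ≠ b') :
    ∃ g : G, g • a = a' ∧ g • b = b' := by
  have tr := (Bender43.dichotomy hC.se).resolve_right fun hh => by
    have h2 := hh.2
    rw [hC.core, bot_sup_eq] at h2
    exact hC.se.1 h2
  obtain ⟨g, hg⟩ := MulAction.exists_smul_eq G a (QuotientGroup.mk 1 : G ⧸ H)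
  obtain ⟨g', hg'⟩ := MulAction.exists_smul_eq G a' (QuotientGroup.mk 1 : G ⧸ H)
  obtain ⟨g₁, hg₁⟩ := QuotientGroup.mk_surjective (g • b)
  obtain ⟨g₂, hg₂⟩ := QuotientGroup.mk_surjective (g' • b')
  have aux : ∀ {z : G} {p q : G ⧸ H} {k : G}, p ≠ q → k • p = (QuotientGroup.mk 1 : G ⧸ H) →
      QuotientGroup.mk z = k • q → z ∉ H := by
    intro z p q k hpq hp hz hzH
    refine hpq (smul_left_cancel k (hp.trans ?_))
    rw [← hz, QuotientGroup.eq, inv_one, one_mul]
    exact hzH
  obtain ⟨k, hk, hk'⟩ := tr g₁ g₂ (aux h hg hg₁) (aux h' hg' hg₂)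
  have hk1 : k • (QuotientGroup.mk 1 : G ⧸ H) = QuotientGroup.mk 1 :=
    TwoFusionB.smul_one_eq_iff.2 hk
  refine ⟨g'⁻¹ * (k * g), ?_, ?_⟩
  · rw [mul_smul, mul_smul, hg, hk1, ← hg', inv_smul_smul]
  · have e : k • (QuotientGroup.mk g₁ : G ⧸ H) = QuotientGroup.mk g₂ :=
      (QuotientGroup.eq.2 hk').symm
    rw [mul_smul, mul_smul, ← hg₁, e, hg₂, inv_smul_smul]

/-- In the open core case every prime with non-trivial `O_r` of a two-point stabiliser is exact
abelian: take the centre of `O_r`. -/
theorem exactAbelian_of_openCore (hC : Ctx H) (hO : OpenCore H) {r : ℕ} (hr : r.Prime)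
    {a b : G ⧸ H} (hab : a ≠ b) (hR : op r (stab2 a b) ≠ ⊥) : ExactAbelian H r := by
  have : Fact r.Prime := ⟨hr⟩
  intro p q hpq
  obtain ⟨g, hgp, hgq⟩ := exists_map_pair hC hpq hab
  set D := stab2 p q with hD
  set R := op r D with hRdef
  have hR0 : R ≠ ⊥ := by
    intro h0
    refine hR ?_
    have hmap : D.map (MulAut.conj g).toMonoidHom = stab2 a b := by
      rw [hD, Subgroup.map_inf _ _ _ (MulAut.conj g).injective, ← stabilizer_smul_eq_stabilizer_map_conj,
        ← stabilizer_smul_eq_stabilizer_map_conj, hgp, hgq]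
    rw [← hmap, op_map_equiv, ← hRdef, h0, Subgroup.map_bot]
  refine ⟨(center R).map R.subtype, (map_subtype_le _).trans (op_le r D),
    ((op_isPGroup r D).to_subgroup _).map _, inferInstance, ?_, ?_⟩
  · exact (le_normalizer_op r D).trans (OddLocal43.normalizes_map_characteristic _)
  · obtain ⟨v, hv, hvswap⟩ := TwoFusionB.exists_moveInv hC.se hpq
    obtain ⟨c, hc⟩ := TwoFusionB.exists_fix hC.se hv
    refine hO v p q c ⟨hv, hpq, hvswap, hc⟩ _ ((map_subtype_le _).trans (op_le r D)) ?_ ?_ ?_
    · intro h0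
      rw [map_eq_bot_iff_of_injective _ R.subtype_injective] at h0
      have : Nontrivial R := (Subgroup.nontrivial_iff_ne_bot R).2 hR0
      exact (ne_of_gt (IsPGroup.bot_lt_center (op_isPGroup r D))) h0
    · exact (le_normalizer_op r D).trans (OddLocal43.normalizes_map_characteristic _)
    · exact OddLocal43.normalizes_map_characteristic (center R)
        (OddLocal43.normalizes_map_characteristic (Cfsg.pCore r D) (norm_stab2 hv hvswap))

/-- In the open core case an element inverted by a swapper and fixing its centre is trivial. -/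
theorem noRealFixed_of_openCore (hC : Ctx H) (hO : OpenCore H)
    (hG : ∀ r : ℕ, r.Prime → ExactAbelian H r → GoodAt H r) : NoRealFixed H := by
  refine noRealFixed_of_cores hC fun v a b c hs r hr x hx hxc => ?_
  by_cases hR : op r (stab2 a b) = ⊥
  · rw [hR, mem_bot] at hx
    rw [hx, one_mul, mul_one]
  set R := op r (stab2 a b) with hRdef
  set X := R ⊓ stabilizer G c with hX
  have hca : c ≠ a := by
    rintro rfl
    exact hs.ne (hs.centre.symm.trans hs.swap)
  have hcb : c ≠ b := by
    rintro rfl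
    exact hs.ne (smul_left_cancel v (hs.swap.trans hs.centre.symm))
  have hfix : a ∈ fixSet H X ∧ b ∈ fixSet H X ∧ c ∈ fixSet H X :=
    ⟨fun t ht => (mem_inf.1 (op_le r (stab2 a b) (mem_inf.1 ht).1)).1,
      fun t ht => (mem_inf.1 (op_le r (stab2 a b) (mem_inf.1 ht).1)).2,
      fun t ht => (mem_inf.1 ht).2⟩
  have hvX : v ∈ normalizer (X : Set G) := by
    have hvR : v ∈ normalizer (R : Set G) :=
      OddLocal43.normalizes_map_characteristic (Cfsg.pCore r (stab2 a b))
        (norm_stab2 hs.inv hs.swap)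
    refine mem_normalizer_of_conj hs.inv fun g hg => mem_inf.2
      ⟨(mem_normalizer_iff.1 hvR g).1 (mem_inf.1 hg).1, ?_⟩
    rw [mem_stabilizer_iff, mul_smul, mul_smul, inv_smul_eq_iff.2 hs.centre.symm,
      mem_stabilizer_iff.1 (mem_inf.1 hg).2, hs.centre]
  have hgood := hG r hr (exactAbelian_of_openCore hC hO hr hs.ne hR) X
    ((op_isPGroup r (stab2 a b)).to_le inf_le_left)
    ⟨a, hfix.1, b, hfix.2.1, c, hfix.2.2, hs.ne, hca.symm, hcb.symm⟩ v hs.inv hvX
    ⟨c, hfix.2.2, hs.centre⟩
  exact (mem_centralizer_iff.1 hgood x (mem_inf.2 ⟨hx, mem_stabilizer_iff.2 hxc⟩)).symm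

end Cfsg.Agent.Bender85
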