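import Cfsg.Agent.Bender85.Defs
import Cfsg.Agent.BenderCons37.Main

/-!
The induction of the second part of Bender's theorem, and the forms of S1221 and S1223 that follow
from its conclusion.
-/

set_option autoImplicit false

namespace Cfsg.Agent.Bender85

open Subgroup MulAction
open BenderCons37 (RankTwo stronglyEmbedded_map rankTwo_quotient oddCore_quotient oddCore_le
  oddCore_card_odd no_four_of_not_rankTwo exists_common_involution)

universe u

/-- The conclusion for every group. -/
def ConcStmt : Prop :=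
  ∀ (G : Type u) [Group G] [Finite G] (H : Subgroup G), Cfsg.IsStronglyEmbedded H → RankTwo G →
    Cfsg.oddCore G = ⊥ → Conc H

/-- Induction on the order. -/
theorem conc
    (hcomm : ∀ {G : Type u} [Group G] [Finite G] {H : Subgroup G}, Ctx H → Comm H)
    (hcore : ∀ {G : Type u} [Group G] [Finite G] {H : Subgroup G}, Ctx H → Comm H → CoreFree H) :
    ConcStmt.{u} := by
  suffices h : ∀ n, Below.{u} n from
    fun G _ _ H => h (Nat.card G + 1) G (Nat.lt_succ_self _) H
  intro n
  induction n with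
  | zero => exact fun L _ _ h => absurd h (Nat.not_lt_zero _)
  | succ n ih =>
    intro L _ _ hlt M hM h2 hO
    have hC : Ctx M := ⟨inferInstance, hM, h2, hO, fun K _ _ hK =>
      ih K (hK.trans_le (Nat.lt_succ_iff.1 hlt))⟩
    exact ⟨hcomm hC, hcore hC (hcomm hC)⟩

variable {G : Type u} [Group G] [Finite G] {H : Subgroup G}

/-- The odd core of a strongly embedded subgroup lies in the odd core of the group (S1221). -/
theorem oddCore_map_le (hall : ConcStmt.{u})
    (hH : Cfsg.IsStronglyEmbedded H) :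
    (Cfsg.oddCore ↥H).map H.subtype ≤ Cfsg.oddCore G := by
  set O := Cfsg.oddCore G with hOG
  haveI : O.Normal := by rw [hOG]; infer_instance
  set π := QuotientGroup.mk' O
  set K := Cfsg.oddCore ↥H with hK
  haveI : K.Normal := by rw [hK]; infer_instance
  have hKodd : Odd (Nat.card (K.map H.subtype)) := by
    rw [Subgroup.card_map_of_injective H.subtype_injective]
    exact oddCore_card_odd
  by_cases h : RankTwo G
  · have hmap : K.map (π.subgroupMap H) ≤ Cfsg.oddCore ↥(H.map π) :=
      Thompson.map_pPrimeCore_le_of_surjective _ (π.subgroupMap_surjective H)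
    have h0 : CoreFree (H.map π) := (hall (G ⧸ O) (H.map π) (stronglyEmbedded_map hH h)
      (rankTwo_quotient h) oddCore_quotient).core
    rintro _ ⟨k, hk, rfl⟩
    rw [← QuotientGroup.eq_one_iff]
    have h1 : π (k : G) ∈ (Cfsg.oddCore ↥(H.map π)).map (H.map π).subtype :=
      ⟨π.subgroupMap H k, hmap (mem_map_of_mem _ hk), rfl⟩
    rwa [show (Cfsg.oddCore ↥(H.map π)).map (H.map π).subtype = ⊥ from h0, mem_bot] at h1
  · have hsup : O ⊔ H = ⊤ :=
      (Bender43.rank_one_case hH fun x y hx hy hxy => no_four_of_not_rankTwo h hx hy hxy).2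
    set N := O ⊔ K.map H.subtype with hN
    have hHN : H ≤ normalizer (K.map H.subtype : Set G) := Bender43.le_normalizer_map_subtype K
    haveI hNn : N.Normal := by
      rw [← normalizer_eq_top_iff, eq_top_iff, ← hsup]
      refine sup_le (le_trans le_sup_left Subgroup.le_normalizer) fun g hg => ?_
      rw [mem_normalizer_iff_map_conj_eq, hN, Subgroup.map_sup,
        mem_normalizer_iff_map_conj_eq.1 (Subgroup.normalizer_eq_top (H := O) ▸ mem_top g),
        mem_normalizer_iff_map_conj_eq.1 (hHN hg)]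
    have hodd : Odd (Nat.card N) :=
      (oddCore_card_odd.mul hKodd).of_dvd_nat (Thompson.card_sup_dvd_mul (K.map H.subtype) O |>
        fun h => by rwa [sup_comm, mul_comm] at h)
    exact le_sup_right.trans (Thompson.le_pPrimeCore hNn (Nat.coprime_two_right.2 hodd))

/-- An element inverted by an involution outside `H` has a centraliser of odd order (S1223). -/
theorem odd_centralizer (hall : ConcStmt.{u})
    (hH : Cfsg.IsStronglyEmbedded H) (hcore : H.normalCore = ⊥) (u : G) (hu : orderOf u = 2)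
    (huH : u ∉ H) (j : G) (hj : j ∈ H ⊓ H.map (MulAut.conj u).toMonoidHom) (hj1 : j ≠ 1)
    (hinv : u * j * u⁻¹ = j⁻¹) : Odd (Nat.card (centralizer ({j} : Set G))) := by
  haveI : Fact (Nat.Prime 2) := ⟨Nat.prime_two⟩
  have hjodd : Odd (orderOf j) := (hH.2.2 u huH).of_dvd_nat (orderOf_dvd_natCard _ hj)
  rw [← Nat.not_even_iff_odd]
  intro hev
  obtain ⟨s, hs, hs2⟩ := Involution.exists_involution_of_even hev
  have hsj : s * j = j * s := mem_centralizer_singleton_iff.1 hs
  obtain ⟨c, hc, hcu, hcs⟩ := exists_common_involution hu hs2 hjodd hj1 hinv hsj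
  have hne : u ≠ s := by
    rintro rfl
    rw [hsj, mul_inv_cancel_right] at hinv
    exact hj1 (orderOf_eq_one_iff.1 (Nat.eq_one_of_dvd_coprimes (Nat.coprime_two_right.2 hjodd)
      dvd_rfl (orderOf_dvd_of_pow_eq_one (by rw [pow_two, ← eq_inv_iff_mul_eq_one]; exact hinv))))
  by_cases h : RankTwo G
  swap
  · exact hne ((no_four_of_not_rankTwo h hc hu hcu).symm.trans (no_four_of_not_rankTwo h hc hs2 hcs))
  have hO : Cfsg.oddCore G = ⊥ :=
    le_bot_iff.1 (hcore ▸ Subgroup.normal_le_normalCore.2 (oddCore_le hH h))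
  -- all three involutions fix the same coset
  obtain ⟨p, hp⟩ := TwoFusionB.exists_fix hH hc
  have hfix : ∀ z : G, Commute c z → z • p = p := fun z hz =>
    (TwoFusionB.fix_unique hH hc hp (by rw [smul_smul, hz.eq, ← smul_smul, hp])).symm
  obtain ⟨g, rfl⟩ := QuotientGroup.mk_surjective p
  set e := MulAut.conj g⁻¹ with he
  have hmem : ∀ z : G, Commute c z → e z ∈ H := fun z hz => by
    simpa [he] using TwoFusionB.smul_mk_eq_iff.1 (hfix z hz)
  have hjH : e j ∈ H := by
    -- `s` fixes only that coset, so `j` does too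
    have h1 := TwoFusionB.fix_unique hH hs2
      (show s • (j • (QuotientGroup.mk g : G ⧸ H)) = j • QuotientGroup.mk g by
        rw [smul_smul, hsj, ← smul_smul, hfix s hcs]) (hfix s hcs)
    simpa [he] using TwoFusionB.smul_mk_eq_iff.1 h1
  have hcomm := (hall G H hH h hO).comm
  have hinH : e (j * u⁻¹ * j⁻¹) ∈ H := by
    rw [map_mul, map_mul, map_inv, map_inv]
    exact mul_mem (mul_mem hjH (inv_mem (hmem u hcu))) (inv_mem hjH)
  have h2' : orderOf (j * u⁻¹ * j⁻¹) = 2 := by rw [TwoFusionB.orderOf_conj_eq, orderOf_inv, hu]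
  have hcu' : Commute u (j * u⁻¹ * j⁻¹) := by
    have h3 := hcomm _ (hmem u hcu) _ hinH ((MulEquiv.orderOf_eq e u).trans hu)
      ((MulEquiv.orderOf_eq e _).trans h2')
    exact e.injective ((map_mul e _ _).trans (h3.eq.trans (map_mul e _ _).symm))
  have hprod : u * (j * u⁻¹ * j⁻¹) = (j ^ 2)⁻¹ := by
    rw [show u * (j * u⁻¹ * j⁻¹) = u * j * u⁻¹ * j⁻¹ by group, hinv, pow_two, mul_inv_rev]
  have h4 : ((j ^ 2)⁻¹) ^ 2 = 1 := by
    rw [← hprod, hcu'.mul_pow, pow_two, TwoFusionB.sq_eq_one_of_inv hu, pow_two,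
      TwoFusionB.sq_eq_one_of_inv h2', one_mul]
  rw [inv_pow, inv_eq_one, ← pow_mul] at h4
  exact hj1 (orderOf_eq_one_iff.1 (Nat.eq_one_of_dvd_coprimes
    ((Nat.coprime_two_right.2 hjodd).pow_right 2) dvd_rfl (orderOf_dvd_of_pow_eq_one h4)))

end Cfsg.Agent.Bender85
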